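import Groth.Agent.CommAlgDim.Regular
import Mathlib.RingTheory.Depth.Rees
import Mathlib.RingTheory.Ideal.AssociatedPrime.Finiteness
import Mathlib.RingTheory.KrullDimension.NonZeroDivisors

/-! Cohen–Macaulay local rings and the numerical criterion for regular ideals. -/

set_option autoImplicit false
set_option maxHeartbeats 400000
set_option linter.style.haveILetI false
universe u

open IsLocalRing RingTheory.Sequence CategoryTheory Abelian Limits Pointwise

namespace CommAlgDim

variable {R : Type u} [CommRing R] [IsLocalRing R] [IsNoetherianRing R]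

/-- A Cohen–Macaulay local ring: some regular sequence has as many terms as the dimension. -/
def IsCM (R : Type u) [CommRing R] : Prop :=
  ∃ rs : List R, IsRegular R rs ∧ ringKrullDim R = (rs.length : ℕ)

omit [IsLocalRing R] [IsNoetherianRing R] in
theorem spanFinrank_ofList_le (rs : List R) : (Ideal.ofList rs).spanFinrank ≤ rs.length := by
  classical
  rw [show Ideal.ofList rs = Ideal.span (rs.toFinset : Set R) from congrArg Ideal.span (List.coe_toFinset rs).symm]
  refine (Submodule.spanFinrank_span_le_ncard_of_finite (Finset.finite_toSet _)).trans ?_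
  rw [Set.ncard_coe_finset]
  exact List.toFinset_card_le _

theorem length_le_ringKrullDim_of_mem_associatedPrimes : ∀ (rs : List R) (M : Type u)
    [AddCommGroup M] [Module R M] [Module.Finite R M], IsRegular M rs →
    ∀ P ∈ associatedPrimes R M, (rs.length : WithBot ℕ∞) ≤ ringKrullDim (R ⧸ P)
  | [], M, _, _, _, _, P, hP => by
    haveI := Ideal.Quotient.nontrivial_iff.2 hP.1.ne_top
    simpa using ringKrullDim_nonneg_of_nontrivial (R := R ⧸ P)
  | r :: rs, M, _, _, _, h, P, hP => by
    obtain ⟨hr, hrs⟩ := (isRegular_cons_iff M r rs).1 h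
    have hrm : r ∈ maximalIdeal R := le_maximalIdeal (fun hI => h.top_ne_smul (by rw [show Ideal.ofList (r :: rs) = ⊤ from hI]; simp))
      (Ideal.subset_span (by simp : r ∈ {x | x ∈ r :: rs}))
    obtain ⟨hPp, f, hf⟩ := (isAssociatedPrime_iff_exists_injective_linearMap _ _).1 hP
    have hrP : r ∉ P := fun hrP => by
      have h1 : r • f 1 = r • (0 : M) := by
        rw [← map_smul, Algebra.smul_def, Ideal.Quotient.algebraMap_eq,
          Ideal.Quotient.eq_zero_iff_mem.2 hrP, zero_mul, map_zero, smul_zero]
      haveI := Ideal.Quotient.nontrivial_iff.2 hPp.ne_top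
      exact one_ne_zero (hf ((hr h1).trans (map_zero f).symm))
    let N := Submodule.torsionBySet R M P
    obtain ⟨z, hzN, hz⟩ : ∃ z ∈ N, z ∉ r • (⊤ : Submodule R M) := by
      by_contra hcon
      push Not at hcon
      have hle : N ≤ Ideal.span {r} • N := by
        intro z hz
        obtain ⟨w, -, rfl⟩ := (Submodule.mem_smul_pointwise_iff_exists _ _ _).1 (hcon z hz)
        refine Submodule.smul_mem_smul (Ideal.mem_span_singleton_self r)
          ((Submodule.mem_torsionBySet_iff _ _).2 fun p => hr ?_)
        have := (Submodule.mem_torsionBySet_iff _ _).1 hz p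
        show r • ((p : R) • w) = r • (0 : M)
        rw [smul_zero, smul_comm, this]
      have hN := Submodule.eq_bot_of_le_smul_of_le_jacobson_bot _ N (IsNoetherian.noetherian _) hle
        ((Ideal.span_singleton_le_iff_mem _).2 ((jacobson_eq_maximalIdeal (⊥ : Ideal R) bot_ne_top).ge hrm))
      have h1 : f 1 ∈ N := (Submodule.mem_torsionBySet_iff _ _).2 fun p => by
        rw [← map_smul, Algebra.smul_def, Ideal.Quotient.algebraMap_eq,
          Ideal.Quotient.eq_zero_iff_mem.2 p.2, zero_mul, map_zero]
      rw [hN, Submodule.mem_bot] at h1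
      haveI := Ideal.Quotient.nontrivial_iff.2 hPp.ne_top
      exact one_ne_zero (hf (h1.trans (map_zero f).symm))
    obtain ⟨Q, hQ, hQle⟩ := exists_le_isAssociatedPrime_of_isNoetherianRing R
      (Submodule.Quotient.mk z : QuotSMulTop r M) (fun h0 => hz ((Submodule.Quotient.mk_eq_zero _).1 h0))
    have hPQ : P ≤ Q := fun p hp => hQle (Submodule.mem_colon_singleton.2 (by
      rw [Submodule.mem_bot, ← Submodule.Quotient.mk_smul,
        (Submodule.mem_torsionBySet_iff _ _).1 hzN ⟨p, hp⟩, Submodule.Quotient.mk_zero]))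
    have hrQ : r ∈ Q := hQle (Submodule.mem_colon_singleton.2 (by
      rw [Submodule.mem_bot, ← Submodule.Quotient.mk_smul]
      exact (Submodule.Quotient.mk_eq_zero _).2 (Submodule.smul_mem_pointwise_smul _ _ ⊤ trivial)))
    have hnz : (Ideal.Quotient.mk P r) ∈ nonZeroDivisors (R ⧸ P) :=
      mem_nonZeroDivisors_of_ne_zero fun h0 => hrP (Ideal.Quotient.eq_zero_iff_mem.1 h0)
    calc ((r :: rs).length : WithBot ℕ∞) = rs.length + 1 := by simp
      _ ≤ ringKrullDim (R ⧸ Q) + 1 :=
          add_le_add_left (length_le_ringKrullDim_of_mem_associatedPrimes rs _ hrs Q hQ) 1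
      _ ≤ ringKrullDim (R ⧸ P) :=
          ringKrullDim_succ_le_of_surjective (Ideal.Quotient.factor hPQ) (Ideal.Quotient.factor_surjective _)
            hnz (Ideal.Quotient.eq_zero_iff_mem.2 hrQ)

/-- A regular element of the maximal ideal lowers the depth by at most one. -/
theorem exists_isRegular_quotient_singleton {rs : List R} (h : IsRegular R rs) {y : R}
    (hy : IsSMulRegular R y) (hym : y ∈ maximalIdeal R) :
    ∃ rs' : List (R ⧸ Ideal.span {y}), rs'.length = rs.length - 1 ∧
      IsRegular (R ⧸ Ideal.span {y}) rs' := by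
  let M := ModuleCat.of R R
  have hsmul : ∀ (N : Type u) [AddCommGroup N] [Module R N] [Module.Finite R N] [Nontrivial N],
      maximalIdeal R • (⊤ : Submodule R N) < ⊤ := fun N _ _ _ _ => lt_top_iff_ne_top.2 fun e =>
    top_ne_bot (Submodule.eq_bot_of_le_smul_of_le_jacobson_bot _ (⊤ : Submodule R N) Module.Finite.fg_top
      e.ge (jacobson_eq_maximalIdeal (⊥ : Ideal R) bot_ne_top).ge)
  have h4 : ∃ ls : List R, ls.length = rs.length ∧ (∀ r ∈ ls, r ∈ maximalIdeal R) ∧ IsRegular M ls :=
    ⟨rs, rfl, mem_maximalIdeal_of_isRegular h, h⟩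
  have h2 := ((ModuleCat.exists_isRegular_tfae (maximalIdeal R) rs.length M (hsmul R)).out 3 1).1 h4
  haveI : Nontrivial (QuotSMulTop y R) := nontrivial_quotSMulTop_of_mem_maximalIdeal R hym
  let M' := ModuleCat.of R (QuotSMulTop y R)
  have h2' : ∀ i < rs.length - 1,
      Subsingleton (Ext (ModuleCat.of R (Shrink.{u} (R ⧸ maximalIdeal R))) M' i) := fun i hi =>
    AddCommGrpCat.subsingleton_of_isZero <| ShortComplex.Exact.isZero_of_both_zeros
      ((Ext.covariant_sequence_exact₃' _ (IsSMulRegular.smulShortComplex_shortExact (M := M) hy)) i (i + 1) rfl)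
      ((AddCommGrpCat.isZero_of_iff_subsingleton.mpr (h2 i (by omega))).eq_zero_of_src _)
      ((AddCommGrpCat.isZero_of_iff_subsingleton.mpr (h2 (i + 1) (by omega))).eq_zero_of_tgt _)
  obtain ⟨ls, hl, -, hls⟩ :=
    ((ModuleCat.exists_isRegular_tfae (maximalIdeal R) (rs.length - 1) M' (hsmul _)).out 1 3).1 h2'
  have := isRegular_cons_ring.1 ((isRegular_cons_iff R y ls).2 ⟨hy, hls⟩)
  exact ⟨_, by simpa using hl, this.2⟩

theorem IsCM.quotient_singleton (h : IsCM R) {y : R} (hy : IsSMulRegular R y)
    (hym : y ∈ maximalIdeal R) : IsCM (R ⧸ Ideal.span {y}) := by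
  obtain ⟨rs, hrs, hd⟩ := h
  obtain ⟨rs', hl, hrs'⟩ := exists_isRegular_quotient_singleton hrs hy hym
  refine ⟨rs', hrs', ?_⟩
  haveI := nontrivial_quotient (singleton_ne_top hym)
  obtain ⟨d, hd'⟩ := exists_ringKrullDim_eq (R := R ⧸ Ideal.span {y})
  have := ringKrullDim_quotient_span_singleton_succ_eq_ringKrullDim hy hym
  rw [hd', hd] at this
  rw [hd', hl]
  norm_cast at this ⊢
  omega

theorem isRegular_of_dim_aux : ∀ (n : ℕ) (R : Type u) [CommRing R] [IsLocalRing R] [IsNoetherianRing R]
    (rs : List R), rs.length = n → IsCM R → (∀ r ∈ rs, r ∈ maximalIdeal R) →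
    ringKrullDim (R ⧸ Ideal.ofList rs) + rs.length ≤ ringKrullDim R → IsRegular R rs
  | 0, R, _, _, _, rs, hn, _, _, _ => List.length_eq_zero_iff.1 hn ▸ IsRegular.nil R R
  | n + 1, R, _, _, _, [], hn, _, _, _ => absurd hn (by simp)
  | n + 1, R, _, _, _, x :: rs, hn, hR, hm, hd => by
    have hxm : x ∈ maximalIdeal R := hm x (by simp)
    set π := Ideal.Quotient.mk (Ideal.span {x})
    haveI := nontrivial_quotient (singleton_ne_top hxm)
    have hrm : ∀ r ∈ rs.map π, r ∈ maximalIdeal (R ⧸ Ideal.span {x}) := by
      intro r hr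
      obtain ⟨r, hr', rfl⟩ := List.mem_map.1 hr
      rw [← map_maximalIdeal_of_surjective π Ideal.Quotient.mk_surjective]
      exact Ideal.mem_map_of_mem π (hm r (by simp [hr']))
    have hle : Ideal.span {x} ≤ Ideal.ofList (x :: rs) :=
      (Ideal.span_singleton_le_iff_mem _).2 (Ideal.subset_span (by simp))
    have hiso : ringKrullDim ((R ⧸ Ideal.span {x}) ⧸ Ideal.ofList (rs.map π)) =
        ringKrullDim (R ⧸ Ideal.ofList (x :: rs)) := by
      have heq : Ideal.ofList (rs.map π) = (Ideal.ofList (x :: rs)).map π := by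
        rw [ofList_map, Ideal.ofList_cons, Ideal.map_sup, Ideal.map_quotient_self, bot_sup_eq]
      rw [ringKrullDim_eq_of_ringEquiv (Ideal.quotEquivOfEq heq),
        ringKrullDim_eq_of_ringEquiv (DoubleQuot.quotQuotEquivQuotOfLE hle)]
    obtain ⟨d, hd'⟩ := exists_ringKrullDim_eq (R := R ⧸ Ideal.span {x})
    have h1 : ringKrullDim (R ⧸ Ideal.span {x}) ≤ ringKrullDim ((R ⧸ Ideal.span {x}) ⧸ Ideal.ofList (rs.map π)) + n := by
      have hspan : (Ideal.ofList (rs.map π)).spanFinrank ≤ n := by
        refine (spanFinrank_ofList_le _).trans ?_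
        simp at hn ⊢; omega
      have h6 : Ideal.ofList (rs.map π) ≤ Ring.jacobson (R ⧸ Ideal.span {x}) := by
        rw [IsLocalRing.ringJacobson_eq_maximalIdeal]
        exact ofList_le_iff.2 hrm
      exact le_trans (ringKrullDim_le_ringKrullDim_quotient_add_spanFinrank _ h6)
        (add_le_add_right (by exact_mod_cast hspan) _)
    obtain ⟨e, he⟩ := exists_ringKrullDim_eq (R := R)
    have hx : IsSMulRegular R x := by
      have hnz : x ∈ nonZeroDivisors R := by
        by_contra hzd
        have hmem : x ∈ ⋃ p ∈ associatedPrimes R R, (p : Set R) := by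
          rw [biUnion_associatedPrimes_eq_compl_nonZeroDivisors]; exact hzd
        obtain ⟨P, hP, hxP⟩ := Set.mem_iUnion₂.1 hmem
        obtain ⟨ls, hls, hdls⟩ := hR
        have h3 := length_le_ringKrullDim_of_mem_associatedPrimes ls R hls P hP
        rw [← hdls] at h3
        have h4 := h3.trans (ringKrullDim_le_of_surjective
          (Ideal.Quotient.factor ((Ideal.span_singleton_le_iff_mem _).2 hxP))
          (Ideal.Quotient.factor_surjective _))
        rw [← hiso] at hd
        obtain ⟨c, hc⟩ : ∃ c : ℕ, ringKrullDim ((R ⧸ Ideal.span {x}) ⧸ Ideal.ofList (rs.map π)) = c := by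
          haveI := nontrivial_quotient (fun h => (maximalIdeal.isMaximal _).ne_top
            (top_le_iff.1 (h.ge.trans (ofList_le_iff.2 hrm))))
          exact exists_ringKrullDim_eq
        rw [hn, he, hc] at hd
        rw [he, hd'] at h4
        rw [hd', hc] at h1
        norm_cast at hd h4 h1
        omega
      exact Module.Flat.isSMulRegular_of_nonZeroDivisors hnz
    refine isRegular_cons_ring.2 ⟨hx, isRegular_of_dim_aux n _ _ (by simpa using hn)
      (hR.quotient_singleton hx hxm) hrm ?_⟩
    rw [hiso]
    have h5 := ringKrullDim_quotient_span_singleton_succ_eq_ringKrullDim hx hxm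
    simp only [List.length_map]
    rw [show rs.length = n by simpa using hn]
    obtain ⟨c, hc⟩ : ∃ c : ℕ, ringKrullDim (R ⧸ Ideal.ofList (x :: rs)) = c := by
      haveI := nontrivial_quotient (I := Ideal.ofList (x :: rs)) (fun h => (maximalIdeal.isMaximal _).ne_top
        (top_le_iff.1 (h.ge.trans (ofList_le_iff.2 hm))))
      exact exists_ringKrullDim_eq
    rw [← h5, hn, hc, hd'] at hd
    rw [hc, hd']
    norm_cast at hd ⊢
    omega

/-- In a Cohen–Macaulay local ring a sequence that cuts down the dimension by its length is regular. -/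
theorem isRegular_of_dim (hR : IsCM R) {rs : List R} (hm : ∀ r ∈ rs, r ∈ maximalIdeal R)
    (hd : ringKrullDim (R ⧸ Ideal.ofList rs) + rs.length ≤ ringKrullDim R) : IsRegular R rs :=
  isRegular_of_dim_aux _ R rs rfl hR hm hd

/-- In a Cohen–Macaulay local ring, the ideals generated by regular sequences are the ones generated
by as many elements as their codimension. -/
theorem exists_isRegular_iff (hR : IsCM R) {K : Ideal R} (hK : K ≤ maximalIdeal R) :
    (∃ rs : List R, IsRegular R rs ∧ Ideal.ofList rs = K) ↔
      ringKrullDim (R ⧸ K) + K.spanFinrank ≤ ringKrullDim R := by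
  classical
  constructor
  · rintro ⟨rs, hrs, rfl⟩
    rw [← ringKrullDim_add_length_eq_ringKrullDim_of_isRegular rs hrs]
    refine add_le_add_right ?_ _
    have hsp := spanFinrank_ofList_le rs
    exact Nat.cast_le.2 hsp
  · intro hd
    obtain ⟨t, ht, htK⟩ := Submodule.FG.exists_span_finset_card_eq_spanFinrank (IsNoetherian.noetherian K)
    rw [Ideal.submodule_span_eq] at htK
    have hlist : Ideal.ofList t.toList = K := by
      rw [← htK, Ideal.ofList]
      exact congrArg _ (by ext; simp)
    refine ⟨t.toList, isRegular_of_dim hR (fun r hr => hK ?_) ?_, hlist⟩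
    · rw [← hlist]; exact Ideal.subset_span hr
    · rw [hlist, Finset.length_toList, ht]; exact hd

omit [IsLocalRing R] [IsNoetherianRing R] in
/-- Regular local rings are Cohen–Macaulay. -/
theorem isCM_of_isRegularLocalRing (R : Type u) [CommRing R] [IsRegularLocalRing R] : IsCM R := by
  letI := Ideal.Quotient.field (maximalIdeal R)
  obtain ⟨rs, hrs, hm⟩ := exists_isRegular_of_regular_quotient (J := maximalIdeal R)
  refine ⟨rs, hrs, ?_⟩
  rw [← ringKrullDim_add_length_eq_ringKrullDim_of_isRegular rs hrs,
    ringKrullDim_eq_of_ringEquiv (Ideal.quotEquivOfEq hm),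
    ringKrullDim_eq_zero_of_field, zero_add]

omit [IsLocalRing R] [IsNoetherianRing R] in
/-- A local ring with regular quotient by an ideal generated by a regular sequence is regular. -/
theorem isRegularLocalRing_of_quotient (R : Type u) [CommRing R] [IsLocalRing R] [IsNoetherianRing R]
    {rs : List R} (h : IsRegular R rs) [IsRegularLocalRing (R ⧸ Ideal.ofList rs)] :
    IsRegularLocalRing R := by
  classical
  refine IsRegularLocalRing.of_spanFinrank_maximalIdeal_le _ ?_
  rw [← ringKrullDim_add_length_eq_ringKrullDim_of_isRegular rs h,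
    ← IsRegularLocalRing.spanFinrank_maximalIdeal]
  norm_cast
  set J := Ideal.ofList rs
  obtain ⟨t, ht, htK⟩ := Submodule.FG.exists_span_finset_card_eq_spanFinrank
    (IsNoetherian.noetherian (maximalIdeal (R ⧸ J)))
  rw [Ideal.submodule_span_eq] at htK
  choose l hl using fun y : R ⧸ J => Ideal.Quotient.mk_surjective (I := J) y
  have hJm : J ≤ maximalIdeal R := ofList_le_iff.2 (mem_maximalIdeal_of_isRegular h)
  have : maximalIdeal R = Ideal.span ((t.image l ∪ rs.toFinset : Finset R) : Set R) := by
    refine le_antisymm (fun z hz => ?_) (Ideal.span_le.2 ?_)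
    · have := Ideal.mem_map_of_mem (Ideal.Quotient.mk J) hz
      rw [map_maximalIdeal_of_surjective _ Ideal.Quotient.mk_surjective, ← htK,
        show (t : Set (R ⧸ J)) = Ideal.Quotient.mk J '' (t.image l : Finset R) by
          rw [Finset.coe_image, Set.image_image]; simp [hl],
        ← Ideal.map_span, Ideal.mem_quotient_iff_mem_sup] at this
      rwa [Finset.coe_union, Ideal.span_union, List.coe_toFinset]
    · intro z hz
      rcases Finset.mem_union.1 hz with hz | hz
      · obtain ⟨y, hy, rfl⟩ := Finset.mem_image.1 hz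
        have hy' : y ∈ maximalIdeal (R ⧸ J) := htK ▸ Ideal.subset_span hy
        haveI := IsLocalHom.of_surjective (Ideal.Quotient.mk J) Ideal.Quotient.mk_surjective
        rw [SetLike.mem_coe, ← maximalIdeal_comap (Ideal.Quotient.mk J), Ideal.mem_comap, hl]
        exact hy'
      · exact hJm (Ideal.subset_span (List.mem_toFinset.1 hz))
  rw [this]
  refine (Submodule.spanFinrank_span_le_ncard_of_finite (Finset.finite_toSet _)).trans ?_
  rw [Set.ncard_coe_finset]
  refine (Finset.card_union_le _ _).trans (Nat.add_le_add ?_ (List.toFinset_card_le _))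
  exact Finset.card_image_le.trans ht.le

end CommAlgDim
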