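import Groth.Agent.CommAlgDim.LocPD
import Groth.Agent.CompleteLib.Noetherian
import Mathlib.RingTheory.AdicCompletion.AsTensorProduct
import Mathlib.RingTheory.AdicCompletion.LocalRing
import Mathlib.RingTheory.Ideal.GoingDown
import Mathlib.RingTheory.MvPowerSeries.Equiv
import Mathlib.RingTheory.PowerSeries.Inverse
import Mathlib.RingTheory.PowerSeries.NoZeroDivisors

/-! Regular rings: maximal ideals suffice; power series; completions. -/

set_option autoImplicit false
set_option maxHeartbeats 400000
set_option linter.style.haveILetI false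
universe u

open IsLocalRing

namespace CommAlgDim

variable {R : Type u} [CommRing R]

theorem isRegularRing_of_isMaximal [IsNoetherianRing R]
    (h : ∀ (M : Ideal R) [M.IsMaximal], IsRegularLocalRing (Localization.AtPrime M)) : IsRegularRing R := by
  refine isRegularRing_iff.2 fun p hp => ?_
  obtain ⟨M, hM, hpM⟩ := Ideal.exists_le_maximal p hp.ne_top
  haveI := h M
  let P := p.map (algebraMap R (Localization.AtPrime M))
  have hdisj : Disjoint (M.primeCompl : Set R) p := Set.disjoint_left.2 fun x hx hxp => hx (hpM hxp)
  haveI : P.IsPrime := IsLocalization.isPrime_of_isPrime_disjoint M.primeCompl _ p hp hdisj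
  have hcomap : P.comap (algebraMap R (Localization.AtPrime M)) = p :=
    IsLocalization.comap_map_of_isPrime_disjoint M.primeCompl _ hp hdisj
  haveI := isRegularLocalRing_localization (Localization.AtPrime M) P
  haveI : IsLocalization.AtPrime (Localization.AtPrime P) p := by
    have h1 : IsLocalization.AtPrime (Localization.AtPrime P)
        (P.comap (algebraMap R (Localization.AtPrime M))) :=
      IsLocalization.isLocalization_isLocalization_atPrime_isLocalization M.primeCompl _ P
    simpa only [hcomap] using h1
  exact IsRegularLocalRing.of_ringEquiv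
    (IsLocalization.algEquiv p.primeCompl (Localization.AtPrime P) (Localization.AtPrime p)).toRingEquiv

/-- Power series over a regular ring form a regular ring. -/
theorem isRegularRing_powerSeries [IsRegularRing R] : IsRegularRing (PowerSeries R) := by
  refine isRegularRing_of_isMaximal fun P hP => ?_
  have hXP : (PowerSeries.X : PowerSeries R) ∈ P := by
    by_contra h
    obtain ⟨y, i, hi, hyi⟩ := hP.exists_inv h
    have hu : IsUnit i := PowerSeries.isUnit_iff_constantCoeff.2 (by
      have := congrArg PowerSeries.constantCoeff hyi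
      simp at this
      rw [this]; exact isUnit_one)
    exact hP.ne_top (Ideal.eq_top_of_isUnit_mem _ hi hu)
  set cc := (PowerSeries.constantCoeff (R := R))
  have hcc : Function.Surjective cc := PowerSeries.constantCoeff_surj
  have hkerP : RingHom.ker cc ≤ P := fun f hf => by
    obtain ⟨g, rfl⟩ := PowerSeries.X_dvd_iff.2 hf
    exact Ideal.mul_mem_right _ _ hXP
  set m := P.map cc
  haveI : m.IsPrime := Ideal.map_isPrime_of_surjective hcc hkerP
  have hcomap : m.comap cc = P :=
    (Ideal.comap_map_of_surjective cc hcc P).trans (sup_eq_left.2 (by rw [← RingHom.ker_eq_comap_bot]; exact hkerP))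
  let S := Localization.AtPrime P
  let ψ : S →+* Localization.AtPrime m := Localization.localRingHom P m cc hcomap.symm
  have hψ : Function.Surjective ψ := fun z => by
    obtain ⟨a, s, rfl⟩ := IsLocalization.exists_mk'_eq m.primeCompl z
    obtain ⟨f, rfl⟩ := hcc a
    obtain ⟨g, hg⟩ := hcc s.1
    have hgP : g ∈ P.primeCompl := fun h => s.2 (hg ▸ Ideal.mem_map_of_mem cc h)
    refine ⟨IsLocalization.mk' S f (⟨g, hgP⟩ : P.primeCompl), ?_⟩
    rw [Localization.localRingHom_mk']
    congr 1
    exact Subtype.ext hg
  let X' : S := algebraMap (PowerSeries R) S PowerSeries.X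
  have hker : RingHom.ker ψ = Ideal.span {X'} := by
    refine le_antisymm (fun z hz => ?_) ((Ideal.span_singleton_le_iff_mem _).2 ?_)
    · obtain ⟨f, s, rfl⟩ := IsLocalization.exists_mk'_eq P.primeCompl z
      rw [RingHom.mem_ker, Localization.localRingHom_mk', IsLocalization.mk'_eq_zero_iff] at hz
      obtain ⟨⟨w, hw⟩, hwf⟩ := hz
      have hwP : PowerSeries.C w ∉ P := fun h => hw (by simpa [cc] using Ideal.mem_map_of_mem cc h)
      obtain ⟨g, hg⟩ := PowerSeries.X_dvd_iff.2 (show cc (PowerSeries.C w * f) = 0 by simpa [cc] using hwf)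
      rw [IsLocalization.mk'_mem_iff, ← Ideal.unit_mul_mem_iff_mem _
        (IsLocalization.map_units S (⟨PowerSeries.C w, hwP⟩ : P.primeCompl)), ← map_mul, hg, map_mul]
      exact Ideal.mul_mem_right _ _ (Ideal.mem_span_singleton_self _)
    · rw [RingHom.mem_ker, Localization.localRingHom_to_map, show cc PowerSeries.X = 0 from
        PowerSeries.constantCoeff_X, map_zero]
  haveI : IsRegularLocalRing (Localization.AtPrime m) := IsRegularRing.isRegularLocalRing_localization m
  haveI : IsRegularLocalRing (S ⧸ Ideal.ofList [X']) := IsRegularLocalRing.of_ringEquiv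
    ((RingHom.quotientKerEquivOfSurjective hψ).symm.trans
      (Ideal.quotEquivOfEq (hker.trans (Ideal.ofList_singleton X').symm)))
  haveI : IsNoetherianRing S := IsLocalization.isNoetherianRing P.primeCompl S inferInstance
  have hnz : X' ∈ nonZeroDivisors S := IsLocalization.map_nonZeroDivisors_le P.primeCompl S
    ⟨_, mem_nonZeroDivisors_iff_right.2
      (fun y hy => PowerSeries.X_mul_inj.1 ((mul_comm _ _).trans (hy.trans (mul_zero _).symm))), rfl⟩
  have hreg : IsSMulRegular S X' := fun a b h => (mul_cancel_left_mem_nonZeroDivisors hnz).1 h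
  haveI : Nontrivial (S ⧸ Ideal.span {X'}) := nontrivial_quotient (singleton_ne_top
    ((IsLocalization.AtPrime.to_map_mem_maximal_iff S P _).2 hXP))
  exact isRegularLocalRing_of_quotient S ((isRegular_cons_ring (rs := [])).2 ⟨hreg, RingTheory.Sequence.IsRegular.nil _ _⟩)

theorem isRegularRing_mvPowerSeries (R : Type u) [CommRing R] [IsRegularRing R] :
    ∀ n : ℕ, IsRegularRing (MvPowerSeries (Fin n) R)
  | 0 => IsRegularRing.of_ringEquiv (MvPowerSeries.isEmptyEquiv (Fin 0) R).toRingEquiv.symm
  | n + 1 => by
    haveI := isRegularRing_mvPowerSeries R n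
    haveI := isRegularRing_powerSeries (R := MvPowerSeries (Fin n) R)
    exact IsRegularRing.of_ringEquiv (MvPowerSeries.finSuccEquiv R n).toRingEquiv.symm

/-- Completions of regular rings are regular. -/
theorem isRegularRing_adicCompletion [IsRegularRing R] (J : Ideal R) :
    IsRegularRing (AdicCompletion J R) := by
  have hfg : J.FG := IsNoetherian.noetherian J
  let B := AdicCompletion J R
  haveI hcompl := AdicCompletion.isAdicComplete_self J hfg
  let e : B ⧸ J.map (algebraMap R B) ≃+* R ⧸ J :=
    (Ideal.quotEquivOfEq (AdicCompletion.ker_evalOneₐ_eq_map J hfg).symm).trans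
      (RingHom.quotientKerEquivOfSurjective (f := (AdicCompletion.evalOneₐ J).toRingHom)
        (AdicCompletion.evalOneₐ_surjective J))
  haveI : IsNoetherianRing (B ⧸ J.map (algebraMap R B)) := isNoetherianRing_of_ringEquiv _ e.symm
  haveI : IsNoetherianRing B :=
    CompleteLib.isNoetherianRing_of_isAdicComplete (J.map (algebraMap R B)) (Ideal.FG.map hfg _)
  refine isRegularRing_of_isMaximal fun P hP => ?_
  have hJP : J.map (algebraMap R B) ≤ P :=
    (IsAdicComplete.le_jacobson_bot _).trans (sInf_le ⟨bot_le, hP⟩)
  let q := P.map (AdicCompletion.evalOneₐ J).toRingHom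
  have hq : q.IsMaximal := Ideal.IsMaximal.map_of_surjective_of_ker_le (AdicCompletion.evalOneₐ_surjective J)
    (by show RingHom.ker (AdicCompletion.evalOneₐ J).toRingHom ≤ P; rw [AdicCompletion.ker_evalOneₐ_eq_map J hfg]; exact hJP)
  set m := P.comap (algebraMap R B)
  haveI : m.IsPrime := Ideal.comap_isPrime _ _
  haveI hm : m.IsMaximal := by
    have hPq : P = q.comap (AdicCompletion.evalOneₐ J).toRingHom :=
      ((Ideal.comap_map_of_surjective' _ (AdicCompletion.evalOneₐ_surjective J) P).trans
        (sup_eq_left.2 (by show RingHom.ker (AdicCompletion.evalOneₐ J).toRingHom ≤ P; rw [AdicCompletion.ker_evalOneₐ_eq_map J hfg]; exact hJP))).symm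
    haveI := hq
    rw [show m = q.comap (Ideal.Quotient.mk J) by
      rw [← AdicCompletion.evalOneₐ_comp_algebraMap_eq_mk, ← Ideal.comap_comap, ← hPq]]
    exact Ideal.comap_isMaximal_of_surjective _ Ideal.Quotient.mk_surjective
  have hle : J ≤ m := Ideal.map_le_iff_le_comap.1 hJP
  have hPm : m.map (algebraMap R B) = P :=
    (AdicCompletion.isMaximal_map_of_le J m hle hfg).eq_of_le hP.ne_top Ideal.map_comap_le
  haveI : P.LiesOver m := ⟨rfl⟩
  haveI : Module.Flat R B := AdicCompletion.flat_of_isNoetherian J
  haveI : Algebra.HasGoingDown R B := Algebra.HasGoingDown.of_flat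
  haveI := IsRegularRing.isRegularLocalRing_localization (R := R) m
  let S := Localization.AtPrime P
  haveI : IsNoetherianRing S := IsLocalization.isNoetherianRing P.primeCompl S inferInstance
  refine IsRegularLocalRing.of_spanFinrank_maximalIdeal_le _ ?_
  have hh : m.height ≤ P.height := by
    rw [Ideal.height_eq_height_add_of_liesOver_of_hasGoingDown m P]
    exact le_self_add
  calc ((maximalIdeal S).spanFinrank : WithBot ℕ∞)
      ≤ ((maximalIdeal (Localization.AtPrime m)).spanFinrank : ℕ) := by
        rw [← IsLocalization.AtPrime.map_eq_maximalIdeal P S]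
        let ψ : Localization.AtPrime m →+* S := Localization.localRingHom m P (algebraMap R B) rfl
        have : P.map (algebraMap B S) = (maximalIdeal (Localization.AtPrime m)).map ψ := by
          rw [← IsLocalization.AtPrime.map_eq_maximalIdeal m (Localization.AtPrime m), Ideal.map_map]
          refine (congrArg (Ideal.map (algebraMap B S)) hPm.symm).trans ?_
          rw [Ideal.map_map]
          congr 1
          exact RingHom.ext fun r => (Localization.localRingHom_to_map m P (algebraMap R B) rfl r).symm
        rw [this]
        exact Nat.cast_le.2 (spanFinrank_map_le ψ (IsNoetherian.noetherian _))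
    _ = ringKrullDim (Localization.AtPrime m) := IsRegularLocalRing.spanFinrank_maximalIdeal
    _ ≤ ringKrullDim S := by
        rw [IsLocalization.AtPrime.ringKrullDim_eq_height m, IsLocalization.AtPrime.ringKrullDim_eq_height P]
        exact WithBot.coe_le_coe.2 hh

end CommAlgDim
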