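import Groth.Agent.CommAlgDim.MinGen
import Mathlib.RingTheory.RegularLocalRing.Defs
import Mathlib.RingTheory.KrullDimension.Regular
import Mathlib.RingTheory.Regular.RegularSequence
import Mathlib.RingTheory.Ideal.MinimalPrime.Noetherian

/-! Regular local rings: domains, quotients by parts of regular systems of parameters. -/

set_option autoImplicit false
set_option maxHeartbeats 400000
set_option linter.style.haveILetI false
universe u

open IsLocalRing RingTheory.Sequence Pointwise

namespace CommAlgDim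

variable {R : Type u} [CommRing R]

theorem isRegular_cons_ring {x : R} {rs : List R} :
    IsRegular R (x :: rs) ↔ IsSMulRegular R x ∧
      IsRegular (R ⧸ Ideal.span {x}) (rs.map (Ideal.Quotient.mk (Ideal.span {x}))) := by
  rw [isRegular_cons_iff']
  have e : QuotSMulTop x R ≃ₗ[R] R ⧸ Ideal.span {x} :=
    Submodule.quotEquivOfEq _ _ (by simp [← Submodule.ideal_span_singleton_smul])
  exact and_congr Iff.rfl ((e.extendScalarsOfSurjective Ideal.Quotient.mk_surjective).isRegular_congr _)

theorem ofList_map {S : Type u} [CommRing S] (f : R →+* S) (rs : List R) :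
    Ideal.ofList (rs.map f) = (Ideal.ofList rs).map f := (Ideal.map_ofList f rs).symm

theorem ofList_le_iff {rs : List R} {I : Ideal R} : Ideal.ofList rs ≤ I ↔ ∀ r ∈ rs, r ∈ I :=
  Ideal.span_le

section Local
variable [IsLocalRing R]

theorem mem_maximalIdeal_of_isRegular {rs : List R} (h : IsRegular R rs) :
    ∀ r ∈ rs, r ∈ maximalIdeal R :=
  ofList_le_iff.1 (le_maximalIdeal fun hI => h.top_ne_smul (by rw [hI]; simp))

variable [IsNoetherianRing R]

theorem exists_ringKrullDim_eq : ∃ d : ℕ, ringKrullDim R = d := by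
  have h1 := ringKrullDim_le_spanFinrank_maximalIdeal R
  have h2 := ringKrullDim_nonneg_of_nontrivial (R := R)
  generalize ringKrullDim R = z at h1 h2
  match z with
  | ⊥ => simp at h2
  | (⊤ : ℕ∞) => exact absurd (WithBot.coe_le_coe.1 h1) (by simp)
  | ((d : ℕ) : ℕ∞) => exact ⟨d, rfl⟩

theorem spanFinrank_maximalIdeal_quotient_singleton {x : R} (hx : x ∈ maximalIdeal R)
    (hx2 : x ∉ maximalIdeal R ^ 2) [Nontrivial (R ⧸ Ideal.span {x})] :
    (maximalIdeal (R ⧸ Ideal.span {x})).spanFinrank + 1 = (maximalIdeal R).spanFinrank := by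
  rw [← map_maximalIdeal_of_surjective _ Ideal.Quotient.mk_surjective,
    spanFinrank_quotient_singleton_add_one (IsNoetherian.noetherian _) hx (by rwa [← sq])]

theorem ringKrullDim_quotient_singleton_ge {x : R} (hx : x ∈ maximalIdeal R) :
    ringKrullDim R ≤ ringKrullDim (R ⧸ Ideal.span {x}) + 1 := by
  have h : Ideal.span {x} = x • (⊤ : Ideal R) := by simp [← Submodule.ideal_span_singleton_smul]
  rw [ringKrullDim_eq_of_ringEquiv (Ideal.quotEquivOfEq h)]
  exact ringKrullDim_le_ringKrullDim_quotSMulTop_succ hx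

/-- Prime avoidance in the maximal ideal, outside its square. -/
theorem exists_mem_notMem_sq {S : Set (Ideal R)} (hS : S.Finite) (hp : ∀ P ∈ S, P.IsPrime)
    (hne : ∀ P ∈ S, P ≠ maximalIdeal R) (hm : maximalIdeal R ≠ ⊥) :
    ∃ x ∈ maximalIdeal R, x ∉ maximalIdeal R ^ 2 ∧ ∀ P ∈ S, x ∉ P := by
  classical
  by_contra hcon
  push Not at hcon
  let T := insert (maximalIdeal R ^ 2) hS.toFinset
  have hsub : (maximalIdeal R : Set R) ⊆ ⋃ P ∈ (T : Set (Ideal R)), (P : Set R) := by
    intro x hx
    by_cases h : x ∈ maximalIdeal R ^ 2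
    · exact Set.mem_iUnion₂.2 ⟨_, Finset.mem_coe.2 (Finset.mem_insert_self _ _), h⟩
    · obtain ⟨P, hP, hxP⟩ := hcon x hx h
      exact Set.mem_iUnion₂.2 ⟨P, Finset.mem_coe.2 (Finset.mem_insert_of_mem (hS.mem_toFinset.2 hP)), hxP⟩
  obtain ⟨P, hP, hle⟩ := (Ideal.subset_union_prime (maximalIdeal R ^ 2) (maximalIdeal R ^ 2) fun P hP h1 _ =>
    hp P (hS.mem_toFinset.1 ((Finset.mem_insert.1 hP).resolve_left h1))).1 hsub
  rcases Finset.mem_insert.1 hP with rfl | hP
  · exact hm (Submodule.eq_bot_of_le_smul_of_le_jacobson_bot (maximalIdeal R) _ (IsNoetherian.noetherian _)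
      (hle.trans_eq (by rw [sq, smul_eq_mul])) (jacobson_eq_maximalIdeal _ bot_ne_top).ge)
  · exact hne P (hS.mem_toFinset.1 hP)
      (((maximalIdeal.isMaximal R).eq_of_le (hp P (hS.mem_toFinset.1 hP)).ne_top hle).symm)

end Local

/-- Cutting a regular local ring by an element outside the square of the maximal ideal. -/
theorem isRegularLocalRing_quotient_singleton [IsRegularLocalRing R] {x : R} (hx : x ∈ maximalIdeal R)
    (hx2 : x ∉ maximalIdeal R ^ 2) : IsRegularLocalRing (R ⧸ Ideal.span {x}) := by
  haveI := nontrivial_quotient (singleton_ne_top hx)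
  refine IsRegularLocalRing.of_spanFinrank_maximalIdeal_le _ ?_
  have h := ringKrullDim_quotient_singleton_ge hx
  rw [← IsRegularLocalRing.spanFinrank_maximalIdeal,
    ← spanFinrank_maximalIdeal_quotient_singleton hx hx2] at h
  obtain ⟨d, hd⟩ := exists_ringKrullDim_eq (R := R ⧸ Ideal.span {x})
  rw [hd] at h ⊢
  norm_cast at h ⊢
  omega

theorem isDomain_aux : ∀ (n : ℕ) (R : Type u) [CommRing R] [IsRegularLocalRing R],
    (maximalIdeal R).spanFinrank = n → IsDomain R
  | 0, R, _, _, hn =>
    ((isField_iff_maximalIdeal_eq (R := R)).2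
      ((Submodule.spanFinrank_eq_zero_iff_eq_bot (IsNoetherian.noetherian _)).1 hn)).isDomain
  | n + 1, R, _, _, hn => by
    have hm : maximalIdeal R ≠ ⊥ := fun h => by
      rw [h, Submodule.spanFinrank_bot] at hn; omega
    have hmin : ∀ P ∈ minimalPrimes R, P ≠ maximalIdeal R := by
      rintro P hP rfl
      have h0 : (maximalIdeal R).height = 0 := Ideal.height_eq_zero_iff.2 hP
      have := maximalIdeal_height_eq_ringKrullDim (R := R)
      rw [h0, ← IsRegularLocalRing.spanFinrank_maximalIdeal, hn] at this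
      exact absurd this (by norm_cast)
    obtain ⟨x, hx, hx2, hxP⟩ := exists_mem_notMem_sq (minimalPrimes.finite_of_isNoetherianRing R)
      (fun P hP => hP.1.1) hmin hm
    haveI := nontrivial_quotient (singleton_ne_top hx)
    haveI := isRegularLocalRing_quotient_singleton hx hx2
    haveI := isDomain_aux n (R ⧸ Ideal.span {x}) (by
      have := spanFinrank_maximalIdeal_quotient_singleton hx hx2; omega)
    haveI : (Ideal.span {x}).IsPrime := (Ideal.Quotient.isDomain_iff_prime _).1 inferInstance
    obtain ⟨q, hq, hqx⟩ := Ideal.exists_minimalPrimes_le (bot_le (a := Ideal.span {x}))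
    have hq0 : q = ⊥ := by
      refine Submodule.eq_bot_of_le_smul_of_le_jacobson_bot (Ideal.span {x}) q (IsNoetherian.noetherian _)
        (fun y hy => ?_) ((Ideal.span_singleton_le_iff_mem _).2
          ((jacobson_eq_maximalIdeal (⊥ : Ideal R) bot_ne_top).ge hx))
      obtain ⟨t, rfl⟩ := Ideal.mem_span_singleton'.1 (hqx hy)
      rw [mul_comm t x, smul_eq_mul]
      exact Ideal.mul_mem_mul (Ideal.mem_span_singleton_self x)
        ((hq.1.1.mem_or_mem hy).resolve_right (hxP q hq))
    exact IsDomain.of_bot_isPrime R (hbp := hq0 ▸ hq.1.1)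

/-- A regular local ring is a domain. -/
theorem isDomain_of_isRegularLocalRing (R : Type u) [CommRing R] [IsRegularLocalRing R] : IsDomain R :=
  isDomain_aux _ R rfl

theorem isSMulRegular_of_ne_zero [IsRegularLocalRing R] {x : R} (hx : x ≠ 0) : IsSMulRegular R x := by
  haveI := isDomain_of_isRegularLocalRing R
  exact fun a b h => mul_left_cancel₀ hx h

theorem ringKrullDim_quotient_lt [IsRegularLocalRing R] {I : Ideal R} (hI : I ≠ ⊥) :
    ringKrullDim (R ⧸ I) < ringKrullDim R := by
  obtain ⟨y, hy, hy0⟩ := Submodule.exists_mem_ne_zero_of_ne_bot hI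
  by_cases hym : y ∈ maximalIdeal R
  · have h1 := ringKrullDim_quotient_span_singleton_succ_eq_ringKrullDim (isSMulRegular_of_ne_zero hy0) hym
    haveI := nontrivial_quotient (singleton_ne_top hym)
    obtain ⟨d, hd⟩ := exists_ringKrullDim_eq (R := R ⧸ Ideal.span {y})
    calc ringKrullDim (R ⧸ I) ≤ ringKrullDim (R ⧸ Ideal.span {y}) :=
          ringKrullDim_le_of_surjective (Ideal.Quotient.factor ((Ideal.span_singleton_le_iff_mem _).2 hy))
            (Ideal.Quotient.factor_surjective _)
      _ < ringKrullDim R := by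
          rw [← h1, hd]
          exact_mod_cast Nat.lt_succ_self d
  · have : Subsingleton (R ⧸ I) := Ideal.Quotient.subsingleton_iff.2
      (Ideal.eq_top_of_isUnit_mem _ hy (notMem_maximalIdeal.1 hym))
    rw [ringKrullDim_eq_bot_of_subsingleton]
    exact lt_of_lt_of_le (WithBot.bot_lt_coe _) (ringKrullDim_nonneg_of_nontrivial (R := R))

theorem not_le_sq_of_regular_quotient [IsRegularLocalRing R] {J : Ideal R} [IsRegularLocalRing (R ⧸ J)]
    (hJ : J ≠ ⊥) : ¬ J ≤ maximalIdeal R ^ 2 := by
  intro hle
  have hlt := ringKrullDim_quotient_lt hJ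
  rw [← IsRegularLocalRing.spanFinrank_maximalIdeal, ← IsRegularLocalRing.spanFinrank_maximalIdeal,
    ← map_maximalIdeal_of_surjective _ (Ideal.Quotient.mk_surjective (I := J))] at hlt
  norm_cast at hlt
  refine absurd hlt (not_lt.2 ?_)
  classical
  obtain ⟨t, ht, htK⟩ := Submodule.FG.exists_span_finset_card_eq_spanFinrank
    (Ideal.FG.map (IsNoetherian.noetherian (maximalIdeal R)) (Ideal.Quotient.mk J))
  rw [Ideal.submodule_span_eq] at htK
  choose l hl using fun y : R ⧸ J => Ideal.Quotient.mk_surjective (I := J) y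
  have hm : maximalIdeal R ≤ Ideal.span (l '' t) ⊔ maximalIdeal R • maximalIdeal R := by
    intro z hz
    have := Ideal.mem_map_of_mem (Ideal.Quotient.mk J) hz
    rw [← htK, show (t : Set (R ⧸ J)) = Ideal.Quotient.mk J '' (l '' t) by
      rw [Set.image_image]; simp [hl], ← Ideal.map_span, Ideal.mem_quotient_iff_mem_sup] at this
    exact sup_le_sup_left (hle.trans_eq (sq _)) _ this
  have hle2 := Submodule.le_of_le_smul_of_le_jacobson_bot (IsNoetherian.noetherian _)
    (jacobson_eq_maximalIdeal (⊥ : Ideal R) bot_ne_top).ge hm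
  have : maximalIdeal R = Ideal.span (l '' t) := le_antisymm hle2 (Ideal.span_le.2 (by
    rintro _ ⟨y, hy, rfl⟩
    by_contra hly
    have hy' : y ∈ (maximalIdeal R).map (Ideal.Quotient.mk J) := htK ▸ Ideal.subset_span hy
    obtain ⟨z, hz, hzy⟩ := (Ideal.mem_map_iff_of_surjective _ Ideal.Quotient.mk_surjective).1 hy'
    have hd : l y - z ∈ maximalIdeal R :=
      (hle.trans (Ideal.pow_le_self two_ne_zero)) (Ideal.Quotient.eq.1 ((hl y).trans hzy.symm))
    exact hly (by simpa using add_mem hd hz)))
  rw [← ht]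
  conv_lhs => rw [this, ← Finset.coe_image]
  refine (Submodule.spanFinrank_span_le_ncard_of_finite (Finset.finite_toSet _)).trans ?_
  rw [Set.ncard_coe_finset]
  exact Finset.card_image_le

theorem quotient_structure_aux : ∀ (n : ℕ) (R : Type u) [CommRing R] [IsRegularLocalRing R]
    (J : Ideal R), IsRegularLocalRing (R ⧸ J) → (maximalIdeal R).spanFinrank = n →
    (∀ K : Ideal R, J ≤ K → K ≤ maximalIdeal R →
      (K.map (Ideal.Quotient.mk J)).spanFinrank + J.spanFinrank = K.spanFinrank) ∧
    J ⊓ maximalIdeal R ^ 2 = maximalIdeal R * J ∧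
    ∃ rs : List R, IsRegular R rs ∧ Ideal.ofList rs = J
  | n, R, _, _, J, hJreg, hn => by
    by_cases hJ : J = ⊥
    · subst hJ
      refine ⟨fun K _ _ => ?_, by simp, [], IsRegular.nil R R, Ideal.ofList_nil⟩
      rw [Submodule.spanFinrank_bot, add_zero]
      exact Ideal.spanFinrank_map_eq_of_ringEquiv (RingEquiv.quotientBot R).symm K
    obtain ⟨x, hxJ, hx2⟩ := SetLike.not_le_iff_exists.1 (not_le_sq_of_regular_quotient hJ)
    have hJm : J ≤ maximalIdeal R := le_maximalIdeal fun h =>
      not_subsingleton (R ⧸ J) (Ideal.Quotient.subsingleton_iff.2 h)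
    have hx : x ∈ maximalIdeal R := hJm hxJ
    have hxm : x ∉ maximalIdeal R * maximalIdeal R := by rwa [← sq]
    haveI := nontrivial_quotient (singleton_ne_top hx)
    haveI := isRegularLocalRing_quotient_singleton hx hx2
    match n, hn with
    | 0, hn =>
      rw [← spanFinrank_maximalIdeal_quotient_singleton hx hx2] at hn
      omega
    | n + 1, hn =>
      set π := Ideal.Quotient.mk (Ideal.span {x})
      have hxJ' : Ideal.span {x} ≤ J := (Ideal.span_singleton_le_iff_mem _).2 hxJ
      let e := DoubleQuot.quotQuotEquivQuotOfLE hxJ'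
      obtain ⟨h1, h2, rs, h3, h4⟩ := quotient_structure_aux n _ (J.map π)
        (IsRegularLocalRing.of_ringEquiv e.symm) (by
          have := spanFinrank_maximalIdeal_quotient_singleton hx hx2; omega)
      have hmap : ∀ K : Ideal R, (K.map (Ideal.Quotient.mk J)).spanFinrank =
          ((K.map π).map (Ideal.Quotient.mk (J.map π))).spanFinrank := fun K => by
        rw [← Ideal.spanFinrank_map_eq_of_ringEquiv e ((K.map π).map _)]
        congr 1
        rw [← DoubleQuot.quotQuotEquivQuotOfLE_comp_quotQuotMk hxJ', ← Ideal.map_map]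
        simp only [DoubleQuot.quotQuotMk, ← Ideal.map_map]
        rfl
      refine ⟨fun K hK hKm => ?_, ?_, ?_⟩
      · have hk := h1 (K.map π) (Ideal.map_mono hK)
          (by rw [← map_maximalIdeal_of_surjective π Ideal.Quotient.mk_surjective]; exact Ideal.map_mono hKm)
        rw [← spanFinrank_quotient_singleton_add_one (IsNoetherian.noetherian K) (hK hxJ)
            (fun h => hxm (Ideal.mul_mono_right hKm h)),
          ← spanFinrank_quotient_singleton_add_one (IsNoetherian.noetherian J) hxJ
            (fun h => hxm (Ideal.mul_mono_right hJm h)), hmap]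
        simp only [π] at hk ⊢
        omega
      · refine le_antisymm (fun y hy => ?_) (le_inf Ideal.mul_le_right
          ((Ideal.mul_mono_right hJm).trans (sq _).ge))
        have hy' : π y ∈ J.map π ⊓ maximalIdeal (R ⧸ Ideal.span {x}) ^ 2 := by
          rw [← map_maximalIdeal_of_surjective π Ideal.Quotient.mk_surjective, ← Ideal.map_pow]
          exact ⟨Ideal.mem_map_of_mem π hy.1, Ideal.mem_map_of_mem π hy.2⟩
        rw [h2, ← map_maximalIdeal_of_surjective π Ideal.Quotient.mk_surjective, ← Ideal.map_mul,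
          Ideal.mem_quotient_iff_mem_sup, Submodule.mem_sup] at hy'
        obtain ⟨z, hz, w, hw, rfl⟩ := hy'
        obtain ⟨c, rfl⟩ := Ideal.mem_span_singleton'.1 hw
        refine add_mem hz (Ideal.mul_mem_mul ?_ hxJ)
        by_contra hc
        have hz2 : z ∈ maximalIdeal R ^ 2 := by
          rw [sq]; exact Ideal.mul_mono_right hJm hz
        exact hx2 ((Ideal.unit_mul_mem_iff_mem _ (notMem_maximalIdeal.1 hc)).1
          (by simpa using sub_mem hy.2 hz2))
      · obtain ⟨ls, rfl⟩ : ∃ ls : List R, ls.map π = rs :=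
          List.map_surjective_iff.2 Ideal.Quotient.mk_surjective rs
        refine ⟨x :: ls, isRegular_cons_ring.2 ⟨isSMulRegular_of_ne_zero ?_, h3⟩, ?_⟩
        · intro h0; exact hx2 (h0 ▸ zero_mem _)
        · rw [ofList_map] at h4
          rw [Ideal.ofList_cons, sup_comm, ← Ideal.comap_map_mk hxJ', ← h4,
            Ideal.comap_map_of_surjective _ Ideal.Quotient.mk_surjective, ← RingHom.ker_eq_comap_bot,
            Ideal.mk_ker]

variable [IsRegularLocalRing R] {J : Ideal R} [IsRegularLocalRing (R ⧸ J)]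

/-- Minimal generators of an ideal over an ideal with regular quotient. -/
theorem spanFinrank_map_add_of_regular_quotient {K : Ideal R} (h1 : J ≤ K) (h2 : K ≤ maximalIdeal R) :
    (K.map (Ideal.Quotient.mk J)).spanFinrank + J.spanFinrank = K.spanFinrank :=
  (quotient_structure_aux _ R J inferInstance rfl).1 K h1 h2

theorem inf_sq_eq_mul_of_regular_quotient : J ⊓ maximalIdeal R ^ 2 = maximalIdeal R * J :=
  (quotient_structure_aux _ R J inferInstance rfl).2.1

theorem exists_isRegular_of_regular_quotient : ∃ rs : List R, IsRegular R rs ∧ Ideal.ofList rs = J :=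
  (quotient_structure_aux _ R J inferInstance rfl).2.2

theorem ringKrullDim_quotient_add_of_regular_quotient :
    ringKrullDim (R ⧸ J) + J.spanFinrank = ringKrullDim R := by
  have hJm : J ≤ maximalIdeal R := le_maximalIdeal fun h =>
    not_subsingleton (R ⧸ J) (Ideal.Quotient.subsingleton_iff.2 h)
  rw [← IsRegularLocalRing.spanFinrank_maximalIdeal, ← IsRegularLocalRing.spanFinrank_maximalIdeal,
    ← map_maximalIdeal_of_surjective _ (Ideal.Quotient.mk_surjective (I := J))]
  exact_mod_cast spanFinrank_map_add_of_regular_quotient hJm le_rfl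

end CommAlgDim
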