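import Mathlib.RingTheory.Ideal.GoingUp
import Mathlib.RingTheory.Ideal.HasGoingUp
import Mathlib.RingTheory.KrullDimension.Basic

/-! Injective integral maps preserve the Krull dimension. -/

set_option autoImplicit false
universe u v

namespace CommAlgDim

theorem ringKrullDim_eq_of_integral (R : Type u) (S : Type v) [CommRing R] [CommRing S] [Algebra R S]
    [Algebra.IsIntegral R S] (hinj : Function.Injective (algebraMap R S)) :
    ringKrullDim S = ringKrullDim R := by
  refine le_antisymm ?_ ?_
  · refine Order.krullDim_le_of_strictMono (fun P => PrimeSpectrum.comap (algebraMap R S) P) ?_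
    intro P Q hPQ
    exact Ideal.IsIntegral.comap_lt_comap (R := R) hPQ
  · refine iSup_le fun l => ?_
    have : FaithfulSMul R S := (faithfulSMul_iff_algebraMap_injective R S).2 hinj
    obtain ⟨⟨P, hP, hPl⟩⟩ := Ideal.nonempty_primesOver (S := S) (RelSeries.head l).asIdeal
    have := hP
    have := hPl
    obtain ⟨L, hlen, -, -⟩ := Ideal.exists_ltSeries_of_hasGoingUp l P
    rw [← hlen]
    exact Order.LTSeries.length_le_krullDim L

end CommAlgDim
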