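import Groth.Prelude.Def_CAlg
import Groth.Agent.InvLib.Depth
import Mathlib.RingTheory.Depth.Rees
import Mathlib.RingTheory.Regular.Flat
import Mathlib.RingTheory.Ideal.AssociatedPrime.Localization
import Mathlib.RingTheory.Finiteness.Nakayama
import Mathlib.RingTheory.Flat.Localization

/-! The `I`-depth of a finite module over a Noetherian ring. -/

set_option autoImplicit false
set_option linter.style.haveILetI false
set_option maxHeartbeats 800000
universe u

open RingTheory.Sequence Pointwise CategoryTheory Abelian IsLocalRing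

namespace CommAlgDim

section Gen

variable {R : Type u} [CommRing R] {M : Type u} [AddCommGroup M] [Module R M]

/-- There is an `M`-weakly regular sequence of length `n` in `I`. -/
def HasSeqIn (I : Ideal R) (M : Type u) [AddCommGroup M] [Module R M] (n : ℕ) : Prop :=
  ∃ rs : List R, rs.length = n ∧ (∀ r ∈ rs, r ∈ I) ∧ IsWeaklyRegular M rs

theorem hasSeqIn_zero (I : Ideal R) : HasSeqIn I M 0 :=
  ⟨[], rfl, by simp, IsWeaklyRegular.nil R M⟩

theorem HasSeqIn.congr {I : Ideal R} {M' : Type u} [AddCommGroup M'] [Module R M'] (e : M ≃ₗ[R] M')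
    {n : ℕ} (h : HasSeqIn I M n) : HasSeqIn I M' n := by
  obtain ⟨rs, hl, hm, hr⟩ := h
  exact ⟨rs, hl, hm, (e.isWeaklyRegular_congr rs).1 hr⟩

theorem HasSeqIn.mono {I : Ideal R} {n m : ℕ} (hnm : n ≤ m) (h : HasSeqIn I M m) :
    HasSeqIn I M n := by
  obtain ⟨rs, hl, hm, hr⟩ := h
  refine ⟨rs.take n, by simp [hl, hnm], fun r hr => hm r (List.take_subset _ _ hr), ?_⟩
  rw [← List.take_append_drop n rs, isWeaklyRegular_append_iff] at hr
  exact hr.1

theorem HasSeqIn.mono_ideal {I J : Ideal R} (hIJ : I ≤ J) {n : ℕ} (h : HasSeqIn I M n) :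
    HasSeqIn J M n := by
  obtain ⟨rs, hl, hm, hr⟩ := h
  exact ⟨rs, hl, fun r hr => hIJ (hm r hr), hr⟩

theorem hasSeqIn_succ_of_cons {I : Ideal R} {x : R} (hxI : x ∈ I) (hx : IsSMulRegular M x) {n : ℕ}
    (h : HasSeqIn I (QuotSMulTop x M) n) : HasSeqIn I M (n + 1) := by
  obtain ⟨rs, hl, hm, hr⟩ := h
  refine ⟨x :: rs, by simp [hl], ?_, IsWeaklyRegular.cons hx hr⟩
  simp only [List.mem_cons, forall_eq_or_imp]
  exact ⟨hxI, hm⟩

theorem hasSeqIn_of_subsingleton [Subsingleton M] (I : Ideal R) (n : ℕ) : HasSeqIn I M n := by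
  refine ⟨List.replicate n 0, List.length_replicate, fun r hr => ?_, ?_⟩
  · rw [List.eq_of_mem_replicate hr]; exact Submodule.zero_mem _
  · rw [isWeaklyRegular_iff]
    intro i hi a b _
    exact Subsingleton.elim a b

variable [IsNoetherianRing R] [Module.Finite R M]

theorem hasSeqIn_of_smul_top_eq_top {I : Ideal R} (h : I • (⊤ : Submodule R M) = ⊤) (n : ℕ) :
    HasSeqIn I M n := by
  rcases n with _ | n
  · exact hasSeqIn_zero I
  obtain ⟨r, hrI, hr⟩ := Submodule.exists_mem_and_smul_eq_self_of_fg_of_le_smul I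
    (⊤ : Submodule R M) Module.Finite.fg_top h.ge
  have hreg : IsSMulRegular M r := fun a b hab => by
    simpa [hr a trivial, hr b trivial] using hab
  refine hasSeqIn_succ_of_cons hrI hreg ?_
  have : Subsingleton (QuotSMulTop r M) := by
    rw [Submodule.Quotient.subsingleton_iff, eq_top_iff]
    intro x _
    rw [← hr x trivial]
    exact Submodule.smul_mem_pointwise_smul _ _ _ trivial
  exact hasSeqIn_of_subsingleton I n

theorem le_idealDepth_iff (I : Ideal R) (n : ℕ) :
    (n : ℕ∞) ≤ LocCoh.idealDepth I M ↔ HasSeqIn I M n := by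
  rw [LocCoh.idealDepth]
  split_ifs with htop
  · exact ⟨fun _ => hasSeqIn_of_smul_top_eq_top htop n, fun _ => le_top⟩
  refine ⟨fun h => ?_, fun ⟨rs, hl, hm, hr⟩ => hl ▸ le_iSup₂_of_le rs ⟨hr, hm⟩ le_rfl⟩
  rcases Nat.eq_zero_or_pos n with rfl | hpos
  · exact hasSeqIn_zero I
  have h' : ((n - 1 : ℕ) : ℕ∞) < ⨆ (rs : List R) (_ : IsWeaklyRegular M rs ∧
      ∀ r ∈ rs, r ∈ I), (rs.length : ℕ∞) := by
    refine lt_of_lt_of_le ?_ h
    exact_mod_cast Nat.sub_lt hpos Nat.one_pos
  simp only [lt_iSup_iff, Nat.cast_lt] at h'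
  obtain ⟨rs, ⟨hr, hm⟩, hlt⟩ := h'
  exact HasSeqIn.mono (by omega) ⟨rs, rfl, hm, hr⟩

theorem le_depth_iff [IsLocalRing R] (n : ℕ) :
    (n : ℕ∞) ≤ LocCoh.depth R M ↔ HasSeqIn (maximalIdeal R) M n :=
  le_idealDepth_iff _ n

theorem notLe_of_isSMulRegular {I : Ideal R} {x : R} (hxI : x ∈ I) (hx : IsSMulRegular M x) :
    ∀ p ∈ associatedPrimes R M, ¬ I ≤ p := by
  intro p hp hle
  have h1 : x ∈ ⋃ q ∈ associatedPrimes R M, (q : Set R) := Set.mem_biUnion hp (hle hxI)
  rw [biUnion_associatedPrimes_eq_compl_regular R M] at h1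
  exact h1 hx

/-- Prime avoidance. -/
theorem exists_isSMulRegular_mem {I : Ideal R} (h : ∀ p ∈ associatedPrimes R M, ¬ I ≤ p) :
    ∃ x ∈ I, IsSMulRegular M x := by
  by_contra hcon
  push_neg at hcon
  have hfin := associatedPrimes.finite R M
  have hsub : (I : Set R) ⊆ ⋃ q ∈ hfin.toFinset, (q : Set R) := fun x hx => by
    have h1 : x ∈ {r : R | IsSMulRegular M r}ᶜ := hcon x hx
    rw [← biUnion_associatedPrimes_eq_compl_regular R M] at h1
    simpa using h1
  obtain ⟨q, hq, hIq⟩ := (Ideal.subset_union_prime ⊥ ⊥ (fun i hi _ _ =>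
    (hfin.mem_toFinset.1 hi).isPrime)).1 hsub
  exact h q (hfin.mem_toFinset.1 hq) hIq

theorem hasSeqIn_one_iff (I : Ideal R) :
    HasSeqIn I M 1 ↔ ∀ p ∈ associatedPrimes R M, ¬ I ≤ p := by
  refine ⟨fun ⟨rs, hl, hm, hr⟩ => ?_, fun h => ?_⟩
  · obtain ⟨x, rfl⟩ := List.length_eq_one_iff.1 hl
    rw [isWeaklyRegular_singleton_iff] at hr
    exact notLe_of_isSMulRegular (hm x (List.mem_singleton_self x)) hr
  · obtain ⟨x, hxI, hx⟩ := exists_isSMulRegular_mem h
    exact hasSeqIn_succ_of_cons hxI hx (hasSeqIn_zero I)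

/-- Exchange: a regular element of `I` lowers the length by one. -/
theorem HasSeqIn.quotSMulTop {I : Ideal R} {x : R} (hxI : x ∈ I) (hx : IsSMulRegular M x) {n : ℕ}
    (h : HasSeqIn I M (n + 1)) : HasSeqIn I (QuotSMulTop x M) n := by
  by_cases htop : I • (⊤ : Submodule R (QuotSMulTop x M)) = ⊤
  · exact hasSeqIn_of_smul_top_eq_top htop n
  have htopM : I • (⊤ : Submodule R M) ≠ ⊤ := fun h0 => htop (by
    have := congrArg (Submodule.map (x • (⊤ : Submodule R M)).mkQ) h0
    rwa [Submodule.map_smul'', Submodule.map_top, Submodule.range_mkQ] at this)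
  obtain ⟨rs, hl, hm, hr⟩ := h
  have hr' : IsRegular M rs := by
    refine ⟨hr, fun h0 => htopM (eq_top_iff.2 ?_)⟩
    have hle : Ideal.ofList rs ≤ I := Ideal.span_le.2 hm
    exact le_of_eq_of_le h0 (Submodule.smul_mono_left hle)
  let K : ModuleCat.{u} R := ModuleCat.of R (R ⧸ I)
  have hK : Module.support R K = PrimeSpectrum.zeroLocus (I : Set R) := by
    show Module.support R (R ⧸ I) = _
    rw [Module.support_eq_zeroLocus, Ideal.annihilator_quotient]
  have hext := ModuleCat.subsingleton_ext_of_exists_isRegular I K hK.subset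
    (ModuleCat.of R M) (lt_top_iff_ne_top.2 htopM) rs hm hr'
  have h2 : ∀ i < n, Subsingleton (Ext K (ModuleCat.of R (QuotSMulTop x M)) i) := fun i hi =>
    AddCommGrpCat.subsingleton_of_isZero <| ShortComplex.Exact.isZero_of_both_zeros
      ((Ext.covariant_sequence_exact₃' K
        (IsSMulRegular.smulShortComplex_shortExact (M := ModuleCat.of R M) hx)) i (i + 1) rfl)
      ((AddCommGrpCat.isZero_of_iff_subsingleton.mpr (hext i (by omega))).eq_zero_of_src _)
      ((AddCommGrpCat.isZero_of_iff_subsingleton.mpr (hext (i + 1) (by omega))).eq_zero_of_tgt _)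
  obtain ⟨rs', hl', hm', hr2⟩ := ModuleCat.exists_isRegular_of_exists_subsingleton_ext
    I n (ModuleCat.of R (QuotSMulTop x M)) (lt_top_iff_ne_top.2 htop) K hK h2
  exact ⟨rs', hl', hm', hr2.toIsWeaklyRegular⟩

/-- Regular sequences in `I` localize at a prime over `I`. -/
theorem HasSeqIn.localization {I p : Ideal R} [p.IsPrime] (hIp : I ≤ p) {n : ℕ}
    (h : HasSeqIn I M n) :
    HasSeqIn (maximalIdeal (Localization.AtPrime p)) (LocalizedModule p.primeCompl M) n := by
  obtain ⟨rs, hl, hm, hr⟩ := h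
  refine ⟨rs.map (algebraMap R (Localization.AtPrime p)), by simp [hl], ?_,
    IsWeaklyRegular.of_isLocalizedModule (Localization.AtPrime p) p.primeCompl
      (LocalizedModule.mkLinearMap p.primeCompl M) hr⟩
  intro r hr
  obtain ⟨a, ha, rfl⟩ := List.mem_map.1 hr
  exact (IsLocalization.AtPrime.to_map_mem_maximal_iff (Localization.AtPrime p) p a).2
    (hIp (hm a ha))

theorem maximalIdeal_notMem_of_hasSeqIn_one {p : Ideal R} [p.IsPrime]
    (h : HasSeqIn (maximalIdeal (Localization.AtPrime p)) (LocalizedModule p.primeCompl M) 1) :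
    p ∉ associatedPrimes R M := fun hp =>
  (hasSeqIn_one_iff _).1 h _ (Module.associatedPrimes.mem_associatedPrimes_atPrime_of_mem_associatedPrimes hp) le_rfl

theorem exists_quot_equiv (p : Ideal R) [p.IsPrime] (x : R) :
    Nonempty (LocalizedModule p.primeCompl (QuotSMulTop x M) ≃ₗ[Localization.AtPrime p]
      QuotSMulTop (algebraMap R (Localization.AtPrime p) x) (LocalizedModule p.primeCompl M)) :=
  InvLib.nonempty_equiv_localizedModule_quot p x (x • (⊤ : Submodule R M)).mkQ
    (Submodule.mkQ_surjective _) fun m => by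
      show (Submodule.Quotient.mk m : QuotSMulTop x M) = 0 ↔ _
      rw [Submodule.Quotient.mk_eq_zero, Submodule.mem_smul_pointwise_iff_exists]
      simp [eq_comm]

theorem isSMulRegular_localization (p : Ideal R) [p.IsPrime] {x : R} (hx : IsSMulRegular M x) :
    IsSMulRegular (LocalizedModule p.primeCompl M) (algebraMap R (Localization.AtPrime p) x) :=
  (isWeaklyRegular_singleton_iff _ _).1
    (IsWeaklyRegular.of_isLocalizedModule (Localization.AtPrime p) p.primeCompl
      (LocalizedModule.mkLinearMap p.primeCompl M) ((isWeaklyRegular_singleton_iff _ _).2 hx))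

end Gen

/-- `I`-depth is tested at the primes over `I`. -/
theorem hasSeqIn_of_forall_localization {R : Type u} [CommRing R] [IsNoetherianRing R]
    {I : Ideal R} : ∀ (n : ℕ) (M : Type u) [AddCommGroup M] [Module R M] [Module.Finite R M],
      (∀ (p : Ideal R) [p.IsPrime], I ≤ p →
        HasSeqIn (maximalIdeal (Localization.AtPrime p)) (LocalizedModule p.primeCompl M) n) →
      HasSeqIn I M n := by
  intro n
  induction n with
  | zero => intro M _ _ _ _; exact hasSeqIn_zero I
  | succ n ih =>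
    intro M _ _ _ h
    obtain ⟨x, hxI, hx⟩ := exists_isSMulRegular_mem (M := M) (I := I) fun p hp hle => by
      have := hp.isPrime
      exact maximalIdeal_notMem_of_hasSeqIn_one ((h p hle).mono (Nat.le_add_left 1 n)) hp
    refine hasSeqIn_succ_of_cons hxI hx (ih _ fun p _ hle => ?_)
    obtain ⟨e⟩ := exists_quot_equiv (M := M) p x
    refine HasSeqIn.congr e.symm ((h p hle).quotSMulTop ?_ (isSMulRegular_localization p hx))
    exact (IsLocalization.AtPrime.to_map_mem_maximal_iff (Localization.AtPrime p) p x).2 (hle hxI)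

variable {R : Type u} [CommRing R] [IsNoetherianRing R] {M : Type u} [AddCommGroup M] [Module R M]
  [Module.Finite R M]

theorem hasSeqIn_iff_forall_localization (I : Ideal R) (n : ℕ) :
    HasSeqIn I M n ↔ ∀ (p : Ideal R) [p.IsPrime], I ≤ p →
      (n : ℕ∞) ≤ LocCoh.depth (Localization.AtPrime p) (LocalizedModule p.primeCompl M) := by
  refine ⟨fun h p _ hle => (le_depth_iff n).2 (h.localization hle),
    fun h => hasSeqIn_of_forall_localization n M fun p _ hle => (le_depth_iff n).1 (h p hle)⟩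

universe v w

omit [IsNoetherianRing R] in
theorem idealDepth_congr (I : Ideal R) {P : Type v} [AddCommGroup P] [Module R P]
    {Q : Type w} [AddCommGroup Q] [Module R Q] (e : P ≃ₗ[R] Q) :
    LocCoh.idealDepth I P = LocCoh.idealDepth I Q := by
  have h : I • (⊤ : Submodule R P) = ⊤ ↔ I • (⊤ : Submodule R Q) = ⊤ := by
    rw [← (Submodule.map_injective_of_injective (f := (e : P →ₗ[R] Q)) e.injective).eq_iff,
      Submodule.map_smul'', Submodule.map_top, LinearEquiv.range]
  simp only [LocCoh.idealDepth, h, e.isWeaklyRegular_congr]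

omit [IsNoetherianRing R] in
theorem depth_congr {B : Type u} [CommRing B] [IsLocalRing B] {P : Type v} [AddCommGroup P] [Module B P]
    {Q : Type w} [AddCommGroup Q] [Module B Q] (e : P ≃ₗ[B] Q) :
    LocCoh.depth B P = LocCoh.depth B Q :=
  idealDepth_congr _ e

end CommAlgDim
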