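import Groth.Agent.CommAlgDim.CM
import Mathlib.Algebra.Category.ModuleCat.ProjectiveDimension
import Mathlib.Algebra.Category.ModuleCat.Ext.Finite
import Mathlib.Algebra.Homology.ShortComplex.ModuleCat
import Mathlib.RingTheory.Regular.Free
import Mathlib.RingTheory.LocalRing.Module
import Mathlib.RingTheory.LocalProperties.ProjectiveDimension

/-! Serre's characterisation of regular local rings by projective dimension. -/

set_option autoImplicit false
set_option maxHeartbeats 400000
set_option linter.style.haveILetI false
universe u

open IsLocalRing CategoryTheory Pointwise RingTheory.Sequence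

namespace CommAlgDim

/-- Projective dimension below `n` of a module. -/
abbrev PDLT (R : Type u) [CommRing R] (M : Type u) [AddCommGroup M] [Module R M] (n : ℕ) : Prop :=
  HasProjectiveDimensionLT (ModuleCat.of R M) n

section General
variable {R : Type u} [CommRing R] {M N F : Type u} [AddCommGroup M] [Module R M]
  [AddCommGroup N] [Module R N] [AddCommGroup F] [Module R F]

theorem pdlt_one_iff : PDLT R M 1 ↔ Module.Projective R M :=
  projective_iff_hasProjectiveDimensionLT_one.symm.trans (IsProjective.iff_projective _).symm

theorem PDLT.of_equiv (e : M ≃ₗ[R] N) {n : ℕ} (h : PDLT R M n) : PDLT R N n :=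
  haveI := h
  hasProjectiveDimensionLT_of_iso e.toModuleIso n

theorem PDLT.congr (e : M ≃ₗ[R] N) {n : ℕ} : PDLT R M n ↔ PDLT R N n :=
  ⟨.of_equiv e, .of_equiv e.symm⟩

theorem PDLT.mono {n m : ℕ} (h : n ≤ m) (hn : PDLT R M n) : PDLT R M m :=
  haveI := hn
  hasProjectiveDimensionLT_of_ge _ n m h

theorem PDLT.of_retract (i : M →ₗ[R] N) (r : N →ₗ[R] M) (h : r ∘ₗ i = LinearMap.id) {n : ℕ}
    (hn : PDLT R N n) : PDLT R M n :=
  haveI := hn
  Retract.hasProjectiveDimensionLT
    (X := ModuleCat.of R M) (Y := ModuleCat.of R N) ⟨ModuleCat.ofHom i, ModuleCat.ofHom r, by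
      rw [← ModuleCat.ofHom_comp, h]; rfl⟩ n

theorem pdlt_ker_iff (f : F →ₗ[R] M) (hf : Function.Surjective f) [Module.Projective R F] (n : ℕ) :
    PDLT R M (n + 2) ↔ PDLT R (LinearMap.ker f) (n + 1) :=
  (LinearMap.shortExact_shortComplexKer hf).hasProjectiveDimensionLT_X₃_iff n
    ((IsProjective.iff_projective F).1 ‹_›)

theorem PDLT.localization {M' : Type u} [AddCommGroup M'] [Module R M'] (S : Submonoid R)
    [Module (Localization S) M'] [IsScalarTower R (Localization S) M'] (f : M →ₗ[R] M')
    [IsLocalizedModule S f] {n : ℕ} (h : PDLT R M (n + 1)) : PDLT (Localization S) M' (n + 1) := by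
  haveI : HasProjectiveDimensionLE (ModuleCat.of R M) n := h
  haveI := ModuleCat.localizedModule_hasProjectiveDimensionLE n S (ModuleCat.of R M)
  haveI : IsLocalizedModule S ((ModuleCat.of R M).localizedModuleMkLinearMap S) :=
    ModuleCat.localizedModule_isLocalizedModule (ModuleCat.of R M) S
  exact hasProjectiveDimensionLT_of_iso (LinearEquiv.extendScalarsOfIsLocalization S (Localization S)
    (IsLocalizedModule.linearEquiv S ((ModuleCat.of R M).localizedModuleMkLinearMap S) f)).toModuleIso
    (n + 1)

end General

section ChangeRings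
variable {R : Type u} [CommRing R] [IsLocalRing R] [IsNoetherianRing R] {x : R}

/-- Dividing by a regular element does not change the projective dimension. -/
theorem pdlt_quotSMulTop_iff (hx : x ∈ maximalIdeal R) (hR : IsSMulRegular R x) :
    ∀ (n : ℕ) (M : Type u) [AddCommGroup M] [Module R M] [Module.Finite R M], IsSMulRegular M x →
      (PDLT (R ⧸ Ideal.span {x}) (QuotSMulTop x M) (n + 1) ↔ PDLT R M (n + 1))
  | 0, M, _, _, _, hM => by
    haveI := nontrivial_quotient (singleton_ne_top hx)
    rw [pdlt_one_iff, pdlt_one_iff]
    haveI : Module.FinitePresentation R M := Module.finitePresentation_of_finite R M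
    haveI : Module.Finite (R ⧸ Ideal.span {x}) (QuotSMulTop x M) :=
      Module.Finite.of_restrictScalars_finite R _ _
    constructor
    · intro h
      haveI := Module.free_of_flat_of_isLocalRing (R := R ⧸ Ideal.span {x}) (P := QuotSMulTop x M)
      haveI := (Module.free_quotSMulTop_iff_free R M
        ((jacobson_eq_maximalIdeal (⊥ : Ideal R) bot_ne_top).ge hx) hM).1 ‹_›
      exact Module.Projective.of_free
    · intro h
      haveI := Module.free_of_flat_of_isLocalRing (R := R) (P := M)
      exact Module.Projective.of_free
  | n + 1, M, _, _, _, hM => by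
    obtain ⟨k, f, hf⟩ := Module.Finite.exists_fin' R M
    have hF : IsSMulRegular (Fin k → R) x := fun a b h => funext fun i => hR (congrFun h i)
    have hK : IsSMulRegular (LinearMap.ker f) x := fun a b h =>
      Subtype.ext (hF (congrArg Subtype.val h))
    let g := (QuotSMulTop.map x f).extendScalarsOfSurjective
      (R := R) (S := R ⧸ Ideal.span {x}) Ideal.Quotient.mk_surjective
    have hg : Function.Surjective g := QuotSMulTop.map_surjective x hf
    let j := (QuotSMulTop.map x (LinearMap.ker f).subtype).extendScalarsOfSurjective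
      (R := R) (S := R ⧸ Ideal.span {x}) Ideal.Quotient.mk_surjective
    have hj : Function.Injective j := by
      rw [injective_iff_map_eq_zero]
      intro z hz
      obtain ⟨z, rfl⟩ := Submodule.Quotient.mk_surjective _ z
      obtain ⟨b, -, hb⟩ := (Submodule.mem_smul_pointwise_iff_exists _ _ _).1
        ((Submodule.Quotient.mk_eq_zero (x • (⊤ : Submodule R (Fin k → R)))).1 hz)
      have hbK : f b = 0 := hM (by
        show x • f b = x • (0 : M)
        rw [← map_smul, hb, smul_zero]; exact z.2)
      exact (Submodule.Quotient.mk_eq_zero _).2 ((Submodule.mem_smul_pointwise_iff_exists _ _ _).2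
        ⟨⟨b, hbK⟩, trivial, Subtype.ext hb⟩)
    have hex : LinearMap.range j = LinearMap.ker g := by
      ext z
      exact (QuotSMulTop.map_exact x (LinearMap.exact_subtype_ker_map f) hf z).symm
    rw [pdlt_ker_iff g hg, pdlt_ker_iff f hf, ← pdlt_quotSMulTop_iff hx hR n _ hK]
    exact PDLT.congr ((LinearEquiv.ofInjective j hj).trans (LinearEquiv.ofEq _ _ hex)).symm

end ChangeRings

section Regular

theorem pdlt_of_regular_aux : ∀ (d : ℕ) (R : Type u) [CommRing R] [IsRegularLocalRing R],
    (maximalIdeal R).spanFinrank = d →
    ∀ (M : Type u) [AddCommGroup M] [Module R M] [Module.Finite R M], PDLT R M (d + 1)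
  | 0, R, _, _, hd, M, _, _, _ => by
    letI := ((isField_iff_maximalIdeal_eq (R := R)).2
      ((Submodule.spanFinrank_eq_zero_iff_eq_bot (IsNoetherian.noetherian _)).1 hd)).toField
    exact pdlt_one_iff.2 inferInstance
  | d + 1, R, _, _, hd, M, _, _, _ => by
    obtain ⟨x, hx, hx2⟩ : ∃ x ∈ maximalIdeal R, x ∉ maximalIdeal R ^ 2 := by
      by_contra h
      push Not at h
      have := Submodule.eq_bot_of_le_smul_of_le_jacobson_bot (maximalIdeal R) (maximalIdeal R)
        (IsNoetherian.noetherian _) (fun z hz => by rw [smul_eq_mul, ← sq]; exact h z hz)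
        (jacobson_eq_maximalIdeal _ bot_ne_top).ge
      rw [this, Submodule.spanFinrank_bot] at hd
      omega
    have hR : IsSMulRegular R x := isSMulRegular_of_ne_zero fun h => hx2 (h ▸ zero_mem _)
    haveI := isRegularLocalRing_quotient_singleton hx hx2
    haveI := nontrivial_quotient (singleton_ne_top hx)
    obtain ⟨k, f, hf⟩ := Module.Finite.exists_fin' R M
    have hK : IsSMulRegular (LinearMap.ker f) x := fun a b h =>
      Subtype.ext (funext fun i => hR (congrFun (congrArg Subtype.val h) i))
    haveI : Module.Finite (R ⧸ Ideal.span {x}) (QuotSMulTop x (LinearMap.ker f)) :=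
      Module.Finite.of_restrictScalars_finite R _ _
    rw [pdlt_ker_iff f hf, ← pdlt_quotSMulTop_iff hx hR d _ hK]
    exact pdlt_of_regular_aux d _ (by
      have := spanFinrank_maximalIdeal_quotient_singleton hx hx2; omega) _

/-- Finite modules over a regular local ring have projective dimension at most the dimension. -/
theorem pdlt_of_isRegularLocalRing (R : Type u) [CommRing R] [IsRegularLocalRing R]
    (M : Type u) [AddCommGroup M] [Module R M] [Module.Finite R M] :
    PDLT R M ((maximalIdeal R).spanFinrank + 1) :=
  pdlt_of_regular_aux _ R rfl M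

variable {R : Type u} [CommRing R] [IsLocalRing R] [IsNoetherianRing R]

/-- If the socle is nonzero, modules of finite projective dimension are free. -/
theorem projective_of_pdlt {z : R} (hz : z ≠ 0) (hzm : ∀ a ∈ maximalIdeal R, z * a = 0) :
    ∀ (n : ℕ) (M : Type u) [AddCommGroup M] [Module R M] [Module.Finite R M],
      PDLT R M (n + 1) → Module.Projective R M
  | 0, M, _, _, _, h => pdlt_one_iff.1 h
  | n + 1, M, _, _, _, h => by
    obtain ⟨k, f, hf, hk⟩ : ∃ (k : ℕ) (f : (Fin k → R) →ₗ[R] M), Function.Surjective f ∧
        ∀ (j : ℕ) (g : (Fin j → R) →ₗ[R] M), Function.Surjective g → k ≤ j := by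
      classical
      have hex : ∃ k, ∃ f : (Fin k → R) →ₗ[R] M, Function.Surjective f := Module.Finite.exists_fin' R M
      exact ⟨Nat.find hex, (Nat.find_spec hex).choose, (Nat.find_spec hex).choose_spec,
        fun j g hg => Nat.find_min' hex ⟨g, hg⟩⟩
    have hKm : ∀ v ∈ LinearMap.ker f, ∀ i, v i ∈ maximalIdeal R := by
      intro v hv i
      by_contra hvi
      cases k with
      | zero => exact i.elim0
      | succ k =>
        let g : (Fin k → R) →ₗ[R] M := Fintype.linearCombination R fun j => f (Pi.single (i.succAbove j) 1)
        refine absurd (hk k g ?_) (by omega)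
        rw [← LinearMap.range_eq_top, Fintype.range_linearCombination, eq_top_iff]
        rintro y -
        obtain ⟨w, rfl⟩ := hf y
        set Sg := Submodule.span R (Set.range fun j => f (Pi.single (i.succAbove j) 1))
        have hgen : ∀ l, f (Pi.single l 1) ∈ Sg := by
          intro l
          rcases eq_or_ne l i with rfl | hl
          · have h0 : ∑ m, v m • f (Pi.single m 1) = 0 := by
              simp only [← map_smul, ← map_sum]
              convert LinearMap.mem_ker.1 hv
              ext m
              simp [Finset.sum_apply, Pi.single_apply]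
            rw [Fin.sum_univ_succAbove _ l, add_eq_zero_iff_eq_neg] at h0
            obtain ⟨c, hc⟩ := (notMem_maximalIdeal.1 hvi).exists_left_inv
            rw [show f (Pi.single l 1) = c • (v l • f (Pi.single l 1)) by rw [smul_smul, hc, one_smul], h0]
            exact Submodule.smul_mem _ _ (neg_mem (sum_mem fun j _ =>
              Submodule.smul_mem _ _ (Submodule.subset_span ⟨j, rfl⟩)))
          · obtain ⟨j, rfl⟩ := Fin.exists_succAbove_eq hl
            exact Submodule.subset_span ⟨j, rfl⟩
        rw [show w = ∑ l, w l • Pi.single l 1 by ext m; simp [Finset.sum_apply, Pi.single_apply], map_sum]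
        exact sum_mem fun l _ => by rw [map_smul]; exact Submodule.smul_mem _ _ (hgen l)
    haveI := projective_of_pdlt hz hzm n (LinearMap.ker f) ((pdlt_ker_iff f hf n).1 h)
    haveI := Module.free_of_flat_of_isLocalRing (R := R) (P := LinearMap.ker f)
    have hK0 : Subsingleton (LinearMap.ker f) := by
      by_contra hns
      rw [not_subsingleton_iff_nontrivial] at hns
      obtain ⟨i⟩ := (Module.Free.chooseBasis R (LinearMap.ker f)).index_nonempty
      set b := Module.Free.chooseBasis R (LinearMap.ker f)
      have h0 : z • b i = 0 := Subtype.ext (funext fun j => hzm _ (hKm _ (b i).2 j))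
      exact hz (by simpa using congrArg (fun w => b.repr w i) h0)
    exact Module.Projective.of_equiv (LinearEquiv.ofBijective f
      ⟨LinearMap.ker_eq_bot.1 (Submodule.eq_bot_of_subsingleton), hf⟩)

theorem isRegularLocalRing_of_pdlt_aux : ∀ (n : ℕ) (R : Type u) [CommRing R] [IsLocalRing R]
    [IsNoetherianRing R], (maximalIdeal R).spanFinrank = n →
    ∀ N, PDLT R (R ⧸ maximalIdeal R) (N + 1) → IsRegularLocalRing R
  | n, R, _, _, _, hn, N, hpd => by
    by_cases hm0 : maximalIdeal R = ⊥
    · letI := ((isField_iff_maximalIdeal_eq (R := R)).2 hm0).toField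
      infer_instance
    have hass : maximalIdeal R ∉ associatedPrimes R R := by
      intro hA
      obtain ⟨z, hz⟩ := ((isAssociatedPrime_iff).1 hA).2
      have hz0 : z ≠ 0 := by
        rintro rfl
        exact (maximalIdeal.isMaximal R).ne_top (by rw [hz, eq_top_iff]; intro a _; simp [Submodule.mem_colon_singleton])
      have hzm : ∀ a ∈ maximalIdeal R, z * a = 0 := fun a ha => by
        rw [hz, Submodule.mem_colon_singleton, Submodule.mem_bot, smul_eq_mul] at ha
        rw [mul_comm, ha]
      haveI := projective_of_pdlt hz0 hzm N _ hpd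
      haveI := Module.free_of_flat_of_isLocalRing (R := R) (P := R ⧸ maximalIdeal R)
      haveI := nontrivial_quotient (maximalIdeal.isMaximal R).ne_top
      obtain ⟨i⟩ := (Module.Free.chooseBasis R (R ⧸ maximalIdeal R)).index_nonempty
      set b := Module.Free.chooseBasis R (R ⧸ maximalIdeal R)
      refine hm0 (eq_bot_iff.2 fun a ha => ?_)
      have h0 : a • b i = 0 := by
        rw [Algebra.smul_def, Ideal.Quotient.algebraMap_eq, Ideal.Quotient.eq_zero_iff_mem.2 ha, zero_mul]
      exact (by simpa using congrArg (fun w => b.repr w i) h0 : a = 0)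
    obtain ⟨x, hx, hx2, hxA⟩ := exists_mem_notMem_sq (associatedPrimes.finite R R)
      (fun P hP => hP.1) (fun P hP hPm => hass (hPm ▸ hP)) hm0
    have hnz : x ∈ nonZeroDivisors R := by
      by_contra hzd
      have hmem : x ∈ ⋃ p ∈ associatedPrimes R R, (p : Set R) := by
        rw [biUnion_associatedPrimes_eq_compl_nonZeroDivisors]; exact hzd
      obtain ⟨P, hP, hxP⟩ := Set.mem_iUnion₂.1 hmem
      exact hxA P hP hxP
    have hR : IsSMulRegular R x := Module.Flat.isSMulRegular_of_nonZeroDivisors hnz
    haveI := nontrivial_quotient (singleton_ne_top hx)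
    match n, hn with
    | 0, hn =>
      exact absurd ((Submodule.spanFinrank_eq_zero_iff_eq_bot (IsNoetherian.noetherian _)).1 hn) hm0
    | n + 1, hn =>
      set π := Ideal.Quotient.mk (Ideal.span {x})
      have hn' : (maximalIdeal (R ⧸ Ideal.span {x})).spanFinrank = n := by
        have := spanFinrank_maximalIdeal_quotient_singleton hx hx2; omega
      -- the maximal ideal, and its reduction
      have hm : PDLT R (maximalIdeal R) (N + 1) := by
        have h2 := (pdlt_ker_iff (Submodule.mkQ (maximalIdeal R)) (Submodule.mkQ_surjective _) N).1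
          (hpd.mono (Nat.le_succ _))
        exact h2.of_equiv (LinearEquiv.ofEq _ _ (Submodule.ker_mkQ _))
      have hmreg : IsSMulRegular (maximalIdeal R) x := fun a b h =>
        Subtype.ext (hR (congrArg Subtype.val h))
      have hmbar := (pdlt_quotSMulTop_iff hx hR N (maximalIdeal R) hmreg).2 hm
      let θ : maximalIdeal R →ₗ[R] maximalIdeal (R ⧸ Ideal.span {x}) :=
        { toFun := fun a => ⟨π a.1, by
            rw [← map_maximalIdeal_of_surjective π Ideal.Quotient.mk_surjective]
            exact Ideal.mem_map_of_mem π a.2⟩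
          map_add' := fun a b => Subtype.ext (map_add π _ _)
          map_smul' := fun c a => Subtype.ext (map_mul π c a.1) }
      let ρ : QuotSMulTop x (maximalIdeal R) →ₗ[R] maximalIdeal (R ⧸ Ideal.span {x}) :=
        Submodule.liftQ _ θ (by
          intro a ha
          obtain ⟨b, -, rfl⟩ := (Submodule.mem_smul_pointwise_iff_exists _ _ _).1 ha
          refine Subtype.ext (Ideal.Quotient.eq_zero_iff_mem.2 ?_)
          exact Ideal.mul_mem_right _ _ (Ideal.mem_span_singleton_self x))
      obtain ⟨s, hs, hsm⟩ := exists_span_insert (IsNoetherian.noetherian _) hx (by rwa [← sq])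
      have hsle : Ideal.span (s : Set R) ≤ maximalIdeal R := by
        rw [hsm]; exact Ideal.span_mono (Set.subset_insert _ _)
      let S' : Submodule R (QuotSMulTop x (maximalIdeal R)) :=
        (Submodule.comap (maximalIdeal R).subtype (Ideal.span (s : Set R))).map (Submodule.mkQ _)
      have hbij : Function.Bijective (ρ ∘ₗ S'.subtype) := by
        constructor
        · rw [injective_iff_map_eq_zero]
          rintro ⟨w, a, ha, rfl⟩ hw
          refine Subtype.ext ((Submodule.Quotient.mk_eq_zero _).2 ?_)
          obtain ⟨c, hc⟩ := Ideal.mem_span_singleton'.1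
            (Ideal.Quotient.eq_zero_iff_mem.1 (congrArg Subtype.val hw : π a.1 = 0))
          by_cases hcm : c ∈ maximalIdeal R
          · exact (Submodule.mem_smul_pointwise_iff_exists _ _ _).2
              ⟨⟨c, hcm⟩, trivial, Subtype.ext ((mul_comm x c).trans hc)⟩
          · exfalso
            have hxs : x ∈ Ideal.span (s : Set R) :=
              (Ideal.unit_mul_mem_iff_mem _ (notMem_maximalIdeal.1 hcm)).1 (hc ▸ ha)
            have hms : maximalIdeal R = Ideal.span (s : Set R) := by
              conv_lhs => rw [hsm, Ideal.span_insert]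
              exact sup_eq_right.2 ((Ideal.span_singleton_le_iff_mem _).2 hxs)
            have := Submodule.spanFinrank_span_le_ncard_of_finite (R := R) (Finset.finite_toSet s)
            rw [Set.ncard_coe_finset, Ideal.submodule_span_eq, ← hms] at this
            omega
        · rintro ⟨y, hy⟩
          rw [← map_maximalIdeal_of_surjective π Ideal.Quotient.mk_surjective] at hy
          obtain ⟨b, hb, rfl⟩ := (Ideal.mem_map_iff_of_surjective π Ideal.Quotient.mk_surjective).1 hy
          rw [hsm, Ideal.span_insert, Submodule.mem_sup] at hb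
          obtain ⟨u, hu, w, hw, rfl⟩ := hb
          refine ⟨⟨_, ⟨w, hsle hw⟩, hw, rfl⟩, Subtype.ext ?_⟩
          show π w = π (u + w)
          rw [map_add, show π u = 0 from Ideal.Quotient.eq_zero_iff_mem.2 hu, zero_add]
      let e := LinearEquiv.ofBijective _ hbij
      have hbar : PDLT (R ⧸ Ideal.span {x}) (maximalIdeal (R ⧸ Ideal.span {x})) (N + 1) := by
        refine hmbar.of_retract
          ((S'.subtype ∘ₗ e.symm.toLinearMap).extendScalarsOfSurjective Ideal.Quotient.mk_surjective)
          (ρ.extendScalarsOfSurjective Ideal.Quotient.mk_surjective) ?_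
        refine LinearMap.ext fun y => ?_
        exact e.apply_symm_apply y
      have hk : PDLT (R ⧸ Ideal.span {x}) ((R ⧸ Ideal.span {x}) ⧸ maximalIdeal (R ⧸ Ideal.span {x}))
          (N + 1 + 1) := by
        refine (pdlt_ker_iff (Submodule.mkQ (maximalIdeal (R ⧸ Ideal.span {x})))
          (Submodule.mkQ_surjective _) N).2 ?_
        exact hbar.of_equiv (LinearEquiv.ofEq _ _ (Submodule.ker_mkQ _).symm)
      haveI := isRegularLocalRing_of_pdlt_aux n _ hn' _ hk
      haveI : IsRegularLocalRing (R ⧸ Ideal.ofList [x]) :=
        IsRegularLocalRing.of_ringEquiv (Ideal.quotEquivOfEq (Ideal.ofList_singleton x).symm)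
      exact isRegularLocalRing_of_quotient R ((isRegular_cons_ring (rs := [])).2 ⟨hR, IsRegular.nil _ _⟩)

/-- Serre: a Noetherian local ring whose residue field has finite projective dimension is regular. -/
theorem isRegularLocalRing_of_pdlt {N : ℕ} (h : PDLT R (R ⧸ maximalIdeal R) (N + 1)) :
    IsRegularLocalRing R :=
  isRegularLocalRing_of_pdlt_aux _ R rfl N h

end Regular

/-- Localisations of regular local rings are regular. -/
theorem isRegularLocalRing_localization (R : Type u) [CommRing R] [IsRegularLocalRing R]
    (p : Ideal R) [p.IsPrime] : IsRegularLocalRing (Localization.AtPrime p) := by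
  let S := Localization.AtPrime p
  let q : Ideal S := Submodule.localized' S p.primeCompl (Algebra.linearMap R S) p
  have hq : q = maximalIdeal S := by
    rw [← Localization.AtPrime.map_eq_maximalIdeal]
    exact Ideal.localized'_eq_map S p.primeCompl p
  haveI := IsLocalizedModule.toLocalizedQuotient' (S := S) (p := p.primeCompl) (f := Algebra.linearMap R S) p
  have h := (pdlt_of_isRegularLocalRing R (R ⧸ p)).localization p.primeCompl
    (Submodule.toLocalizedQuotient' S p.primeCompl (Algebra.linearMap R S) p)
  exact isRegularLocalRing_of_pdlt (h.of_equiv (Submodule.quotEquivOfEq _ _ hq))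

/-- A regular local ring is a regular ring. -/
theorem isRegularRing_of_isRegularLocalRing (R : Type u) [CommRing R] [IsRegularLocalRing R] :
    IsRegularRing R :=
  isRegularRing_iff.2 fun p _ => isRegularLocalRing_localization R p

end CommAlgDim
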