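import Groth.Agent.CommAlgDim.Depth
import Groth.Agent.CommAlgDim.CM
import Mathlib.RingTheory.Ideal.Height
import Mathlib.RingTheory.KrullDimension.NonZeroDivisors

/-! Bounds on depth at generizations. -/

set_option autoImplicit false
set_option linter.style.haveILetI false
set_option maxHeartbeats 400000
universe u

open RingTheory.Sequence IsLocalRing

namespace CommAlgDim

variable {R : Type u} [CommRing R] [IsNoetherianRing R]

/-- `depth M ≤ dim R/P` at an associated prime. -/
theorem depth_le_ringKrullDim_quotient [IsLocalRing R] {M : Type u} [AddCommGroup M] [Module R M]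
    [Module.Finite R M] {P : Ideal R} (hP : P ∈ associatedPrimes R M) {n : ℕ}
    (h : HasSeqIn (maximalIdeal R) M n) : (n : WithBot ℕ∞) ≤ ringKrullDim (R ⧸ P) := by
  have : Nontrivial M := not_subsingleton_iff_nontrivial.1 fun _ => by
    simp [associatedPrimes.eq_empty_of_subsingleton] at hP
  obtain ⟨rs, rfl, hm, hr⟩ := h
  exact length_le_ringKrullDim_of_mem_associatedPrimes rs M
    (IsRegular.of_isWeaklyRegular_of_mem_maximalIdeal M hm hr) P hP

theorem ringKrullDim_quotient_map_le (p s : Ideal R) [p.IsPrime] [s.IsPrime] (hps : p ≤ s) :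
    ringKrullDim (Localization.AtPrime s ⧸ p.map (algebraMap R (Localization.AtPrime s))) ≤
      ((s.map (Ideal.Quotient.mk p)).height : WithBot ℕ∞) := by
  have hs : (s.map (Ideal.Quotient.mk p)).IsPrime :=
    Ideal.map_isPrime_of_surjective Ideal.Quotient.mk_surjective (by rwa [Ideal.mk_ker])
  let B := Localization.AtPrime s
  have key : ∀ q : PrimeSpectrum B, q ∈ PrimeSpectrum.zeroLocus (p.map (algebraMap R B) : Set B) →
      p ≤ q.asIdeal.comap (algebraMap R B) := fun q hq => Ideal.map_le_iff_le_comap.1 hq
  let f : ↥(PrimeSpectrum.zeroLocus (p.map (algebraMap R B) : Set B)) →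
      Set.Iic (⟨s.map (Ideal.Quotient.mk p), hs⟩ : PrimeSpectrum (R ⧸ p)) := fun q =>
    ⟨⟨(q.1.asIdeal.comap (algebraMap R B)).map (Ideal.Quotient.mk p),
      Ideal.map_isPrime_of_surjective Ideal.Quotient.mk_surjective (by
        rw [Ideal.mk_ker]; exact key q.1 q.2)⟩, Ideal.map_mono (by
        have := Ideal.comap_mono (f := algebraMap R B) (le_maximalIdeal (R := B) q.1.isPrime.ne_top)
        rwa [← Ideal.under_def, ← Ideal.under_def, Localization.AtPrime.under_maximalIdeal] at this)⟩
  have hf : StrictMono f := by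
    intro a b hab
    have hab' : a.1.asIdeal < b.1.asIdeal := hab
    refine lt_of_le_of_ne ?_ fun he => ?_
    · exact Ideal.map_mono (f := Ideal.Quotient.mk p) (Ideal.comap_mono (f := algebraMap R B) hab'.le)
    have he' : (a.1.asIdeal.comap (algebraMap R B)).map (Ideal.Quotient.mk p) =
        (b.1.asIdeal.comap (algebraMap R B)).map (Ideal.Quotient.mk p) :=
      congrArg (fun z => z.1.asIdeal) he
    have h1 := congrArg (Ideal.comap (Ideal.Quotient.mk p)) he'
    rw [Ideal.comap_map_quotientMk, Ideal.comap_map_quotientMk, sup_eq_right.2 (key a.1 a.2),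
      sup_eq_right.2 (key b.1 b.2)] at h1
    apply hab'.ne
    exact (IsLocalization.map_under s.primeCompl B a.1.asIdeal).symm.trans
      ((congrArg (Ideal.map (algebraMap R B)) h1).trans (IsLocalization.map_under s.primeCompl B b.1.asIdeal))
  rw [ringKrullDim_quotient, PrimeSpectrum.height_eq_orderHeight ⟨_, hs⟩,
    Order.height_eq_krullDim_Iic]
  exact Order.krullDim_le_of_strictMono f hf

/-- Depth drops along a generization by at most the codimension. -/
theorem hasSeqIn_generization {p s : Ideal R} [p.IsPrime] [s.IsPrime] (hps : p ≤ s) {h : ℕ}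
    (hh : (s.map (Ideal.Quotient.mk p)).height ≤ h) : ∀ (n : ℕ) (M : Type u) [AddCommGroup M]
    [Module R M] [Module.Finite R M],
    HasSeqIn (maximalIdeal (Localization.AtPrime s)) (LocalizedModule s.primeCompl M) (n + h) →
    HasSeqIn (maximalIdeal (Localization.AtPrime p)) (LocalizedModule p.primeCompl M) n
  | 0, M, _, _, _, _ => hasSeqIn_zero _
  | n + 1, M, _, _, _, hM => by
    let B := Localization.AtPrime s
    let Ms := LocalizedModule s.primeCompl M
    have hass : ∀ Q ∈ associatedPrimes B Ms, ¬ p.map (algebraMap R B) ≤ Q := fun Q hQ hle => by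
      have h1 := depth_le_ringKrullDim_quotient hQ hM
      have h2 : ringKrullDim (B ⧸ Q) ≤ (h : WithBot ℕ∞) := by
        refine (ringKrullDim_le_of_surjective (Ideal.Quotient.factor hle)
          (Ideal.Quotient.factor_surjective _)).trans ((ringKrullDim_quotient_map_le p s hps).trans ?_)
        exact_mod_cast hh
      have h3 : n + 1 + h ≤ h := by exact_mod_cast h1.trans h2
      omega
    obtain ⟨y, hy, hyreg⟩ := exists_isSMulRegular_mem hass
    obtain ⟨x, hxp, hxreg⟩ : ∃ x ∈ p, IsSMulRegular Ms (algebraMap R B x) := by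
      obtain ⟨⟨⟨a, ha⟩, t⟩, hat⟩ := (IsLocalization.mem_map_algebraMap_iff s.primeCompl B).1 hy
      refine ⟨a, ha, ?_⟩
      change y * algebraMap R B t = algebraMap R B a at hat
      rw [← hat]
      exact hyreg.mul ((IsLocalization.map_units B t).isSMulRegular _)
    have hp' : IsSMulRegular (LocalizedModule p.primeCompl M) (algebraMap R (Localization.AtPrime p) x) := by
      refine isSMulRegular_iff_right_eq_zero_of_smul.2 fun z hz => ?_
      obtain ⟨⟨m, t⟩, rfl⟩ := IsLocalizedModule.mk'_surjective p.primeCompl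
        (LocalizedModule.mkLinearMap p.primeCompl M) z
      simp only [Function.uncurry_apply_pair, algebraMap_smul, ← IsLocalizedModule.mk'_smul,
        IsLocalizedModule.mk'_eq_zero'] at hz ⊢
      obtain ⟨c, hc⟩ := hz
      have h0 : LocalizedModule.mkLinearMap s.primeCompl M ((c : R) • m) = 0 := by
        refine hxreg.right_eq_zero_of_smul ?_
        rw [algebraMap_smul, ← map_smul, smul_comm x, ← Submonoid.smul_def, hc, map_zero]
      obtain ⟨d, hd⟩ := (IsLocalizedModule.eq_zero_iff s.primeCompl
        (LocalizedModule.mkLinearMap s.primeCompl M)).1 h0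
      refine ⟨⟨d, fun hdp => d.2 (hps hdp)⟩ * c, ?_⟩
      rw [Submonoid.smul_def, Submonoid.coe_mul, mul_smul]
      exact hd
    have hxs : algebraMap R B x ∈ maximalIdeal B :=
      (IsLocalization.AtPrime.to_map_mem_maximal_iff B s x).2 (hps hxp)
    obtain ⟨e⟩ := exists_quot_equiv (M := M) s x
    have hM' := HasSeqIn.congr e.symm (HasSeqIn.quotSMulTop (n := n + h) hxs hxreg
      ((show n + h + 1 = n + 1 + h by omega) ▸ hM))
    obtain ⟨e'⟩ := exists_quot_equiv (M := M) p x
    exact hasSeqIn_succ_of_cons ((IsLocalization.AtPrime.to_map_mem_maximal_iff _ p x).2 hxp) hp'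
      (HasSeqIn.congr e' (hasSeqIn_generization hps hh n _ hM'))

end CommAlgDim
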