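import Groth.Agent.CommAlgDim.Regular
import Mathlib.RingTheory.Filtration
import Mathlib.RingTheory.MvPolynomial.Homogeneous
import Mathlib.RingTheory.Polynomial.Basic

/-! Regular systems of parameters are quasi-regular: the associated graded ring is a polynomial ring. -/

set_option autoImplicit false
set_option maxHeartbeats 400000
set_option linter.style.haveILetI false
universe u

open IsLocalRing MvPolynomial

namespace CommAlgDim

variable {R : Type u} [CommRing R]

theorem exists_isHomogeneous_eval_eq {d : ℕ} (x : Fin d → R) : ∀ (n : ℕ) {a : R},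
    a ∈ Ideal.span (Set.range x) ^ n → ∃ F : MvPolynomial (Fin d) R, F.IsHomogeneous n ∧ eval x F = a
  | 0, a, _ => ⟨C a, isHomogeneous_C _ a, eval_C a⟩
  | n + 1, a, ha => by
    rw [pow_succ] at ha
    refine Submodule.mul_induction_on ha (fun b hb c hc => ?_) fun b c ⟨F, hF, hFb⟩ ⟨G, hG, hGc⟩ =>
      ⟨F + G, hF.add hG, by rw [map_add, hFb, hGc]⟩
    obtain ⟨F, hF, rfl⟩ := exists_isHomogeneous_eval_eq x n hb
    obtain ⟨k, rfl⟩ := (Submodule.mem_span_range_iff_exists_fun R).1 hc
    exact ⟨F * ∑ i, C (k i) * X i,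
      hF.mul (IsHomogeneous.sum _ _ _ fun i _ => (isHomogeneous_X R i).C_mul _), by simp [smul_eq_mul]⟩

theorem eval_mem_pow {σ : Type*} (I : Ideal R) (x : σ → R) (hx : ∀ i, x i ∈ I)
    {F : MvPolynomial σ R} {n : ℕ} (hF : F.IsHomogeneous n) : eval x F ∈ I ^ n := by
  rw [F.as_sum, map_sum]
  refine sum_mem fun s hs => ?_
  rw [eval_monomial, hF.degree_eq_sum_deg_support hs]
  refine Ideal.mul_mem_left _ _ ?_
  rw [← Finset.prod_pow_eq_pow_sum]
  exact Ideal.prod_mem_prod fun i _ => Ideal.pow_mem_pow (hx i) _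

theorem eval_mem_pow_succ {σ : Type*} (I : Ideal R) (x : σ → R) (hx : ∀ i, x i ∈ I)
    {F : MvPolynomial σ R} {n : ℕ} (hF : F.IsHomogeneous n) (hI : ∀ s, F.coeff s ∈ I) :
    eval x F ∈ I ^ (n + 1) := by
  rw [F.as_sum, map_sum]
  refine sum_mem fun s hs => ?_
  rw [eval_monomial, hF.degree_eq_sum_deg_support hs, pow_succ']
  refine Ideal.mul_mem_mul (hI s) ?_
  rw [← Finset.prod_pow_eq_pow_sum]
  exact Ideal.prod_mem_prod fun i _ => Ideal.pow_mem_pow (hx i) _

theorem degree_tail {d : ℕ} (s : Fin (d + 1) →₀ ℕ) : s.degree = s 0 + s.tail.degree := by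
  simp [Finsupp.degree_eq_sum, Fin.sum_univ_succ, Finsupp.tail_apply]

/-- A homogeneous polynomial split by its first variable. -/
theorem exists_split {d n : ℕ} {F : MvPolynomial (Fin (d + 1)) R} (hF : F.IsHomogeneous (n + 1)) :
    ∃ (F0 : MvPolynomial (Fin d) R) (F1 : MvPolynomial (Fin (d + 1)) R),
      F0.IsHomogeneous (n + 1) ∧ F1.IsHomogeneous n ∧ F = rename Fin.succ F0 + X 0 * F1 := by
  classical
  refine ⟨∑ s ∈ F.support.filter (fun s => s 0 = 0), monomial s.tail (F.coeff s),
    ∑ s ∈ F.support.filter (fun s => ¬ s 0 = 0), monomial (s - Finsupp.single 0 1) (F.coeff s),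
    IsHomogeneous.sum _ _ _ fun s hs => ?_, IsHomogeneous.sum _ _ _ fun s hs => ?_, ?_⟩
  · obtain ⟨hs, hs0⟩ := Finset.mem_filter.1 hs
    refine isHomogeneous_monomial _ ?_
    have h := hF.degree_eq_sum_deg_support hs
    rw [← Finsupp.degree_apply, degree_tail, hs0] at h
    omega
  · obtain ⟨hs, hs0⟩ := Finset.mem_filter.1 hs
    refine isHomogeneous_monomial _ ?_
    have h := hF.degree_eq_sum_deg_support hs
    have hadd : Finsupp.single 0 1 + (s - Finsupp.single 0 1) = s :=
      add_tsub_cancel_of_le (Finsupp.single_le_iff.2 (Nat.one_le_iff_ne_zero.2 hs0))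
    rw [← Finsupp.degree_apply, ← hadd, map_add, Finsupp.degree_single] at h
    omega
  · conv_lhs => rw [F.as_sum]
    rw [← Finset.sum_filter_add_sum_filter_not F.support (fun s => s 0 = 0), map_sum, Finset.mul_sum]
    refine congrArg₂ (· + ·) (Finset.sum_congr rfl fun s hs => ?_) (Finset.sum_congr rfl fun s hs => ?_)
    · rw [rename_monomial]
      refine congrArg (fun t => monomial t (F.coeff s)) (Finsupp.ext fun i => ?_)
      cases i using Fin.cases with
      | zero =>
        rw [Finsupp.mapDomain_of_notMem_range _ _ (by simp [Fin.succ_ne_zero]), (Finset.mem_filter.1 hs).2]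
      | succ i => rw [Finsupp.mapDomain_apply (Fin.succ_injective d), Finsupp.tail_apply]
    · rw [X, monomial_mul, one_mul, add_tsub_cancel_of_le
        (Finsupp.single_le_iff.2 (Nat.one_le_iff_ne_zero.2 (Finset.mem_filter.1 hs).2))]

theorem rsop_head [IsRegularLocalRing R] {d : ℕ} {x : Fin (d + 1) → R}
    (hd : (maximalIdeal R).spanFinrank = d + 1) (hx : Ideal.span (Set.range x) = maximalIdeal R) :
    x 0 ∈ maximalIdeal R ∧ x 0 ∉ maximalIdeal R ^ 2 := by
  classical
  have h0 : x 0 ∈ maximalIdeal R := hx ▸ Ideal.subset_span ⟨0, rfl⟩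
  refine ⟨h0, fun h => ?_⟩
  let J := Ideal.span (Set.range fun i : Fin d => x i.succ)
  have hle : maximalIdeal R ≤ J ⊔ maximalIdeal R • maximalIdeal R := by
    conv_lhs => rw [← hx]
    refine Ideal.span_le.2 ?_
    rintro _ ⟨i, rfl⟩
    cases i using Fin.cases with
    | zero => exact Submodule.mem_sup_right (by rw [smul_eq_mul, ← sq]; exact h)
    | succ i => exact Submodule.mem_sup_left (Ideal.subset_span ⟨i, rfl⟩)
  have h1 := Submodule.le_of_le_smul_of_le_jacobson_bot (IsNoetherian.noetherian _)
    (jacobson_eq_maximalIdeal (⊥ : Ideal R) bot_ne_top).ge hle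
  have h2 : maximalIdeal R = Ideal.span ((Finset.univ.image fun i : Fin d => x i.succ : Finset R) : Set R) := by
    rw [Finset.coe_image, Finset.coe_univ, Set.image_univ]
    exact le_antisymm h1 (hx ▸ Ideal.span_mono (by rintro _ ⟨i, rfl⟩; exact ⟨i.succ, rfl⟩))
  rw [h2] at hd
  have h3 := (Submodule.spanFinrank_span_le_ncard_of_finite (R := R)
    (Finset.finite_toSet (Finset.univ.image fun i : Fin d => x i.succ)))
  rw [Set.ncard_coe_finset, Ideal.submodule_span_eq, hd] at h3
  have := h3.trans (Finset.card_image_le.trans (by simp : _ ≤ d))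
  omega

theorem quasiRegular : ∀ (d : ℕ) (R : Type u) [CommRing R] [IsRegularLocalRing R] (x : Fin d → R),
    (maximalIdeal R).spanFinrank = d → Ideal.span (Set.range x) = maximalIdeal R →
    ∀ (n : ℕ) (F : MvPolynomial (Fin d) R), F.IsHomogeneous n → eval x F ∈ maximalIdeal R ^ (n + 1) →
      ∀ s, F.coeff s ∈ maximalIdeal R
  | 0, R, _, _, x, _, _, n, F, hF, he, s => by
    rcases Nat.eq_zero_or_pos n with rfl | hn
    · have hs : s = 0 := Subsingleton.elim _ _
      have hFC : F = C (F.coeff 0) := by
        ext t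
        rw [Subsingleton.elim t 0, coeff_C, if_pos rfl]
      rw [hFC, eval_C, zero_add, pow_one] at he
      rwa [hs]
    · rw [hF.coeff_eq_zero (by rw [Subsingleton.elim s 0]; simp; omega)]
      exact zero_mem _
  | d + 1, R, _, _, x, hd, hx, n, F, hF, he, s => by
    obtain ⟨hx0, hx02⟩ := rsop_head hd hx
    haveI := nontrivial_quotient (singleton_ne_top hx0)
    haveI := isRegularLocalRing_quotient_singleton hx0 hx02
    haveI := isDomain_of_isRegularLocalRing R
    have hx0ne : x 0 ≠ 0 := fun h => hx02 (h ▸ zero_mem _)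
    set π := Ideal.Quotient.mk (Ideal.span {x 0})
    let x' : Fin d → R := fun i => x i.succ
    have hxm : ∀ i, x i ∈ maximalIdeal R := fun i => hx ▸ Ideal.subset_span ⟨i, rfl⟩
    have hmap : Ideal.span (Set.range fun i => π (x' i)) = maximalIdeal (R ⧸ Ideal.span {x 0}) := by
      rw [← map_maximalIdeal_of_surjective π Ideal.Quotient.mk_surjective, ← hx, Ideal.map_span]
      refine le_antisymm (Ideal.span_mono (by rintro _ ⟨i, rfl⟩; exact ⟨_, ⟨i.succ, rfl⟩, rfl⟩)) ?_
      refine Ideal.span_le.2 ?_
      rintro _ ⟨_, ⟨i, rfl⟩, rfl⟩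
      cases i using Fin.cases with
      | zero =>
        rw [show π (x 0) = 0 from Ideal.Quotient.eq_zero_iff_mem.2 (Ideal.mem_span_singleton_self _)]
        exact zero_mem _
      | succ i => exact Ideal.subset_span ⟨i, rfl⟩
    -- reduction of polynomials in the remaining variables
    have hred : ∀ (k : ℕ) (G : MvPolynomial (Fin d) R), G.IsHomogeneous k →
        π (eval x' G) ∈ maximalIdeal (R ⧸ Ideal.span {x 0}) ^ (k + 1) → ∀ t, G.coeff t ∈ maximalIdeal R := by
      intro k G hG hGe t
      have hd' : (maximalIdeal (R ⧸ Ideal.span {x 0})).spanFinrank = d := by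
        have := spanFinrank_maximalIdeal_quotient_singleton hx0 hx02; omega
      have hev : eval (fun i => π (x' i)) (G.map π) = π (eval x' G) := by
        rw [eval_map]; exact (eval₂_comp π x' G).symm
      have h1 := quasiRegular d _ (fun i => π (x' i)) hd' hmap k (G.map π) (hG.map π) (hev ▸ hGe) t
      rw [coeff_map] at h1
      haveI := IsLocalHom.of_surjective π Ideal.Quotient.mk_surjective
      rw [← maximalIdeal_comap π, Ideal.mem_comap]
      exact h1
    -- the first parameter is superficial
    have hcolon : ∀ (M : ℕ) (a : R), x 0 * a ∈ maximalIdeal R ^ (M + 1) → a ∈ maximalIdeal R ^ M := by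
      intro M a ha
      obtain ⟨c, hc⟩ := (maximalIdeal R).exists_pow_inf_eq_pow_smul (Ideal.span {x 0} : Ideal R)
      have hstep : ∀ N, ∃ b ∈ maximalIdeal R ^ M, x 0 * (a - b) ∈ maximalIdeal R ^ (M + 1 + N) := by
        intro N
        induction N with
        | zero => exact ⟨0, zero_mem _, by simpa using ha⟩
        | succ N ih =>
          obtain ⟨b, hb, hab⟩ := ih
          rw [show M + 1 + N = M + N + 1 by ring] at hab
          rw [← hx] at hab
          obtain ⟨H, hH, hHe⟩ := exists_isHomogeneous_eval_eq x _ hab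
          obtain ⟨H0, H1, hH0, hH1, rfl⟩ := exists_split hH
          rw [map_add, map_mul, eval_X, eval_rename] at hHe
          have h0 : π (eval x' H0) ∈ maximalIdeal (R ⧸ Ideal.span {x 0}) ^ (M + N + 1 + 1) := by
            have : eval x' H0 = x 0 * (a - b - eval x H1) := by
              rw [show eval x' H0 = eval (x ∘ Fin.succ) H0 from rfl]; linear_combination hHe
            rw [this, map_mul, show π (x 0) = 0 from Ideal.Quotient.eq_zero_iff_mem.2 (Ideal.mem_span_singleton_self _),
              zero_mul]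
            exact zero_mem _
          refine ⟨b + eval x H1, add_mem hb (Ideal.pow_le_pow_right (Nat.le_add_right M N)
            (eval_mem_pow _ x hxm hH1)), ?_⟩
          have h1 := eval_mem_pow_succ _ x' (fun i => hxm _) hH0 (hred _ H0 hH0 h0)
          rw [show x 0 * (a - (b + eval x H1)) = eval x' H0 by
            rw [show eval x' H0 = eval (x ∘ Fin.succ) H0 from rfl]; linear_combination -hHe]
          rwa [show M + 1 + (N + 1) = M + N + 1 + 1 by ring]
      obtain ⟨b, hb, hab⟩ := hstep c
      have h1 : x 0 * (a - b) ∈ maximalIdeal R ^ (M + 1 + c) • (⊤ : Ideal R) ⊓ Ideal.span {x 0} :=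
        ⟨by rwa [smul_eq_mul, Ideal.mul_top], Ideal.mul_mem_right _ _ (Ideal.mem_span_singleton_self _)⟩
      rw [hc _ (Nat.le_add_left c _)] at h1
      have h2 : x 0 * (a - b) ∈ maximalIdeal R ^ (M + 1 + c - c) * Ideal.span {x 0} :=
        Submodule.smul_mono le_rfl inf_le_right h1
      rw [Ideal.mem_mul_span_singleton] at h2
      obtain ⟨w, hw, hwx⟩ := h2
      rw [mul_comm] at hwx
      rw [mul_left_cancel₀ hx0ne hwx, Nat.add_sub_cancel] at hw
      simpa using add_mem (Ideal.pow_le_pow_right M.le_succ hw) hb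
    -- the statement
    induction n generalizing F s with
    | zero =>
      have hs : ∀ t, t ≠ 0 → F.coeff t = 0 := fun t ht => hF.coeff_eq_zero (by simpa [Finsupp.degree_eq_zero_iff] using ht)
      have hFC : F = C (F.coeff 0) := by
        ext t
        rw [coeff_C]
        split_ifs with h
        · rw [h]
        · exact hs t (Ne.symm h)
      rw [hFC, eval_C, zero_add, pow_one] at he
      rcases eq_or_ne s 0 with rfl | h
      · exact he
      · rw [hs s h]; exact zero_mem _
    | succ n ih =>
      obtain ⟨F0, F1, hF0, hF1, rfl⟩ := exists_split hF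
      rw [map_add, map_mul, eval_X, eval_rename] at he
      have h0 : π (eval x' F0) ∈ maximalIdeal (R ⧸ Ideal.span {x 0}) ^ (n + 1 + 1) := by
        rw [← map_maximalIdeal_of_surjective π Ideal.Quotient.mk_surjective, ← Ideal.map_pow]
        have h := Ideal.mem_map_of_mem π he
        rw [map_add, map_mul, show π (x 0) = 0 from Ideal.Quotient.eq_zero_iff_mem.2 (Ideal.mem_span_singleton_self _),
          zero_mul, add_zero] at h
        exact h
      have hc0 := hred _ F0 hF0 h0
      have h1 : x 0 * eval x F1 ∈ maximalIdeal R ^ (n + 1 + 1) := by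
        have := sub_mem he (eval_mem_pow_succ _ x' (fun i => hxm _) hF0 hc0)
        simpa [x', Function.comp_def] using this
      have hc1 := fun t => ih F1 hF1 (hcolon _ _ h1) t
      have hm0 : rename Fin.succ F0 ∈ (maximalIdeal R).map (C : R →+* MvPolynomial (Fin (d + 1)) R) := by
        have := Ideal.mem_map_of_mem (rename (R := R) (Fin.succ (n := d))).toRingHom
          (MvPolynomial.mem_map_C_iff.2 hc0)
        rwa [Ideal.map_map, show (rename (R := R) (Fin.succ (n := d))).toRingHom.comp C = C from
          RingHom.ext fun r => rename_C _ r] at this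
      exact MvPolynomial.mem_map_C_iff.1
        (add_mem hm0 (Ideal.mul_mem_left _ _ (MvPolynomial.mem_map_C_iff.2 hc1))) s

end CommAlgDim
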