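import Groth.Agent.CommAlgDim.GlobalDim
import Mathlib.RingTheory.Spectrum.Prime.FreeLocus
import Mathlib.RingTheory.Localization.Finiteness
import Mathlib.RingTheory.Localization.LocalizationLocalization

/-! The locus of bounded projective dimension; localisations of regular rings. -/

set_option autoImplicit false
set_option maxHeartbeats 400000
set_option linter.style.haveILetI false
universe u

open CategoryTheory

namespace CommAlgDim

variable (A : Type u) [CommRing A] (M : Type u) [AddCommGroup M] [Module A M]

/-- `projdim M_p ≤ n`. -/
abbrev PDLTAt (p : PrimeSpectrum A) (n : ℕ) : Prop :=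
  PDLT (Localization.AtPrime p.asIdeal) (LocalizedModule p.asIdeal.primeCompl M) n

variable {A M}

theorem pdltAt_ker_iff {F : Type u} [AddCommGroup F] [Module A F] [Module.Projective A F]
    (f : F →ₗ[A] M) (hf : Function.Surjective f) (p : PrimeSpectrum A) (n : ℕ) :
    PDLTAt A M p (n + 2) ↔ PDLTAt A (LinearMap.ker f) p (n + 1) := by
  let S := p.asIdeal.primeCompl
  haveI : Module.Projective (Localization S) (LocalizedModule S F) :=
    Module.projective_of_isLocalizedModule S (LocalizedModule.mkLinearMap S F)
  let g := IsLocalizedModule.map S (LocalizedModule.mkLinearMap S F) (LocalizedModule.mkLinearMap S M) f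
  let g' := g.extendScalarsOfIsLocalization S (Localization S)
  have hg : Function.Surjective g' :=
    IsLocalizedModule.map_surjective S (LocalizedModule.mkLinearMap S F)
      (LocalizedModule.mkLinearMap S M) f hf
  rw [PDLTAt, pdlt_ker_iff g' hg n]
  haveI := LinearMap.toKerLocalized_isLocalizedModule (Localization S) S
    (LocalizedModule.mkLinearMap S F) (LocalizedModule.mkLinearMap S M) f
  let e : LinearMap.ker g ≃ₗ[A] LinearMap.ker g' :=
    { toFun := fun x => ⟨x.1, x.2⟩
      invFun := fun x => ⟨x.1, x.2⟩
      left_inv := fun x => rfl
      right_inv := fun x => rfl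
      map_add' := fun x y => rfl
      map_smul' := fun c x => rfl }
  exact PDLT.congr (LinearEquiv.extendScalarsOfIsLocalization S (Localization S)
    ((e.symm).trans (IsLocalizedModule.linearEquiv S (LinearMap.toKerIsLocalized S (LocalizedModule.mkLinearMap S F)
      (LocalizedModule.mkLinearMap S M) f) (LocalizedModule.mkLinearMap S (LinearMap.ker f)))))

theorem isOpen_setOf_pdltAt [IsNoetherianRing A] : ∀ (n : ℕ) (M : Type u) [AddCommGroup M] [Module A M]
    [Module.Finite A M], IsOpen {p : PrimeSpectrum A | PDLTAt A M p (n + 1)}
  | 0, M, _, _, _ => by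
    haveI : Module.FinitePresentation A M := Module.finitePresentation_of_finite A M
    suffices h : {p : PrimeSpectrum A | PDLTAt A M p 1} = Module.freeLocus A M from
      h ▸ Module.isOpen_freeLocus
    ext p
    rw [Set.mem_setOf_eq, PDLTAt, pdlt_one_iff, Module.mem_freeLocus]
    exact ⟨fun h => Module.free_of_flat_of_isLocalRing, fun h => Module.Projective.of_free⟩
  | n + 1, M, _, _, _ => by
    obtain ⟨k, f, hf⟩ := Module.Finite.exists_fin' A M
    simp only [pdltAt_ker_iff f hf]
    exact isOpen_setOf_pdltAt n (LinearMap.ker f)

/-- A localisation of a regular ring is regular. -/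
theorem isRegularRing_localization {R : Type u} [CommRing R] [IsRegularRing R] (S : Submonoid R) :
    IsRegularRing (Localization S) := by
  haveI : IsNoetherianRing (Localization S) := IsLocalization.isNoetherianRing S _ inferInstance
  refine isRegularRing_iff.2 fun p _ => ?_
  exact IsRegularLocalRing.of_ringEquiv
    (IsLocalization.localizationLocalizationAtPrimeIsoLocalization S p).toRingEquiv

end CommAlgDim
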