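import Groth.Agent.CommAlgDim.GrFamily
import Mathlib.RingTheory.Filtration
import Mathlib.RingTheory.Ideal.Quotient.Noetherian
import Mathlib.RingTheory.Finiteness.Cardinality
import Mathlib.RingTheory.KrullDimension.Module
import Mathlib.RingTheory.KrullDimension.Zero
import Mathlib.RingTheory.Artinian.Ring
import Mathlib.RingTheory.Support
import Mathlib.RingTheory.Ideal.AssociatedPrime.Localization
import Mathlib.RingTheory.Nakayama
import Mathlib.RingTheory.QuotSMulTop
import Mathlib.RingTheory.HopkinsLevitzki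
import Mathlib.Algebra.Module.Torsion.Basic

/-! Hilbert–Samuel functions of ideals and the dimension of modules. -/

set_option autoImplicit false
set_option maxHeartbeats 400000
universe u v

open Filter Polynomial Pointwise

namespace CommAlgDim

variable {R : Type u} [CommRing R]

section Defs
variable (I : Ideal R) (M : Type v) [AddCommGroup M] [Module R M]

/-- The Hilbert–Samuel function `n ↦ length (M / I^n M)`. -/
noncomputable def chi (n : ℕ) : ℕ := len R (M ⧸ I ^ n • (⊤ : Submodule R M))

/-- `P` is a Hilbert–Samuel polynomial of `M` with respect to `I`. -/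
def IsHSPoly (P : ℚ[X]) : Prop := ∀ᶠ n in atTop, (chi I M n : ℚ) = P.eval (n : ℚ)

/-- The graded piece `I^n M / I^(n+1) M`. -/
abbrev Gr (n : ℕ) : Type v :=
  (I ^ n • (⊤ : Submodule R M) : Submodule R M) ⧸
    (I ^ (n + 1) • (⊤ : Submodule R M)).comap (I ^ n • (⊤ : Submodule R M)).subtype

end Defs

variable {I : Ideal R} {M : Type v} [AddCommGroup M] [Module R M]

theorem pow_succ_smul_top (I : Ideal R) (n : ℕ) :
    I ^ (n + 1) • (⊤ : Submodule R M) = I • (I ^ n • ⊤) := by
  rw [← mul_smul, ← pow_succ']

theorem pow_smul_top_antitone (I : Ideal R) {a b : ℕ} (h : a ≤ b) :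
    I ^ b • (⊤ : Submodule R M) ≤ I ^ a • ⊤ :=
  Submodule.smul_mono_left (Ideal.pow_le_pow_right h)

/-- Multiplication by an element of `I` on the graded pieces. -/
noncomputable def grMul {a : R} (ha : a ∈ I) (n : ℕ) : Gr I M n →ₗ[R] Gr I M (n + 1) :=
  Submodule.mapQ _ _ ((LinearMap.lsmul R M a).restrict fun m hm => by
      rw [pow_succ_smul_top]; exact Submodule.smul_mem_smul ha hm)
    (fun m hm => by
      simp only [Submodule.mem_comap] at hm ⊢
      rw [pow_succ_smul_top]
      exact Submodule.smul_mem_smul ha hm)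

section Poly
variable {r : ℕ} {a : Fin r → R} (hI : Ideal.span (Set.range a) = I)

include hI in
theorem mem_of_gen (i : Fin r) : a i ∈ I := hI ▸ Ideal.subset_span ⟨i, rfl⟩

include hI in
theorem sum_grMul_surjective (n : ℕ) :
    Function.Surjective (∑ i, (grMul (M := M) (mem_of_gen hI i) n) ∘ₗ LinearMap.proj i :
      (Fin r → Gr I M n) →ₗ[R] Gr I M (n + 1)) := by
  intro z
  obtain ⟨⟨m, hm⟩, rfl⟩ := Submodule.mkQ_surjective _ z
  have hm' : m ∈ Ideal.span (Set.range a) • (I ^ n • (⊤ : Submodule R M)) := by
    rw [hI, ← pow_succ_smul_top]; exact hm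
  have hle : Ideal.span (Set.range a) • (I ^ n • (⊤ : Submodule R M)) ≤ LinearMap.range
      (∑ i, (LinearMap.lsmul R M (a i) ∘ₗ (I ^ n • (⊤ : Submodule R M)).subtype) ∘ₗ LinearMap.proj i :
        (Fin r → (I ^ n • (⊤ : Submodule R M) : Submodule R M)) →ₗ[R] M) := by
    rw [Submodule.smul_le]
    intro c hc m hm
    induction hc using Submodule.span_induction with
    | mem c hc =>
      obtain ⟨i, rfl⟩ := hc
      refine ⟨Pi.single i ⟨m, hm⟩, ?_⟩
      simp only [LinearMap.sum_apply, LinearMap.comp_apply, LinearMap.proj_apply]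
      rw [Finset.sum_eq_single i (fun j _ hj => by simp [hj]) (by simp)]
      simp
    | zero => rw [zero_smul]; exact zero_mem _
    | add c d _ _ hc hd => rw [add_smul]; exact add_mem hc hd
    | smul t c _ hc => rw [smul_assoc]; exact Submodule.smul_mem _ t hc
  obtain ⟨c, hcm⟩ := hle hm'
  refine ⟨fun i => Submodule.Quotient.mk (c i), ?_⟩
  simp only [LinearMap.sum_apply, LinearMap.comp_apply, LinearMap.proj_apply]
  refine (Finset.sum_congr rfl fun i _ => (Submodule.mkQ_apply _ _).symm.trans ?_).trans
    ((map_sum (Submodule.mkQ _) (fun i => (⟨a i • (c i).1, by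
      rw [pow_succ_smul_top]; exact Submodule.smul_mem_smul (mem_of_gen hI i) (c i).2⟩ :
        (I ^ (n + 1) • (⊤ : Submodule R M) : Submodule R M))) Finset.univ).symm.trans ?_)
  · rfl
  refine congrArg _ (Subtype.ext ?_)
  show _ = m
  rw [← hcm]
  simp

end Poly

variable [IsNoetherianRing R] [Module.Finite R M]

theorem wellFoundedGT_gr {r : ℕ} (a : Fin r → R) (hI : Ideal.span (Set.range a) = I) :
    WellFoundedGT (StableFam (R := R) (Gr I M) fun i n => grMul (mem_of_gen hI i) n) := by
  let T : Submodule (reesAlgebra I) (PolynomialModule R M) := (I.stableFiltration ⊤).submodule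
  have hT : T.FG :=
    ((I.stableFiltration ⊤).submodule_fg_iff_stable fun _ => IsNoetherian.noetherian _).2
      (I.stableFiltration_stable ⊤)
  have : IsNoetherian (reesAlgebra I) T := isNoetherian_of_fg_of_noetherian _ hT
  have hmem : ∀ (n : ℕ) (W : Submodule R (Gr I M n)), I ^ (n + 1) • (⊤ : Submodule R M) ≤
      (W.comap (Submodule.mkQ _)).map (I ^ n • (⊤ : Submodule R M)).subtype := by
    intro n W m hm
    refine ⟨⟨m, pow_smul_top_antitone I n.le_succ hm⟩, ?_, rfl⟩
    show Submodule.Quotient.mk ⟨m, pow_smul_top_antitone I n.le_succ hm⟩ ∈ W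
    rw [(Submodule.Quotient.mk_eq_zero ((I ^ (n + 1) • (⊤ : Submodule R M)).comap
      (I ^ n • (⊤ : Submodule R M)).subtype)).2 (show (⟨m, pow_smul_top_antitone I n.le_succ hm⟩ :
        (I ^ n • (⊤ : Submodule R M) : Submodule R M)) ∈ _ from hm)]
    exact zero_mem _
  let F : StableFam (R := R) (Gr I M) (fun i n => grMul (mem_of_gen hI i) n) → I.Filtration M := fun U =>
    { N := fun n => ((U.1 n).comap (Submodule.mkQ _)).map (I ^ n • (⊤ : Submodule R M)).subtype
      mono := fun n => (Submodule.map_subtype_le _ _).trans (hmem n _)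
      smul_le := fun n => by
        refine (Submodule.smul_mono_left hI.ge).trans ?_
        rw [Submodule.smul_le]
        intro c hc m hm
        induction hc using Submodule.span_induction with
        | mem c hc =>
          obtain ⟨i, rfl⟩ := hc
          obtain ⟨g, hg, rfl⟩ := hm
          exact ⟨⟨a i • g.1, by
            rw [pow_succ_smul_top]; exact Submodule.smul_mem_smul (mem_of_gen hI i) g.2⟩,
            U.2 i n hg, rfl⟩
        | zero => rw [zero_smul]; exact zero_mem _
        | add c d _ _ hc hd => rw [add_smul]; exact add_mem hc hd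
        | smul s c _ hc => rw [smul_assoc]; exact Submodule.smul_mem _ s hc }
  let g : StableFam (R := R) (Gr I M) (fun i n => grMul (mem_of_gen hI i) n) → Submodule (reesAlgebra I) T :=
    fun U => ((F U).submodule).comap T.subtype
  have hle : ∀ U, (F U).submodule ≤ T := fun U f hf i => Submodule.map_subtype_le _ _ (hf i)
  have hg : StrictMono g := Monotone.strictMono_of_injective
    (fun U V h => Submodule.comap_mono fun f hf i =>
      Submodule.map_mono (Submodule.comap_mono (h i)) (hf i)) fun U V h => by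
    have hFF : (F U).submodule = (F V).submodule := by
      have := congrArg (Submodule.map T.subtype) h
      simpa only [g, Submodule.map_comap_subtype, inf_eq_right.2 (hle U), inf_eq_right.2 (hle V)]
        using this
    refine Subtype.ext (funext fun n => ?_)
    apply Submodule.comap_injective_of_surjective (Submodule.mkQ_surjective _)
    apply Submodule.map_injective_of_injective (Submodule.subtype_injective _)
    ext m
    have key : ∀ W, m ∈ (F W).N n ↔ PolynomialModule.single R n m ∈ (F W).submodule := fun W =>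
      ⟨fun hm i => by
        rw [PolynomialModule.coeff_single, Finsupp.single_apply]
        split_ifs with hi
        · exact hi ▸ hm
        · exact zero_mem _,
       fun hm => by simpa [PolynomialModule.coeff_single] using hm n⟩
    show m ∈ (F U).N n ↔ m ∈ (F V).N n
    rw [key U, key V, hFF]
  exact hg.wellFoundedGT

theorem length_gr_ne_top (h1 : Module.length R (M ⧸ I • (⊤ : Submodule R M)) ≠ ⊤) :
    ∀ n, Module.length R (Gr I M n) ≠ ⊤
  | 0 => by
    refine ne_top_of_le_ne_top h1 (Module.length_le_of_injective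
      (Submodule.mapQ _ _ (I ^ 0 • (⊤ : Submodule R M)).subtype fun m hm => ?_) ?_)
    · simpa using hm
    · rw [injective_iff_map_eq_zero]
      intro z hz
      obtain ⟨m, rfl⟩ := Submodule.mkQ_surjective _ z
      rw [Submodule.mkQ_apply, Submodule.mapQ_apply, Submodule.Quotient.mk_eq_zero] at hz
      rw [Submodule.mkQ_apply, Submodule.Quotient.mk_eq_zero]
      simpa using hz
  | n + 1 => by
    obtain ⟨r, a, ha⟩ := Submodule.fg_iff_exists_fin_generating_family.1 (IsNoetherian.noetherian I)
    refine ne_top_of_le_ne_top ?_ (Module.length_le_of_surjective _ (sum_grMul_surjective ha n))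
    rw [Module.length_pi_of_fintype]
    exact (WithTop.sum_lt_top.2 fun i _ => (length_gr_ne_top h1 n).lt_top).ne

/-- `I^nM/I^(n+1)M → M/I^(n+1)M`. -/
noncomputable def grIncl (I : Ideal R) (M : Type v) [AddCommGroup M] [Module R M] (n : ℕ) :
    Gr I M n →ₗ[R] M ⧸ I ^ (n + 1) • (⊤ : Submodule R M) :=
  Submodule.mapQ _ _ (I ^ n • (⊤ : Submodule R M)).subtype le_rfl

omit [IsNoetherianRing R] [Module.Finite R M] in
theorem grIncl_injective (n : ℕ) : Function.Injective (grIncl I M n) := by
  rw [injective_iff_map_eq_zero]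
  intro z hz
  obtain ⟨m, rfl⟩ := Submodule.mkQ_surjective _ z
  rw [grIncl, Submodule.mkQ_apply, Submodule.mapQ_apply, Submodule.Quotient.mk_eq_zero] at hz
  exact (Submodule.Quotient.mk_eq_zero _).2 hz

omit [IsNoetherianRing R] [Module.Finite R M] in
theorem grIncl_exact (n : ℕ) :
    Function.Exact (grIncl I M n)
      (Submodule.factor (pow_smul_top_antitone (M := M) I n.le_succ)) := by
  intro z
  obtain ⟨m, rfl⟩ := Submodule.mkQ_surjective _ z
  constructor
  · intro hm
    exact ⟨Submodule.Quotient.mk ⟨m, (Submodule.Quotient.mk_eq_zero _).1 hm⟩, rfl⟩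
  · rintro ⟨y, hy⟩
    obtain ⟨y, rfl⟩ := Submodule.mkQ_surjective _ y
    rw [← hy]
    exact (Submodule.Quotient.mk_eq_zero _).2 y.2

theorem length_quotient_ne_top (h1 : Module.length R (M ⧸ I • (⊤ : Submodule R M)) ≠ ⊤) :
    ∀ n, Module.length R (M ⧸ I ^ n • (⊤ : Submodule R M)) ≠ ⊤
  | 0 => by
    have : Subsingleton (M ⧸ I ^ 0 • (⊤ : Submodule R M)) := by
      rw [pow_zero, Ideal.one_eq_top]
      exact Submodule.Quotient.subsingleton_iff.2 (by simp)
    simp [Module.length_eq_zero]
  | n + 1 => by
    rw [Module.length_eq_add_of_exact _ _ (grIncl_injective n) (Submodule.factor_surjective _)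
      (grIncl_exact n), ne_eq, ENat.add_eq_top, not_or]
    exact ⟨length_gr_ne_top h1 n, length_quotient_ne_top h1 n⟩

theorem exists_isHSPoly (h1 : Module.length R (M ⧸ I • (⊤ : Submodule R M)) ≠ ⊤) {r : ℕ}
    (a : Fin r → R) (hI : Ideal.span (Set.range a) = I) :
    ∃ P, IsHSPoly I M P ∧ P.natDegree ≤ r := by
  obtain ⟨P, hP, hP0, hPe⟩ := exists_hilbertPoly r (Gr I M) (fun i n => grMul (mem_of_gen hI i) n)
    (fun i j n g => by
      obtain ⟨g, rfl⟩ := Submodule.mkQ_surjective _ g
      exact congrArg (Submodule.mkQ _) (Subtype.ext (smul_comm (a i) (a j) g.1)))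
    (length_gr_ne_top h1) (wellFoundedGT_gr a hI)
  obtain ⟨Q, hQ, hQ0, hQe⟩ := eventually_of_diff (h := fun n => (chi I M n : ℚ)) (D := P) hP (by
    filter_upwards [hPe] with n hn
    rw [← hn, chi, len_add (length_quotient_ne_top h1 (n + 1)) _ _ (grIncl_injective n)
      (Submodule.factor_surjective _) (grIncl_exact n)]
    push_cast
    exact add_sub_cancel_right _ _)
  refine ⟨Q, hQe, ?_⟩
  rcases Nat.eq_zero_or_pos r with rfl | hr
  · rw [hQ0 (hP0 rfl)]
  · omega

omit [IsNoetherianRing R] [Module.Finite R M] in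
theorem IsHSPoly.nonneg {P : ℚ[X]} (h : IsHSPoly I M P) :
    ∀ᶠ n : ℕ in atTop, 0 ≤ P.eval (n : ℚ) :=
  eventually_nonneg_cast h

theorem chi_le_of_le {J : Ideal R} (hJI : J ≤ I) (h1 : Module.length R (M ⧸ J • (⊤ : Submodule R M)) ≠ ⊤)
    (n : ℕ) : chi I M n ≤ chi J M n :=
  len_le_of_surjective (length_quotient_ne_top h1 n)
    (Submodule.factor (Submodule.smul_mono_left (Ideal.pow_right_mono hJI n)))
    (Submodule.factor_surjective _)

section Exact
variable {N Q : Type v} [AddCommGroup N] [Module R N] [AddCommGroup Q] [Module R Q]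

/-- The defect inequalities of Hilbert–Samuel functions in an exact sequence. -/
theorem exists_chi_add_le (f : N →ₗ[R] M) (g : M →ₗ[R] Q) (hf : Function.Injective f)
    (hg : Function.Surjective g) (H : Function.Exact f g)
    (h1 : Module.length R (M ⧸ I • (⊤ : Submodule R M)) ≠ ⊤) :
    ∃ c : ℕ, ∀ n, c ≤ n → chi I N (n - c) + chi I Q n ≤ chi I M n := by
  obtain ⟨c, hc⟩ := I.exists_pow_inf_eq_pow_smul (LinearMap.range f)
  refine ⟨c, fun n hn => ?_⟩
  let S : Submodule R M := I ^ n • ⊤
  let T : Submodule R N := I ^ (n - c) • ⊤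
  have hST : S.comap f ≤ T := by
    intro x hx
    have : f x ∈ S ⊓ LinearMap.range f := ⟨hx, x, rfl⟩
    rw [hc n hn] at this
    have h2 : f x ∈ I ^ (n - c) • LinearMap.range f := Submodule.smul_mono le_rfl inf_le_right this
    rw [← Submodule.map_top, ← Submodule.map_smul''] at h2
    obtain ⟨y, hy, hxy⟩ := h2
    rwa [hf hxy] at hy
  have hgS : S.map g = I ^ n • ⊤ := by
    rw [Submodule.map_smul'', Submodule.map_top, LinearMap.range_eq_top.2 hg]
  let i : N ⧸ S.comap f →ₗ[R] M ⧸ S := Submodule.mapQ _ _ f le_rfl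
  let p : M ⧸ S →ₗ[R] Q ⧸ I ^ n • (⊤ : Submodule R Q) :=
    Submodule.mapQ _ _ g (Submodule.map_le_iff_le_comap.1 hgS.le)
  have hi : Function.Injective i := by
    rw [injective_iff_map_eq_zero]
    intro z hz
    obtain ⟨z, rfl⟩ := Submodule.mkQ_surjective _ z
    rw [Submodule.mkQ_apply, Submodule.mapQ_apply, Submodule.Quotient.mk_eq_zero] at hz
    exact (Submodule.Quotient.mk_eq_zero _).2 hz
  have hp : Function.Surjective p := fun z => by
    obtain ⟨z, rfl⟩ := Submodule.mkQ_surjective _ z
    obtain ⟨m, rfl⟩ := hg z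
    exact ⟨Submodule.Quotient.mk m, rfl⟩
  have hex : Function.Exact i p := by
    intro z
    obtain ⟨m, rfl⟩ := Submodule.mkQ_surjective _ z
    constructor
    · intro hm
      have hm' : g m ∈ S.map g := hgS.ge ((Submodule.Quotient.mk_eq_zero _).1 hm)
      obtain ⟨s, hs, hsm⟩ := hm'
      obtain ⟨x, hx⟩ := (H (m - s)).1 (by rw [map_sub, hsm, sub_self])
      exact ⟨Submodule.Quotient.mk x, (Submodule.Quotient.eq _).2 (by
        rw [hx]; simpa using neg_mem hs)⟩
    · rintro ⟨y, hy⟩
      obtain ⟨y, rfl⟩ := Submodule.mkQ_surjective _ y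
      rw [← hy]
      show Submodule.Quotient.mk (g (f y)) = 0
      rw [H.apply_apply_eq_zero, Submodule.Quotient.mk_zero]
  have hM := length_quotient_ne_top h1 n
  show len R (N ⧸ T) + _ ≤ len R (M ⧸ S)
  rw [len_add hM i p hi hp hex]
  exact Nat.add_le_add_right (len_le_of_surjective
    (ne_top_of_le_ne_top hM (Module.length_le_of_injective i hi))
    (Submodule.factor hST) (Submodule.factor_surjective _)) _

end Exact

theorem length_ne_top_of_support (h : ∀ p ∈ Module.support R M, p.asIdeal.IsMaximal) :
    Module.length R M ≠ ⊤ := by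
  let B := R ⧸ Module.annihilator R M
  have hB : IsArtinianRing B := by
    rw [isArtinianRing_iff_isNoetherianRing_krullDimLE_zero]
    refine ⟨inferInstanceAs (IsNoetherianRing (R ⧸ Module.annihilator R M)), Ring.krullDimLE_zero_iff.2 fun P hP => ?_⟩
    have hc : (P.comap (Ideal.Quotient.mk (Module.annihilator R M))).IsPrime := inferInstance
    have := h ⟨_, hc⟩ (by
      rw [Module.mem_support_iff_of_finite]
      exact fun a ha => by simp [Ideal.Quotient.eq_zero_iff_mem.2 ha])
    rcases Ideal.map_eq_top_or_isMaximal_of_surjective (Ideal.Quotient.mk (Module.annihilator R M))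
      Ideal.Quotient.mk_surjective this with h2 | h2
    · rw [Ideal.map_comap_of_surjective _ Ideal.Quotient.mk_surjective] at h2
      exact absurd h2 hP.ne_top
    · rwa [Ideal.map_comap_of_surjective _ Ideal.Quotient.mk_surjective] at h2
  letI : Module B M :=
    Module.IsTorsionBySet.module fun x ⟨a, ha⟩ => Module.mem_annihilator.1 ha x
  haveI : IsScalarTower R B M :=
    Module.IsTorsionBySet.isScalarTower (fun x ⟨a, ha⟩ => Module.mem_annihilator.1 ha x)
  haveI : Module.Finite B M := Module.Finite.of_restrictScalars_finite R B M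
  rw [Module.length_eq_of_surjective (R := B) (S := R) (M := M)]
  · exact Module.length_ne_top
  · exact Ideal.Quotient.mk_surjective

theorem length_quotient_smul_ne_top (h : ∀ p ∈ Module.support R M, I ≤ p.asIdeal → p.asIdeal.IsMaximal) :
    Module.length R (M ⧸ I • (⊤ : Submodule R M)) ≠ ⊤ :=
  length_ne_top_of_support fun p hp => h p
    (Module.support_subset_of_surjective _ (Submodule.mkQ_surjective _) hp) (by
      rw [Module.mem_support_iff_of_finite] at hp
      refine le_trans (fun a ha => ?_) hp
      rw [Module.mem_annihilator]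
      intro z
      obtain ⟨z, rfl⟩ := Submodule.mkQ_surjective _ z
      rw [← map_smul]
      exact (Submodule.Quotient.mk_eq_zero _).2 (Submodule.smul_mem_smul ha Submodule.mem_top))

section Jacobson
variable [Finite (MaximalSpectrum R)]

omit [IsNoetherianRing R] in
theorem isMaximal_of_jacobson_le {p : PrimeSpectrum R} (h : Ring.jacobson R ≤ p.asIdeal) :
    p.asIdeal.IsMaximal := by
  have : Fintype (MaximalSpectrum R) := Fintype.ofFinite _
  have h2 : (Finset.univ.inf fun m : MaximalSpectrum R => m.asIdeal) ≤ p.asIdeal := by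
    refine le_trans ?_ h
    rw [Ring.jacobson_eq_sInf_isMaximal]
    exact le_sInf fun m hm => Finset.inf_le (Finset.mem_univ (⟨m, hm⟩ : MaximalSpectrum R))
  obtain ⟨m, -, hm⟩ := (Ideal.IsPrime.inf_le' p.2).1 h2
  exact (m.2.eq_of_le p.2.ne_top hm) ▸ m.2

theorem length_quotient_jacobson_ne_top :
    Module.length R (M ⧸ Ring.jacobson R • (⊤ : Submodule R M)) ≠ ⊤ :=
  length_quotient_smul_ne_top fun _ _ => isMaximal_of_jacobson_le

theorem exists_isHSPoly_jacobson (M : Type v) [AddCommGroup M] [Module R M] [Module.Finite R M] :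
    ∃ P, IsHSPoly (Ring.jacobson R) M P := by
  obtain ⟨r, a, ha⟩ := Submodule.fg_iff_exists_fin_generating_family.1
    (IsNoetherian.noetherian (Ring.jacobson R))
  obtain ⟨P, hP, -⟩ := exists_isHSPoly (M := M) length_quotient_jacobson_ne_top a ha
  exact ⟨P, hP⟩

/-- Chains in the support are bounded by the degree of a Hilbert–Samuel polynomial. -/
theorem length_le_natDegree : ∀ (s : ℕ) (M : Type u) [AddCommGroup M] [Module R M] [Module.Finite R M]
    (p : Fin (s + 1) → PrimeSpectrum R), StrictMono p → (∀ i, p i ∈ Module.support R M) →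
    ∀ P, IsHSPoly (Ring.jacobson R) M P → s ≤ P.natDegree
  | 0, _, _, _, _, _, _, _, _, _ => Nat.zero_le _
  | s + 1, M, _, _, _, p, hp, hmem, P, hP => by
    set J := Ring.jacobson R
    obtain ⟨q, hq, hqp⟩ := Ideal.exists_minimalPrimes_le (Module.mem_support_iff_of_finite.1 (hmem 0))
    obtain ⟨hqprime, m, hm⟩ :=
      (isAssociatedPrime_iff_exists_injective_linearMap _ _).1
        (Module.associatedPrimes.minimalPrimes_annihilator_subset_associatedPrimes R M hq)
    haveI := hqprime
    obtain ⟨x, hx1, hx2⟩ := SetLike.exists_of_lt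
      (lt_of_le_of_lt hqp (PrimeSpectrum.asIdeal_lt_asIdeal _ _ |>.2 (hp (Fin.succ_pos (0 : Fin (s + 1))))))
    obtain ⟨PD, hPD⟩ := exists_isHSPoly_jacobson (R := R) (R ⧸ q)
    -- the domain embeds in the module
    obtain ⟨c, hc⟩ := exists_chi_add_le (I := J) m (LinearMap.range m).mkQ hm
      (Submodule.mkQ_surjective _) (LinearMap.exact_map_mkQ_range _) length_quotient_jacobson_ne_top
    have hdeg : PD.natDegree ≤ P.natDegree := by
      have h1 : (PD.comp (X - C (c : ℚ))).natDegree ≤ P.natDegree := by
        have hev : ∀ᶠ n : ℕ in atTop,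
            0 ≤ (PD.comp (X - C (c : ℚ))).eval (n : ℚ) ∧
              (PD.comp (X - C (c : ℚ))).eval (n : ℚ) ≤ P.eval (n : ℚ) := by
          filter_upwards [eventually_ge_atTop c, (tendsto_sub_atTop_nat c).eventually hPD, hP]
            with n hn h2 h3
          rw [eval_comp, eval_sub, eval_X, eval_C, ← Nat.cast_sub hn, ← h2, ← h3]
          exact ⟨Nat.cast_nonneg _, by exact_mod_cast le_trans (Nat.le_add_right _ _) (hc n hn)⟩
        exact natDegree_le_of_eventually_le (hev.mono fun _ h => h.1) (hev.mono fun _ h => h.2)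
      rwa [natDegree_comp, natDegree_X_sub_C, mul_one] at h1
    -- divide the domain by `x`
    let μ : (R ⧸ q) →ₗ[R] R ⧸ q := LinearMap.lsmul R (R ⧸ q) x
    have hμ : Function.Injective μ := by
      intro z w hzw
      have h2 : x • z = x • w := hzw
      rw [Algebra.smul_def, Algebra.smul_def] at h2
      have hne : algebraMap R (R ⧸ q) x ≠ 0 := fun h => hx2 (Ideal.Quotient.eq_zero_iff_mem.1 h)
      exact mul_left_cancel₀ hne h2
    let Q := (R ⧸ q) ⧸ LinearMap.range μ
    obtain ⟨PQ, hPQ⟩ := exists_isHSPoly_jacobson (R := R) Q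
    obtain ⟨d, hd⟩ := exists_chi_add_le (I := J) μ (LinearMap.range μ).mkQ hμ
      (Submodule.mkQ_surjective _) (LinearMap.exact_map_mkQ_range _) length_quotient_jacobson_ne_top
    have hmemQ : ∀ i : Fin (s + 1), p i.succ ∈ Module.support R Q := by
      intro i
      have hqi : q ≤ (p i.succ).asIdeal := hqp.trans (hp.monotone (Fin.zero_le _))
      have hxi : x ∈ (p i.succ).asIdeal := hp.monotone (Fin.succ_le_succ_iff.2 (Fin.zero_le i)) hx1
      let φ : Q →ₗ[R] R ⧸ (p i.succ).asIdeal :=
        (LinearMap.range μ).liftQ (Submodule.factor hqi)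
          (by
            rintro _ ⟨z, rfl⟩
            show Submodule.factor hqi (x • z) = 0
            obtain ⟨w, hw⟩ := Submodule.mkQ_surjective _ z
            rw [← hw, ← map_smul]
            exact (Submodule.Quotient.mk_eq_zero _).2 (Ideal.mul_mem_right _ _ hxi))
      have hφ : Function.Surjective φ := fun z => by
        obtain ⟨z, rfl⟩ := Submodule.mkQ_surjective _ z
        exact ⟨Submodule.Quotient.mk (Submodule.Quotient.mk z), rfl⟩
      refine Module.support_subset_of_surjective φ hφ ?_
      rw [Module.support_eq_zeroLocus, Ideal.annihilator_quotient, PrimeSpectrum.mem_zeroLocus]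
    set E := PD - PD.comp (X - C (d : ℚ))
    have hle : ∀ᶠ n : ℕ in atTop, PQ.eval (n : ℚ) ≤ E.eval (n : ℚ) := by
      filter_upwards [eventually_ge_atTop d, (tendsto_sub_atTop_nat d).eventually hPD, hPD, hPQ]
        with n hn h1 h2 h3
      rw [eval_sub, eval_comp, eval_sub, eval_X, eval_C, ← Nat.cast_sub hn, ← h1, ← h2, ← h3,
        le_sub_iff_add_le, add_comm]
      exact_mod_cast hd n hn
    rcases Nat.eq_zero_or_pos PD.natDegree with h0 | h0
    · -- then the quotient would vanish
      exfalso
      have hE : E = 0 := by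
        simp only [E]
        rw [eq_C_of_natDegree_eq_zero h0]
        simp
      rw [hE] at hle
      obtain ⟨N, hN1, hN2, hN3⟩ := ((eventually_ge_atTop 1).and (hle.and hPQ)).exists
      rw [eval_zero, ← hN3] at hN2
      have hzero : chi J Q N = 0 := by exact_mod_cast le_antisymm hN2 (Nat.cast_nonneg _)
      have htop : (⊤ : Submodule R Q) ≤ J • ⊤ := by
        have hl := coe_len (length_quotient_ne_top (I := J) (M := Q) length_quotient_jacobson_ne_top N)
        rw [show len R (Q ⧸ J ^ N • (⊤ : Submodule R Q)) = 0 from hzero, Nat.cast_zero, eq_comm,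
          Module.length_eq_zero_iff, Submodule.Quotient.subsingleton_iff] at hl
        intro z _
        have hz := pow_smul_top_antitone (M := Q) J hN1 (hl.ge (Submodule.mem_top (x := z)))
        rwa [pow_one] at hz
      have hbot := Submodule.eq_bot_of_le_smul_of_le_jacobson_bot J (⊤ : Submodule R Q) Module.Finite.fg_top htop
        (Ideal.jacobson_bot (R := R)).ge
      have : Subsingleton Q := (Submodule.subsingleton_iff R).1 (subsingleton_of_bot_eq_top hbot.symm)
      exact Set.notMem_empty _ (Module.support_eq_empty (R := R) (M := Q) ▸ hmemQ 0)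
    · have h1 := length_le_natDegree s Q (fun i => p i.succ) (hp.comp (Fin.strictMono_succ)) hmemQ PQ hPQ
      have h2 := natDegree_le_of_eventually_le hPQ.nonneg hle
      have h3 : E.natDegree < PD.natDegree := natDegree_sub_comp_lt h0 (d : ℚ)
      omega

/-- If chains in the support have length at most `D`, some `D` elements of the Jacobson radical cut
the support down to maximal ideals. -/
theorem exists_parameters : ∀ (D : ℕ) (M : Type u) [AddCommGroup M] [Module R M] [Module.Finite R M],
    (∀ s (p : Fin (s + 1) → PrimeSpectrum R), StrictMono p → (∀ i, p i ∈ Module.support R M) → s ≤ D) →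
    ∃ a : Fin D → R, (∀ i, a i ∈ Ring.jacobson R) ∧
      ∀ p ∈ Module.support R M, (∀ i, a i ∈ p.asIdeal) → p.asIdeal.IsMaximal
  | 0, M, _, _, _, hD => by
    refine ⟨Fin.elim0, fun i => i.elim0, fun p hp _ => ?_⟩
    by_contra hmax
    obtain ⟨m, hm, hpm⟩ := Ideal.exists_le_maximal _ p.2.ne_top
    have hlt : p < ⟨m, hm.isPrime⟩ := by
      rw [← PrimeSpectrum.asIdeal_lt_asIdeal]
      exact lt_of_le_of_ne hpm fun e => hmax (e ▸ hm)
    have := hD 1 ![p, ⟨m, hm.isPrime⟩] (Fin.strictMono_iff_lt_succ.2 fun i => by fin_cases i; exact hlt)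
      (fun i => by fin_cases i <;> [exact hp; exact Module.mem_support_mono hlt.le hp])
    omega
  | D + 1, M, _, _, _, hD => by
    classical
    have hfin := (Module.annihilator R M).finite_minimalPrimes_of_isNoetherianRing
    let S := hfin.toFinset.filter fun q => ¬ q.IsMaximal
    obtain ⟨x, hxJ, hxS⟩ : ∃ x ∈ Ring.jacobson R, ∀ q ∈ S, x ∉ q := by
      by_contra hcon
      push Not at hcon
      have hsub : (Ring.jacobson R : Set R) ⊆ ⋃ q ∈ (S : Set (Ideal R)), (q : Set R) := fun x hx => by
        obtain ⟨q, hq, hxq⟩ := hcon x hx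
        exact Set.mem_iUnion₂.2 ⟨q, hq, hxq⟩
      obtain ⟨q, hq, hle⟩ := (Ideal.subset_union_prime ⊤ ⊤ fun q hq _ _ =>
        (hfin.mem_toFinset.1 (Finset.mem_filter.1 hq).1).1.1).1 hsub
      obtain ⟨hq1, hq2⟩ := Finset.mem_filter.1 hq
      exact hq2 (isMaximal_of_jacobson_le (p := ⟨q, (hfin.mem_toFinset.1 hq1).1.1⟩) hle)
    obtain ⟨a, ha, ha'⟩ := exists_parameters D (QuotSMulTop x M) fun s p hp hmem => by
      have hmem' : ∀ i, p i ∈ Module.support R M ∧ x ∈ (p i).asIdeal := fun i => by
        have := hmem i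
        rw [Module.support_quotSMulTop, Set.mem_inter_iff, PrimeSpectrum.mem_zeroLocus,
          Set.singleton_subset_iff] at this
        exact this
      rcases Nat.eq_zero_or_pos s with rfl | hs
      · exact Nat.zero_le _
      obtain ⟨q, hq, hqp⟩ := Ideal.exists_minimalPrimes_le
        (Module.mem_support_iff_of_finite.1 (hmem' 0).1)
      have hlt : (⟨q, hq.1.1⟩ : PrimeSpectrum R) < p 0 := by
        rw [← PrimeSpectrum.asIdeal_lt_asIdeal]
        refine lt_of_le_of_ne hqp fun e => ?_
        change q = (p 0).asIdeal at e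
        refine hxS q (Finset.mem_filter.2 ⟨hfin.mem_toFinset.2 hq, fun hmax => ?_⟩) (e ▸ (hmem' 0).2)
        have hlt1 : (p 0).asIdeal < (p ⟨1, by omega⟩).asIdeal :=
          (PrimeSpectrum.asIdeal_lt_asIdeal _ _).2 (hp (by simp [Fin.lt_def]))
        exact hlt1.ne ((e ▸ hmax).eq_of_le (p ⟨1, by omega⟩).2.ne_top hlt1.le)
      have := hD (s + 1) (Fin.cons ⟨q, hq.1.1⟩ p)
        (Fin.strictMono_iff_lt_succ.2 fun i => by
          cases i using Fin.cases with
          | zero => simpa using hlt
          | succ j => simpa [← Fin.succ_castSucc] using hp (Fin.castSucc_lt_succ (i := j)))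
        (fun i => by
          cases i using Fin.cases with
          | zero => simpa using Module.mem_support_iff_of_finite.2 hq.1.2
          | succ j => simpa using (hmem' j).1)
      omega
    refine ⟨Fin.cons x a, fun i => ?_, fun p hp hpa => ha' p ?_ fun i => by simpa using hpa i.succ⟩
    · cases i using Fin.cases with
      | zero => simpa using hxJ
      | succ j => simpa using ha j
    · rw [Module.support_quotSMulTop, Set.mem_inter_iff, PrimeSpectrum.mem_zeroLocus, Set.singleton_subset_iff]
      exact ⟨hp, by simpa using hpa 0⟩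

/-- The degree of the Hilbert–Samuel polynomial is the dimension of the support. -/
theorem natDegree_eq_supportDim {M : Type u} [AddCommGroup M] [Module R M] [Module.Finite R M] [Nontrivial M] {P : ℚ[X]} (hP : IsHSPoly (Ring.jacobson R) M P) :
    (P.natDegree : WithBot ℕ∞) = Module.supportDim R M := by
  have hle : ∀ l : LTSeries (Module.support R M), l.length ≤ P.natDegree := fun l =>
    length_le_natDegree l.length M (fun i => (l i).1) (fun i j h => l.strictMono h) (fun i => (l i).2) P hP
  refine le_antisymm ?_ ?_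
  · obtain ⟨l, hl⟩ : ∃ l : LTSeries (Module.support R M), P.natDegree ≤ l.length := by
      by_contra hcon
      push Not at hcon
      obtain ⟨p, hp⟩ := Module.nonempty_support_of_nontrivial (R := R) (M := M)
      have h0 := hcon (RelSeries.singleton _ ⟨p, hp⟩)
      obtain ⟨D, hD⟩ := Nat.exists_eq_add_one.2 (Nat.pos_of_ne_zero (by omega) : 0 < P.natDegree)
      obtain ⟨a, haJ, ha⟩ := exists_parameters D M fun s q hq hmem => by
        have := hcon ⟨s, fun i => ⟨q i, hmem i⟩, fun i => hq (Fin.castSucc_lt_succ (i := i))⟩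
        simp only at this
        omega
      have h1 : Module.length R (M ⧸ Ideal.span (Set.range a) • (⊤ : Submodule R M)) ≠ ⊤ :=
        length_quotient_smul_ne_top fun p hp hpa => ha p hp fun i => hpa (Ideal.subset_span ⟨i, rfl⟩)
      obtain ⟨P', hP', hdeg⟩ := exists_isHSPoly (M := M) h1 a rfl
      have := natDegree_le_of_eventually_le hP.nonneg (g := P') (by
        filter_upwards [hP, hP'] with n h2 h3
        rw [← h2, ← h3]
        exact_mod_cast chi_le_of_le (Ideal.span_le.2 (Set.range_subset_iff.2 haJ)) h1 n)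
      omega
    exact le_trans (by exact_mod_cast hl) (Order.LTSeries.length_le_krullDim l)
  · exact iSup_le fun l => by exact_mod_cast hle l

end Jacobson

end CommAlgDim
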