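import Groth.Agent.PerfectFieldLib.FormallySmooth
import Mathlib.FieldTheory.Perfect
import Mathlib.FieldTheory.IntermediateField.Adjoin.Basic
import Mathlib.FieldTheory.KummerPolynomial
import Mathlib.Algebra.DualNumber
import Mathlib.Algebra.CharP.Algebra
import Mathlib.RingTheory.AdjoinRoot
import Mathlib.RingTheory.LocalRing.ResidueField.Basic
import Mathlib.Algebra.Algebra.ZMod
import Mathlib.Algebra.Field.ZMod

/-! Derivations and coefficient fields in characteristic `p`. -/

set_option autoImplicit false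
set_option maxHeartbeats 400000
set_option linter.style.haveILetI false
universe u

open Polynomial TrivSqZeroExt

namespace CommAlgDim

theorem dualNumber_pow_char {L : Type u} [CommRing L] (p : ℕ) [Fact p.Prime] [CharP L p]
    (z : DualNumber L) : z ^ p = inl (fst z ^ p) :=
  TrivSqZeroExt.ext (by rw [fst_pow, fst_inl]) (by
    rw [snd_pow, snd_inl, nsmul_eq_mul, CharP.cast_eq_zero, zero_mul])

/-- An element which is not a `p`-th power has nonzero differential. -/
theorem exists_derivation_one (K : Type u) [Field K] (p : ℕ) [hp : Fact p.Prime] [CharP K p] (a : K)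
    (ha : ∀ b : K, b ^ p ≠ a) :
    ∃ χ : K →+* DualNumber K, (∀ x, fst (χ x) = x) ∧ snd (χ a) = 1 := by
  let S : Set (Subfield K) := {L | (∀ x : K, x ^ p ∈ L) ∧ a ∉ L}
  have h0 : (frobenius K p).fieldRange ∈ S :=
    ⟨fun x => ⟨x, frobenius_def p x⟩, fun ⟨b, hb⟩ => ha b ((frobenius_def p b).symm.trans hb)⟩
  obtain ⟨L, -, ⟨⟨hLp, haL⟩, hmax⟩⟩ := zorn_le_nonempty₀ S (fun c hcS hchain y hy => ⟨sSup c,
    ⟨fun x => (le_sSup hy : y ≤ sSup c) ((hcS hy).1 x), by
      rw [← SetLike.mem_coe, Subfield.coe_sSup_of_directedOn ⟨y, hy⟩ hchain.directedOn, Set.mem_iUnion₂]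
      rintro ⟨L, hL, haL⟩
      exact (hcS hL).2 haL⟩, fun z hz => le_sSup hz⟩) _ h0
  haveI : CharP L p := (L.subtype.charP_iff L.subtype.injective p).2 inferInstance
  let c : L := ⟨a ^ p, hLp a⟩
  have hirr : ∀ b : K, b ∉ L → Irreducible (X ^ p - C (⟨b ^ p, hLp b⟩ : L)) := fun b hb =>
    X_pow_sub_C_irreducible_of_prime hp.out fun d hd => hb (by
      have : (d : K) ^ p = b ^ p := congrArg Subtype.val hd
      rw [← frobenius_inj K p this]; exact d.2)
  haveI : Fact (Irreducible (X ^ p - C c)) := ⟨hirr a haL⟩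
  have hev : (X ^ p - C c).eval₂ L.subtype a = 0 := by simp [c]
  let φ : AdjoinRoot (X ^ p - C c) →+* K := AdjoinRoot.lift L.subtype a hev
  have hfin : ∀ b : K, b ∉ L → Module.finrank L (IntermediateField.adjoin L {b}) = p := fun b hb => by
    have hb0 : Polynomial.aeval b (X ^ p - C (⟨b ^ p, hLp b⟩ : L)) = 0 := by
      simp [show algebraMap L K ⟨b ^ p, hLp b⟩ = b ^ p from rfl]
    have hint : IsIntegral L b :=
      ⟨X ^ p - C (⟨b ^ p, hLp b⟩ : L), monic_X_pow_sub_C _ hp.out.ne_zero, hb0⟩
    rw [IntermediateField.adjoin.finrank hint,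
      ← minpoly.eq_of_irreducible_of_monic (hirr b hb) hb0 (monic_X_pow_sub_C _ hp.out.ne_zero),
      natDegree_X_pow_sub_C]
  have hsurj : Function.Surjective φ := by
    intro b
    by_cases hb : b ∈ L
    · exact ⟨AdjoinRoot.of _ ⟨b, hb⟩, AdjoinRoot.lift_of _⟩
    let E := IntermediateField.adjoin L {b}
    have haE : a ∈ E := by
      by_contra haE
      have hle : L ≤ E.toSubfield := fun x hx => E.algebraMap_mem ⟨x, hx⟩
      exact hb (hmax ⟨fun x => hle (hLp x), haE⟩ hle (IntermediateField.mem_adjoin_simple_self L b))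
    haveI : FiniteDimensional L E := FiniteDimensional.of_finrank_pos (by rw [hfin b hb]; exact hp.out.pos)
    have heq : IntermediateField.adjoin L {a} = E :=
      IntermediateField.eq_of_le_of_finrank_eq (IntermediateField.adjoin_simple_le_iff.2 haE)
        (by rw [hfin a haL, hfin b hb])
    have hbE : b ∈ IntermediateField.adjoin L {a} := heq ▸ IntermediateField.mem_adjoin_simple_self L b
    have hle : IntermediateField.adjoin L {a} ≤ (AdjoinRoot.liftAlgHom (X ^ p - C c) (Algebra.ofId L K) a
        (by simp [c, show algebraMap L K ⟨a ^ p, hLp a⟩ = a ^ p from rfl])).fieldRange :=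
      IntermediateField.adjoin_simple_le_iff.2 ⟨AdjoinRoot.root _, AdjoinRoot.lift_root hev⟩
    obtain ⟨z, hz⟩ := hle hbE
    exact ⟨z, hz⟩
  let e := RingEquiv.ofBijective φ ⟨φ.injective, hsurj⟩
  let ψ : AdjoinRoot (X ^ p - C c) →+* DualNumber K :=
    AdjoinRoot.lift ((inlHom K K).comp L.subtype) (inl a + inr 1) (by
      rw [eval₂_sub, eval₂_X_pow, eval₂_C, dualNumber_pow_char p, RingHom.comp_apply, sub_eq_zero]
      simp [c, inlHom])
  have hψ : ∀ z, fst (ψ z) = φ z := by
    have : (fstHom K K K).toRingHom.comp ψ = φ := by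
      refine Ideal.Quotient.ringHom_ext (Polynomial.ringHom_ext (fun x => ?_) ?_)
      · show fst (ψ (AdjoinRoot.of _ x)) = φ (AdjoinRoot.of _ x)
        rw [AdjoinRoot.lift_of, AdjoinRoot.lift_of]; simp [inlHom]
      · show fst (ψ (AdjoinRoot.root _)) = φ (AdjoinRoot.root _)
        rw [AdjoinRoot.lift_root, AdjoinRoot.lift_root]; simp
    exact fun z => congrArg (fun g : _ →+* K => g z) this
  refine ⟨ψ.comp e.symm.toRingHom, fun x => ?_, ?_⟩
  · show fst (ψ (e.symm x)) = x
    rw [hψ]; exact e.apply_symm_apply x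
  · show snd (ψ (e.symm a)) = 1
    rw [show e.symm a = AdjoinRoot.root _ from e.symm_apply_eq.2 (AdjoinRoot.lift_root hev).symm,
      AdjoinRoot.lift_root]
    simp

open IsLocalRing in
/-- Coefficient fields of rings whose maximal ideal is nilpotent, in characteristic `p`. -/
theorem exists_coefficientField {A : Type u} [CommRing A] [IsLocalRing A] (p : ℕ) [Fact p.Prime]
    [CharP A p] (hnil : IsNilpotent (maximalIdeal A)) :
    ∃ σ : ResidueField A →+* A, ∀ x, residue A (σ x) = x := by
  haveI : CharP (ResidueField A) p := (CharP.charP_iff_prime_eq_zero (Fact.out)).2 (by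
    rw [← map_natCast (residue A), CharP.cast_eq_zero, map_zero])
  letI := ZMod.algebra A p
  letI := ZMod.algebra (ResidueField A) p
  let g : A →ₐ[ZMod p] ResidueField A :=
    { residue A with
      commutes' := fun r =>
        RingHom.congr_fun (RingHom.ext_zmod ((residue A).comp (algebraMap (ZMod p) A))
          (algebraMap (ZMod p) (ResidueField A))) r }
  haveI := Groth.Agent.PerfectFieldLib.formallySmooth_of_perfectField (ZMod p) (ResidueField A)
  have hker : IsNilpotent (RingHom.ker (g : A →+* ResidueField A)) := by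
    rw [show RingHom.ker (g : A →+* ResidueField A) = maximalIdeal A from ker_residue]
    exact hnil
  exact ⟨(Algebra.FormallySmooth.liftOfSurjective (AlgHom.id (ZMod p) _) g residue_surjective hker).toRingHom,
    fun x => Algebra.FormallySmooth.liftOfSurjective_apply (AlgHom.id (ZMod p) _) g residue_surjective hker x⟩

end CommAlgDim
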