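import Groth.Agent.CommAlgDim.Poly
import Mathlib.RingTheory.Length
import Mathlib.RingTheory.Noetherian.Basic

/-!
Hilbert functions: a family of finite length modules with commuting degree one operators and
the ascending chain condition on stable families has eventually polynomial length.
-/

set_option autoImplicit false
universe u v

open Filter Polynomial

namespace CommAlgDim

variable (R : Type u) [CommRing R]

/-- The length of a module as a natural number. -/
noncomputable def len (M : Type v) [AddCommGroup M] [Module R M] : ℕ := (Module.length R M).toNat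

variable {R}
variable {M N P : Type v} [AddCommGroup M] [Module R M] [AddCommGroup N] [Module R N]
  [AddCommGroup P] [Module R P]

theorem coe_len (h : Module.length R M ≠ ⊤) : (len R M : ℕ∞) = Module.length R M :=
  ENat.coe_toNat h

theorem len_congr (e : M ≃ₗ[R] N) : len R M = len R N := by rw [len, len, e.length_eq]

theorem len_eq_zero [Subsingleton M] : len R M = 0 := by rw [len, Module.length_eq_zero]; rfl

theorem len_le_of_surjective (h : Module.length R M ≠ ⊤) (f : M →ₗ[R] N) (hf : Function.Surjective f) :
    len R N ≤ len R M :=
  ENat.toNat_le_toNat (Module.length_le_of_surjective f hf) h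

theorem len_le_of_injective (h : Module.length R N ≠ ⊤) (f : M →ₗ[R] N) (hf : Function.Injective f) :
    len R M ≤ len R N :=
  ENat.toNat_le_toNat (Module.length_le_of_injective f hf) h

theorem len_add (h : Module.length R M ≠ ⊤) (f : N →ₗ[R] M) (g : M →ₗ[R] P) (hf : Function.Injective f)
    (hg : Function.Surjective g) (H : Function.Exact f g) : len R M = len R N + len R P := by
  have e := Module.length_eq_add_of_exact f g hf hg H
  have hN : Module.length R N ≠ ⊤ := ne_top_of_le_ne_top h (Module.length_le_of_injective f hf)
  have hP : Module.length R P ≠ ⊤ := ne_top_of_le_ne_top h (Module.length_le_of_surjective g hg)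
  rw [len, e, ENat.toNat_add hN hP]
  rfl

theorem len_ker_add (h : Module.length R M ≠ ⊤) (h' : Module.length R N ≠ ⊤) (f : M →ₗ[R] N) :
    len R N + len R (LinearMap.ker f) = len R M + len R (N ⧸ LinearMap.range f) := by
  rw [len_add h (LinearMap.ker f).subtype f.rangeRestrict (Submodule.subtype_injective _)
      (LinearMap.surjective_rangeRestrict f)
      (LinearMap.exact_iff.2 (by rw [LinearMap.ker_rangeRestrict, Submodule.range_subtype])),
    len_add h' (LinearMap.range f).subtype (LinearMap.range f).mkQ (Submodule.subtype_injective _)
      (Submodule.mkQ_surjective _) (LinearMap.exact_subtype_mkQ _)]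
  ring

/-- Families of submodules stable under the operators. -/
abbrev StableFam {r : ℕ} (G : ℕ → Type v) [∀ n, AddCommGroup (G n)] [∀ n, Module R (G n)]
    (x : Fin r → ∀ n, G n →ₗ[R] G (n + 1)) : Type v :=
  {U : ∀ n, Submodule R (G n) // ∀ i n, U n ≤ (U (n + 1)).comap (x i n)}

theorem exists_hilbertPoly : ∀ (r : ℕ) (G : ℕ → Type v) [∀ n, AddCommGroup (G n)]
    [∀ n, Module R (G n)] (x : Fin r → ∀ n, G n →ₗ[R] G (n + 1)),
    (∀ i j n g, x i (n + 1) (x j n g) = x j (n + 1) (x i n g)) →
    (∀ n, Module.length R (G n) ≠ ⊤) → WellFoundedGT (StableFam G x) →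
    ∃ P : ℚ[X], P.natDegree ≤ r - 1 ∧ (r = 0 → P = 0) ∧
      ∀ᶠ n in atTop, (len R (G n) : ℚ) = P.eval (n : ℚ)
  | 0, G, _, _, x, _, _, hacc => by
    classical
    refine ⟨0, by simp, fun _ => rfl, ?_⟩
    let U : ℕ →o StableFam G x :=
      ⟨fun k => ⟨fun n => if n < k then ⊤ else ⊥, fun i => i.elim0⟩, fun a b hab n => by
        dsimp only
        split_ifs with h1 h2 <;> first | exact le_rfl | exact bot_le | omega⟩
    obtain ⟨k, hk⟩ := hacc.monotone_chain_condition U
    filter_upwards [eventually_ge_atTop k] with n hn
    have h1 : (⊥ : Submodule R (G n)) = ⊤ := by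
      have := congrFun (congrArg Subtype.val (hk (n + 1) (by omega))) n
      simpa [U, not_lt.2 hn] using this
    have hsub : Subsingleton (G n) :=
      (Submodule.subsingleton_iff R).1 (subsingleton_of_bot_eq_top h1)
    simp [len_eq_zero]
  | r + 1, G, _, _, x, hcomm, hfin, hacc => by
    classical
    let l := Fin.last r
    -- kernel family
    let K : ℕ → Type v := fun n => LinearMap.ker (x l n)
    let xK : Fin r → ∀ n, K n →ₗ[R] K (n + 1) := fun i n =>
      (x i.castSucc n).restrict fun g hg => by
        rw [LinearMap.mem_ker] at hg ⊢
        rw [hcomm, hg, map_zero]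
    have hK : WellFoundedGT (StableFam K xK) := by
      let f : StableFam K xK → StableFam G x := fun U =>
        ⟨fun n => (U.1 n).map (LinearMap.ker (x l n)).subtype, fun i n => by
          rintro _ ⟨g, hg, rfl⟩
          refine Fin.lastCases ?_ (fun j => ?_) i
          · simp only [Submodule.mem_comap, Submodule.coe_subtype]
            rw [show x (Fin.last r) n g.1 = 0 from g.2]
            exact zero_mem _
          · exact ⟨xK j n g, U.2 j n hg, rfl⟩⟩
      have hf : StrictMono f := Monotone.strictMono_of_injective
        (fun U V h n => Submodule.map_mono (h n)) fun U V h => Subtype.ext (funext fun n =>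
          Submodule.map_injective_of_injective (Submodule.subtype_injective _)
            (congrFun (congrArg Subtype.val h) n))
      exact hf.wellFoundedGT
    -- shifted cokernel family
    let C : ℕ → Type v := fun n => G (n + 1) ⧸ LinearMap.range (x l n)
    let xC : Fin r → ∀ n, C n →ₗ[R] C (n + 1) := fun i n =>
      Submodule.mapQ _ _ (x i.castSucc (n + 1)) (by
        rintro _ ⟨g, rfl⟩
        exact ⟨x i.castSucc n g, hcomm _ _ _ _⟩)
    have hC : WellFoundedGT (StableFam C xC) := by
      let f : StableFam C xC → StableFam G x := fun U =>
        ⟨fun n => match n with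
          | 0 => ⊥
          | n + 1 => (U.1 n).comap (LinearMap.range (x l n)).mkQ, fun i n => by
          cases n with
          | zero => exact bot_le
          | succ n =>
            intro g hg
            refine Fin.lastCases ?_ (fun j => ?_) i
            · show (LinearMap.range (x l (n + 1))).mkQ (x (Fin.last r) (n + 1) g) ∈ U.1 (n + 1)
              rw [show (LinearMap.range (x l (n + 1))).mkQ (x (Fin.last r) (n + 1) g) = 0 from
                (Submodule.Quotient.mk_eq_zero _).2 ⟨g, rfl⟩]
              exact zero_mem _
            · exact U.2 j n hg⟩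
      have hf : StrictMono f := Monotone.strictMono_of_injective
        (fun U V h n => by cases n with | zero => exact le_rfl | succ n => exact Submodule.comap_mono (h n))
        fun U V h => Subtype.ext (funext fun n =>
          Submodule.comap_injective_of_surjective (Submodule.mkQ_surjective _)
            (congrFun (congrArg Subtype.val h) (n + 1)))
      exact hf.wellFoundedGT
    obtain ⟨PK, hPK, hPK0, hKe⟩ := exists_hilbertPoly r K xK
      (fun i j n g => Subtype.ext (hcomm _ _ _ _))
      (fun n => ne_top_of_le_ne_top (hfin n)
        (Module.length_le_of_injective _ (Submodule.subtype_injective _))) hK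
    obtain ⟨PC, hPC, hPC0, hCe⟩ := exists_hilbertPoly r C xC
      (fun i j n g => by
        obtain ⟨g, rfl⟩ := Submodule.mkQ_surjective _ g
        exact congrArg (LinearMap.range (x l (n + 1 + 1))).mkQ (hcomm _ _ _ _))
      (fun n => ne_top_of_le_ne_top (hfin (n + 1))
        (Module.length_le_of_surjective _ (Submodule.mkQ_surjective _))) hC
    obtain ⟨Q, hQ, hQ0, hQe⟩ := eventually_of_diff (h := fun n => (len R (G n) : ℚ)) (D := PC - PK)
      (k := r - 1) ((natDegree_sub_le _ _).trans (max_le hPC hPK)) (by
        filter_upwards [hKe, hCe] with n h1 h2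
        rw [eval_sub, ← h1, ← h2]
        have := len_ker_add (hfin n) (hfin (n + 1)) (x l n)
        have : (len R (G (n + 1)) : ℚ) + len R (K n) = len R (G n) + len R (C n) := by exact_mod_cast this
        linarith)
    refine ⟨Q, ?_, by omega, hQe⟩
    rcases Nat.eq_zero_or_pos r with rfl | hr
    · rw [hQ0 (by rw [hPC0 rfl, hPK0 rfl, sub_zero])]
    · omega

end CommAlgDim
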