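import Mathlib.Algebra.Module.SpanRankOperations
import Mathlib.RingTheory.Ideal.Quotient.Operations
import Mathlib.RingTheory.Ideal.Quotient.Noetherian
import Mathlib.RingTheory.Ideal.KrullsHeightTheorem
import Mathlib.RingTheory.Nakayama

/-! Minimal numbers of generators of ideals in local rings. -/

set_option autoImplicit false
universe u

open IsLocalRing

namespace CommAlgDim

variable {R : Type u} [CommRing R]

instance isLocalRing_quotient_nontrivial (I : Ideal R) [IsLocalRing R] [Nontrivial (R ⧸ I)] :
    IsLocalRing (R ⧸ I) :=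
  IsLocalRing.of_surjective' (Ideal.Quotient.mk I) Ideal.Quotient.mk_surjective

theorem nontrivial_quotient {I : Ideal R} (h : I ≠ ⊤) : Nontrivial (R ⧸ I) :=
  Ideal.Quotient.nontrivial_iff.2 h

theorem spanFinrank_map_le {S : Type u} [CommRing S] (f : R →+* S) {K : Ideal R} (hK : K.FG) :
    (K.map f).spanFinrank ≤ K.spanFinrank := by
  classical
  obtain ⟨s, hs, hsK⟩ := Submodule.FG.exists_span_finset_card_eq_spanFinrank hK
  rw [← hs, ← hsK, Ideal.submodule_span_eq, Ideal.map_span, ← Finset.coe_image]
  refine (Submodule.spanFinrank_span_le_ncard_of_finite (Finset.finite_toSet _)).trans ?_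
  rw [Set.ncard_coe_finset]
  exact Finset.card_image_le

variable [IsLocalRing R]

theorem singleton_ne_top {x : R} (hx : x ∈ maximalIdeal R) : Ideal.span {x} ≠ ⊤ := fun h =>
  (maximalIdeal.isMaximal R).ne_top (top_le_iff.1 (h.ge.trans ((Ideal.span_singleton_le_iff_mem _).2 hx)))

/-- An element of `K` outside `mK` is part of a minimal generating set. -/
theorem exists_span_insert {K : Ideal R} (hK : K.FG) {x : R} (hx : x ∈ K)
    (hx2 : x ∉ maximalIdeal R * K) :
    ∃ s : Finset R, s.card + 1 ≤ K.spanFinrank ∧ K = Ideal.span (insert x (s : Set R)) := by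
  classical
  obtain ⟨t, ht, htK⟩ := Submodule.FG.exists_span_finset_card_eq_spanFinrank hK
  rw [Ideal.submodule_span_eq] at htK
  obtain ⟨c, -, hc⟩ := Submodule.mem_span_finset.1 (show x ∈ Submodule.span R (t : Set R) by
    rw [Ideal.submodule_span_eq, htK]; exact hx)
  obtain ⟨g, hg, hcg⟩ : ∃ g ∈ t, IsUnit (c g) := by
    by_contra h
    push Not at h
    apply hx2
    rw [← hc]
    exact sum_mem fun i hi => Ideal.mul_mem_mul (h i hi) (htK ▸ Ideal.subset_span hi)
  refine ⟨t.erase g, by rw [Finset.card_erase_add_one hg, ht], le_antisymm ?_ ?_⟩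
  · conv_lhs => rw [← htK]
    refine Ideal.span_le.2 fun i hi => ?_
    rcases eq_or_ne i g with rfl | hne
    · have he : c i * i = x - ∑ j ∈ t.erase i, c j * j := by
        rw [← hc, ← Finset.add_sum_erase _ _ hg]; simp
      have hmem : c i * i ∈ Ideal.span (insert x ((t.erase i : Finset R) : Set R)) := by
        rw [he]
        exact sub_mem (Ideal.subset_span (Set.mem_insert _ _)) (sum_mem fun j hj =>
          Ideal.mul_mem_left _ _ (Ideal.subset_span (Set.mem_insert_of_mem _ hj)))
      exact (Ideal.unit_mul_mem_iff_mem _ hcg).1 hmem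
    · exact Ideal.subset_span (Set.mem_insert_of_mem _ (Finset.mem_coe.2 (Finset.mem_erase.2 ⟨hne, hi⟩)))
  · exact Ideal.span_le.2 (Set.insert_subset hx fun i hi =>
      htK ▸ Ideal.subset_span (Finset.mem_of_mem_erase hi))

theorem spanFinrank_quotient_singleton_add_one {K : Ideal R} (hK : K.FG) {x : R} (hx : x ∈ K)
    (hx2 : x ∉ maximalIdeal R * K) :
    (K.map (Ideal.Quotient.mk (Ideal.span {x}))).spanFinrank + 1 = K.spanFinrank := by
  classical
  set π := Ideal.Quotient.mk (Ideal.span {x})
  refine le_antisymm ?_ ?_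
  · obtain ⟨s, hs, hsK⟩ := exists_span_insert hK hx hx2
    refine le_trans (Nat.add_le_add_right ?_ 1) hs
    have : K.map π = Ideal.span ((s.image π : Finset _) : Set (R ⧸ Ideal.span {x})) := by
      rw [hsK, Ideal.map_span, Set.image_insert_eq, Ideal.span_insert, Finset.coe_image,
        show π x = 0 from Ideal.Quotient.eq_zero_iff_mem.2 (Ideal.mem_span_singleton_self x)]
      simp
    rw [this]
    refine (Submodule.spanFinrank_span_le_ncard_of_finite (Finset.finite_toSet _)).trans ?_
    rw [Set.ncard_coe_finset]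
    exact Finset.card_image_le
  · obtain ⟨t, ht, htK⟩ := Submodule.FG.exists_span_finset_card_eq_spanFinrank (Ideal.FG.map hK π)
    rw [Ideal.submodule_span_eq] at htK
    have hl : ∀ y ∈ t, ∃ z ∈ K, π z = y := fun y hy =>
      (Ideal.mem_map_iff_of_surjective π Ideal.Quotient.mk_surjective).1 (htK ▸ Ideal.subset_span hy)
    choose l hlK hl using hl
    let u : Finset R := insert x (t.attach.image fun y => l y.1 y.2)
    have hu : K = Ideal.span (u : Set R) := by
      refine le_antisymm (fun z hz => ?_) (Ideal.span_le.2 ?_)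
      · have h1 : π z ∈ (Ideal.span (u : Set R)).map π := by
          have hz' := Ideal.mem_map_of_mem π hz
          rw [← htK] at hz'
          refine Ideal.span_le.2 (fun y hy => ?_) hz'
          rw [← hl y hy]
          exact Ideal.mem_map_of_mem π (Ideal.subset_span (Finset.mem_coe.2 (Finset.mem_insert_of_mem
            (Finset.mem_image.2 ⟨⟨y, hy⟩, Finset.mem_attach _ _, rfl⟩))))
        obtain ⟨w, hw, hwz⟩ := (Ideal.mem_map_iff_of_surjective π Ideal.Quotient.mk_surjective).1 h1
        have h2 : z - w ∈ Ideal.span {x} := Ideal.Quotient.eq.1 hwz.symm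
        have h3 : Ideal.span {x} ≤ Ideal.span (u : Set R) := (Ideal.span_singleton_le_iff_mem _).2
          (Ideal.subset_span (Finset.mem_coe.2 (Finset.mem_insert_self _ _)))
        simpa using add_mem (h3 h2) hw
      · intro z hz
        rcases Finset.mem_insert.1 hz with rfl | hz
        · exact hx
        · obtain ⟨y, -, rfl⟩ := Finset.mem_image.1 hz
          exact hlK _ _
    conv_lhs => rw [hu]
    refine (Submodule.spanFinrank_span_le_ncard_of_finite (Finset.finite_toSet _)).trans ?_
    rw [Set.ncard_coe_finset]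
    refine (Finset.card_insert_le _ _).trans (Nat.add_le_add_right ?_ 1)
    exact Finset.card_image_le.trans (by rw [Finset.card_attach, ht])

end CommAlgDim
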