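import Groth.Agent.CommAlgDim.DerivField
import Groth.Agent.CommAlgDim.MinGen
import Mathlib.RingTheory.Kaehler.Basic
import Mathlib.RingTheory.Artinian.Module
import Mathlib.RingTheory.Ideal.Cotangent
import Mathlib.RingTheory.TensorProduct.Basic
import Mathlib.LinearAlgebra.Dimension.Constructions
import Mathlib.RingTheory.Polynomial.Quotient
import Mathlib.LinearAlgebra.Dimension.OrzechProperty
import Mathlib.LinearAlgebra.Dimension.FreeAndStrongRankCondition

/-! Adjoining `p`-th roots to Artinian local rings with square-zero maximal ideal. -/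

set_option autoImplicit false
set_option maxHeartbeats 400000
set_option linter.style.haveILetI false
universe u

open IsLocalRing TrivSqZeroExt TensorProduct

namespace CommAlgDim

section Der
variable {A : Type u} [CommRing A] {L : Type u} [CommRing L]

/-- `d` is a derivation with respect to `ε`. -/
structure IsDer (ε : A →+* L) (d : A → L) : Prop where
  map_add : ∀ x y, d (x + y) = d x + d y
  map_mul : ∀ x y, d (x * y) = ε x * d y + ε y * d x

namespace IsDer
variable {ε : A →+* L} {d d' : A → L}

theorem map_zero (h : IsDer ε d) : d 0 = 0 := by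
  have := h.map_add 0 0; rwa [add_zero, left_eq_add] at this

theorem map_one (h : IsDer ε d) : d 1 = 0 := by
  have := h.map_mul 1 1; rwa [mul_one, _root_.map_one, one_mul, left_eq_add] at this

theorem map_sum (h : IsDer ε d) {ι : Type*} (s : Finset ι) (g : ι → A) :
    d (∑ i ∈ s, g i) = ∑ i ∈ s, d (g i) :=
  _root_.map_sum (AddMonoidHom.mk' d h.map_add) g s

theorem map_sub (h : IsDer ε d) (x y : A) : d (x - y) = d x - d y :=
  _root_.map_sub (AddMonoidHom.mk' d h.map_add) x y

/-- The ring map into dual numbers attached to a derivation. -/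
noncomputable def hom (h : IsDer ε d) : A →+* DualNumber L where
  toFun x := inl (ε x) + inr (d x)
  map_one' := by rw [h.map_one, _root_.map_one, inr_zero, add_zero, inl_one]
  map_zero' := by rw [h.map_zero, _root_.map_zero, inr_zero, inl_zero, add_zero]
  map_add' x y := by rw [h.map_add, _root_.map_add, inl_add, inr_add]; abel
  map_mul' x y := TrivSqZeroExt.ext (by simp) (by
    simp [h.map_mul]; ring)

theorem fst_hom (h : IsDer ε d) (x : A) : fst (h.hom x) = ε x := by simp [hom]

theorem snd_hom (h : IsDer ε d) (x : A) : snd (h.hom x) = d x := by simp [hom]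

theorem of_hom (χ : A →+* DualNumber L) (h : ∀ x, fst (χ x) = ε x) : IsDer ε fun x => snd (χ x) where
  map_add x y := by simp
  map_mul x y := by simp [h]; ring

theorem map_pow_char (h : IsDer ε d) (p : ℕ) [Fact p.Prime] [CharP L p] (x : A) : d (x ^ p) = 0 := by
  rw [← h.snd_hom, _root_.map_pow, dualNumber_pow_char p, snd_inl]

theorem add (h : IsDer ε d) (h' : IsDer ε d') : IsDer ε fun x => d x + d' x where
  map_add x y := by rw [h.map_add, h'.map_add]; abel
  map_mul x y := by rw [h.map_mul, h'.map_mul]; ring

theorem const_mul (h : IsDer ε d) (c : L) : IsDer ε fun x => c * d x where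
  map_add x y := by rw [h.map_add, mul_add]
  map_mul x y := by rw [h.map_mul]; ring

theorem sum {ι : Type*} (s : Finset ι) (D : ι → A → L) (h : ∀ i, IsDer ε (D i)) :
    IsDer ε fun x => ∑ i ∈ s, D i x where
  map_add x y := by simp only [(h _).map_add, Finset.sum_add_distrib]
  map_mul x y := by simp only [(h _).map_mul, Finset.sum_add_distrib, Finset.mul_sum]

theorem comp {A' : Type u} [CommRing A'] (h : IsDer ε d) (g : A' →+* A) :
    IsDer (ε.comp g) fun x => d (g x) where
  map_add x y := by rw [_root_.map_add, h.map_add]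
  map_mul x y := by rw [_root_.map_mul, h.map_mul]; rfl

theorem map_ringHom {L' : Type u} [CommRing L'] (h : IsDer ε d) (ι : L →+* L') :
    IsDer (ι.comp ε) fun x => ι (d x) where
  map_add x y := by rw [h.map_add, _root_.map_add]
  map_mul x y := by rw [h.map_mul, _root_.map_add, _root_.map_mul, _root_.map_mul]; rfl

end IsDer

/-- The derivations into `L` separate the family `f` (take all families of values on it). -/
def DerSurj (ε : A →+* L) {r : ℕ} (f : Fin r → A) : Prop :=
  ∀ v : Fin r → L, ∃ d : A → L, IsDer ε d ∧ ∀ j, d (f j) = v j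

theorem card_le_spanFinrank {B : Type u} [CommRing B] [IsLocalRing B] [IsNoetherianRing B]
    {F : Type u} [Field F] (ε : B →+* F) (hε : ∀ x ∈ maximalIdeal B, ε x = 0) {ι : Type*} [Fintype ι]
    [DecidableEq ι] (D : ι → B → F) (hD : ∀ l, IsDer ε (D l)) (x : ι → B)
    (hx : ∀ l, x l ∈ maximalIdeal B) (hDx : ∀ l k, D l (x k) = if l = k then 1 else 0) :
    Fintype.card ι ≤ (maximalIdeal B).spanFinrank := by
  classical
  obtain ⟨t, ht, htm⟩ := Submodule.FG.exists_span_finset_card_eq_spanFinrank
    (IsNoetherian.noetherian (maximalIdeal B))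
  let v : B → (ι → F) := fun y l => D l y
  have hle : (⊤ : Submodule F (ι → F)) ≤ Submodule.span F ((t.image v : Finset (ι → F)) : Set (ι → F)) := by
    rw [← (Pi.basisFun F ι).span_eq, Submodule.span_le]
    rintro _ ⟨k, rfl⟩
    obtain ⟨c, -, hc⟩ := Submodule.mem_span_finset.1 (htm.symm ▸ hx k : x k ∈ Submodule.span B (t : Set B))
    have : (Pi.basisFun F ι) k = ∑ g ∈ t, ε (c g) • v g := by
      funext l
      rw [Pi.basisFun_apply, Finset.sum_apply, Pi.single_apply, ← hDx l k, ← hc, (hD l).map_sum]
      refine Finset.sum_congr rfl fun g hg => ?_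
      rw [smul_eq_mul, (hD l).map_mul, hε g (htm ▸ Submodule.subset_span hg), zero_mul, add_zero]
      rfl
    rw [this]
    exact Submodule.sum_mem _ fun g hg => Submodule.smul_mem _ _
      (Submodule.subset_span (Finset.mem_coe.2 (Finset.mem_image_of_mem v hg)))
  have h1 := finrank_span_finset_le_card (R := F) (t.image v)
  rw [Set.finrank, top_le_iff.1 hle, finrank_top, Module.finrank_fintype_fun_eq_card] at h1
  exact h1.trans (Finset.card_image_le.trans ht.le)

theorem linearIndependent_iff_derSurj [IsLocalRing A] {r : ℕ} (f : Fin r → A) :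
    LinearIndependent (ResidueField A) (fun i => (1 : ResidueField A) ⊗ₜ[A] KaehlerDifferential.D ℤ A (f i)) ↔
      DerSurj (residue A) f := by
  classical
  set w := fun i => (1 : ResidueField A) ⊗ₜ[A] KaehlerDifferential.D ℤ A (f i) with hw
  constructor
  · intro hli v
    obtain ⟨g, hg⟩ := LinearMap.exists_extend ((Finsupp.linearCombination (ResidueField A) v) ∘ₗ hli.repr)
    refine ⟨fun x => g ((1 : ResidueField A) ⊗ₜ[A] KaehlerDifferential.D ℤ A x), ⟨fun x y => ?_, fun x y => ?_⟩,
      fun j => ?_⟩
    · rw [map_add, TensorProduct.tmul_add, map_add]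
    · have h1 : ∀ (a : A) (z : Ω[A⁄ℤ]), g ((1 : ResidueField A) ⊗ₜ[A] (a • z)) =
          residue A a * g ((1 : ResidueField A) ⊗ₜ[A] z) := fun a z => by
        rw [TensorProduct.tmul_smul, ← algebraMap_smul (ResidueField A) a, map_smul, smul_eq_mul]
        rfl
      rw [Derivation.leibniz, TensorProduct.tmul_add, map_add, h1, h1]
    · have := LinearMap.congr_fun hg ⟨w j, Submodule.subset_span ⟨j, rfl⟩⟩
      rw [LinearMap.comp_apply, LinearMap.comp_apply, Submodule.subtype_apply] at this
      show g (w j) = v j
      rw [this, hli.repr_eq_single j ⟨w j, Submodule.subset_span ⟨j, rfl⟩⟩ rfl]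
      simp
  · intro hs
    rw [Fintype.linearIndependent_iff]
    intro c hc j
    obtain ⟨d, hd, hdv⟩ := hs (Pi.single j 1)
    let D : Derivation ℤ A (ResidueField A) := Derivation.mk' (AddMonoidHom.mk' d hd.map_add).toIntLinearMap
      (fun a b => by
        show d (a * b) = _
        rw [hd.map_mul]; rfl)
    have := congrArg (LinearMap.liftBaseChange (ResidueField A) D.liftKaehlerDifferential) hc
    rw [map_sum, map_zero] at this
    simp only [hw, map_smul, LinearMap.liftBaseChange_tmul, one_smul, Derivation.liftKaehlerDifferential_comp_D] at this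
    simpa [D, hdv, Pi.single_apply] using this

end Der

variable (p : ℕ)

/-- `A[T]/(T_i^p - f_i)`. -/
abbrev PQ (A : Type u) [CommRing A] {r : ℕ} (f : Fin r → A) : Type u :=
  MvPolynomial (Fin r) A ⧸ Ideal.span (Set.range fun i => MvPolynomial.X i ^ p - MvPolynomial.C (f i))

/-- The root `T_i`. -/
noncomputable abbrev PQ.T {A : Type u} [CommRing A] {r : ℕ} (f : Fin r → A) (i : Fin r) : PQ p A f :=
  Ideal.Quotient.mk _ (MvPolynomial.X i)

variable {p} {A : Type u} [CommRing A] {r : ℕ} {f : Fin r → A}

theorem PQ.T_pow (i : Fin r) : PQ.T p f i ^ p = algebraMap A (PQ p A f) (f i) := by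
  rw [← map_pow]
  exact Ideal.Quotient.eq.2 (Ideal.subset_span ⟨i, rfl⟩)

theorem PQ.hom_exists {B : Type u} [CommRing B] (φ : A →+* B) (t : Fin r → B)
    (h : ∀ i, t i ^ p = φ (f i)) :
    ∃ g : PQ p A f →+* B, g.comp (algebraMap A (PQ p A f)) = φ ∧ ∀ i, g (PQ.T p f i) = t i := by
  refine ⟨Ideal.Quotient.lift _ (MvPolynomial.eval₂Hom φ t) (fun z hz => ?_), RingHom.ext fun a => ?_, fun i => ?_⟩
  · rw [← RingHom.mem_ker]
    refine Ideal.span_le.2 ?_ hz
    rintro _ ⟨i, rfl⟩
    simp [h i]
  · show MvPolynomial.eval₂Hom φ t (MvPolynomial.C a) = φ a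
    rw [MvPolynomial.eval₂Hom_C]
  · simp [PQ.T]

theorem PQ.hom_ext {B : Type u} [CommRing B] {g g' : PQ p A f →+* B}
    (h : g.comp (algebraMap A (PQ p A f)) = g'.comp (algebraMap A (PQ p A f)))
    (ht : ∀ i, g (PQ.T p f i) = g' (PQ.T p f i)) : g = g' :=
  Ideal.Quotient.ringHom_ext (MvPolynomial.ringHom_ext (fun a => RingHom.congr_fun h a) ht)

section Step
open Polynomial

/-- Adjoining the roots one at a time. -/
theorem exists_equiv_adjoinRoot {r : ℕ} (f : Fin (r + 1) → A) (i : Fin (r + 1)) :
    Nonempty (PQ p A f ≃+* PQ p (AdjoinRoot (X ^ p - C (f i)))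
      fun j => algebraMap A (AdjoinRoot (X ^ p - C (f i))) (f (i.succAbove j))) := by
  set A1 := AdjoinRoot (X ^ p - C (f i))
  set f' : Fin r → A1 := fun j => algebraMap A A1 (f (i.succAbove j))
  have hroot : (AdjoinRoot.root (X ^ p - C (f i))) ^ p = algebraMap A A1 (f i) := by
    have := AdjoinRoot.eval₂_root (X ^ p - C (f i))
    rwa [eval₂_sub, eval₂_X_pow, eval₂_C, sub_eq_zero] at this
  obtain ⟨F, hF1, hF2⟩ := PQ.hom_exists (p := p) (f := f) ((algebraMap A1 (PQ p A1 f')).comp (algebraMap A A1))
    (i.insertNth (algebraMap A1 (PQ p A1 f') (AdjoinRoot.root _)) fun j => PQ.T p f' j) (fun k => by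
      cases k using i.succAboveCases with
      | x => rw [Fin.insertNth_apply_same, ← map_pow, hroot]; rfl
      | p k => rw [Fin.insertNth_apply_succAbove, PQ.T_pow]; rfl)
  let e1 : A1 →+* PQ p A f := AdjoinRoot.lift (algebraMap A (PQ p A f)) (PQ.T p f i) (by
    rw [eval₂_sub, eval₂_X_pow, eval₂_C, PQ.T_pow, sub_self])
  have he1 : ∀ a, e1 (algebraMap A A1 a) = algebraMap A (PQ p A f) a := fun a => AdjoinRoot.lift_of _
  obtain ⟨G, hG1, hG2⟩ := PQ.hom_exists (p := p) (f := f') e1 (fun j => PQ.T p f (i.succAbove j))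
    (fun j => by rw [PQ.T_pow]; exact (he1 _).symm)
  refine ⟨RingEquiv.ofRingHom F G ?_ ?_⟩
  · refine PQ.hom_ext (Ideal.Quotient.ringHom_ext (Polynomial.ringHom_ext (fun a => ?_) ?_)) fun j => ?_
    · show F (G (algebraMap A1 _ (algebraMap A A1 a))) = algebraMap A1 _ (algebraMap A A1 a)
      rw [show G (algebraMap A1 _ (algebraMap A A1 a)) = e1 (algebraMap A A1 a) from RingHom.congr_fun hG1 _, he1]
      exact RingHom.congr_fun hF1 a
    · show F (G (algebraMap A1 _ (AdjoinRoot.root _))) = algebraMap A1 _ (AdjoinRoot.root _)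
      rw [show G (algebraMap A1 _ (AdjoinRoot.root _)) = e1 (AdjoinRoot.root _) from RingHom.congr_fun hG1 _]
      rw [show e1 (AdjoinRoot.root _) = PQ.T p f i from AdjoinRoot.lift_root _, hF2, Fin.insertNth_apply_same]
    · show F (G (PQ.T p f' j)) = _
      rw [hG2, hF2, Fin.insertNth_apply_succAbove]; rfl
  · refine PQ.hom_ext (RingHom.ext fun a => ?_) fun k => ?_
    · show G (F (algebraMap A _ a)) = algebraMap A _ a
      rw [show F (algebraMap A _ a) = algebraMap A1 _ (algebraMap A A1 a) from RingHom.congr_fun hF1 a,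
        show G (algebraMap A1 _ (algebraMap A A1 a)) = e1 (algebraMap A A1 a) from RingHom.congr_fun hG1 _, he1]
    · show G (F (PQ.T p f k)) = _
      rw [hF2]
      cases k using i.succAboveCases with
      | x =>
        rw [Fin.insertNth_apply_same]
        exact (RingHom.congr_fun hG1 _).trans (AdjoinRoot.lift_root _)
      | p k => rw [Fin.insertNth_apply_succAbove, hG2]; rfl

end Step

section Main

theorem charP_of_cast {B : Type u} [CommRing B] [Nontrivial B] [hp : Fact p.Prime] (h : (p : B) = 0) :
    CharP B p :=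
  (CharP.charP_iff_prime_eq_zero hp.out).2 h

/-- The derivation attached to a coefficient field and a functional on the cotangent space. -/
theorem isDer_of_coefficientField [IsLocalRing A] (σ : ResidueField A →+* A)
    (hσ : ∀ x, residue A (σ x) = x) (φ : CotangentSpace A →ₗ[ResidueField A] ResidueField A)
    (hm : maximalIdeal A ^ 2 = ⊥) :
    ∃ d : A → ResidueField A, IsDer (residue A) d ∧ (∀ x, d (σ x) = 0) ∧
      ∀ (z : A) (hz : z ∈ maximalIdeal A), d z = φ ((maximalIdeal A).toCotangent ⟨z, hz⟩) := by
  have hmem : ∀ x, x - σ (residue A x) ∈ maximalIdeal A := fun x => by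
    rw [← residue_eq_zero_iff, map_sub, hσ, sub_self]
  let π : A → maximalIdeal A := fun x => ⟨x - σ (residue A x), hmem x⟩
  have hz : ∀ z w : maximalIdeal A, (z : A) * w = 0 := fun z w => by
    have : (z : A) * w ∈ maximalIdeal A ^ 2 := by rw [sq]; exact Ideal.mul_mem_mul z.2 w.2
    rwa [hm, Ideal.mem_bot] at this
  refine ⟨fun x => φ ((maximalIdeal A).toCotangent (π x)), ⟨fun x y => ?_, fun x y => ?_⟩, fun x => ?_,
    fun z hz => ?_⟩
  · have h1 : π (x + y) = π x + π y := Subtype.ext (by
      show x + y - σ (residue A (x + y)) = x - σ (residue A x) + (y - σ (residue A y))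
      rw [map_add, map_add]; abel)
    show φ _ = φ _ + φ _
    rw [h1, map_add, map_add]
  · have h1 : π (x * y) = x • π y + y • π x := Subtype.ext (by
      show x * y - σ (residue A (x * y)) = x * (y - σ (residue A y)) + y * (x - σ (residue A x))
      rw [map_mul, map_mul]
      have h3 := hz (π x) (π y)
      simp only [π] at h3
      linear_combination -h3)
    have h2 : ∀ (a : A) (z : maximalIdeal A), φ ((maximalIdeal A).toCotangent (a • z)) =
        residue A a * φ ((maximalIdeal A).toCotangent z) := fun a z => by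
      rw [map_smul, ← algebraMap_smul (ResidueField A) a, map_smul, smul_eq_mul]; rfl
    show φ _ = _
    rw [h1, map_add, map_add, h2, h2]
  · show φ _ = 0
    rw [show π (σ x) = 0 from Subtype.ext (by show σ x - σ (residue A (σ x)) = 0; rw [hσ, sub_self]),
      map_zero, map_zero]
  · show φ _ = _
    congr 2
    exact Subtype.ext (by
      show z - σ (residue A z) = z
      rw [(residue_eq_zero_iff z).2 hz, map_zero, sub_zero])

theorem isUnit_of_ne {B F : Type u} [CommRing B] [Field F] (ρ : B →+* F) (hρ : Function.Surjective ρ)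
    (hnil : ∀ x ∈ RingHom.ker ρ, IsNilpotent x) {x : B} (hx : ρ x ≠ 0) : IsUnit x := by
  obtain ⟨y, hy⟩ := hρ (ρ x)⁻¹
  have h0 : IsNilpotent (x * y - 1) := hnil _ (by rw [RingHom.mem_ker, map_sub, map_mul, hy, map_one, mul_inv_cancel₀ hx, sub_self])
  have h1 := h0.isUnit_add_one
  rw [sub_add_cancel] at h1
  exact isUnit_of_mul_isUnit_left h1

theorem isLocalRing_of_ker {B F : Type u} [CommRing B] [Field F] (ρ : B →+* F) (hρ : Function.Surjective ρ)
    (hnil : ∀ x ∈ RingHom.ker ρ, IsNilpotent x) :
    ∃ _ : IsLocalRing B, maximalIdeal B = RingHom.ker ρ := by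
  haveI : Nontrivial B := ρ.domain_nontrivial
  haveI : IsLocalRing B := IsLocalRing.of_isUnit_or_isUnit_one_sub_self fun x => by
    by_cases hx : ρ x = 0
    · exact Or.inr (isUnit_of_ne ρ hρ hnil (by rw [map_sub, map_one, hx, sub_zero]; exact one_ne_zero))
    · exact Or.inl (isUnit_of_ne ρ hρ hnil hx)
  refine ⟨‹_›, le_antisymm (fun x hx => ?_) (le_maximalIdeal (RingHom.ker_ne_top ρ))⟩
  by_contra h
  exact hx (isUnit_of_ne ρ hρ hnil h)

theorem pq_main_base [IsLocalRing A] [IsArtinianRing A] [Fact p.Prime] [CharP A p]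
    (hm : maximalIdeal A ^ 2 = ⊥) (g : Fin r → ResidueField A) (hg : ∀ j, g j ^ p = residue A (f j)) :
    ∃ _ : IsLocalRing (PQ p A f),
      ((maximalIdeal (PQ p A f)).spanFinrank = (maximalIdeal A).spanFinrank ↔ DerSurj (residue A) f) := by
  classical
  haveI : CharP (ResidueField A) p := charP_of_cast (by rw [← map_natCast (residue A), CharP.cast_eq_zero, map_zero])
  obtain ⟨σ, hσ⟩ := exists_coefficientField (A := A) p ⟨2, hm⟩
  have hc : ∀ j, f j - σ (g j) ^ p ∈ maximalIdeal A := fun j => by
    rw [← residue_eq_zero_iff, map_sub, map_pow, hσ, hg, sub_self]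
  let cb : Fin r → CotangentSpace A := fun j => (maximalIdeal A).toCotangent ⟨_, hc j⟩
  have hdf : ∀ (L : Type u) [CommRing L] [CharP L p] (ε : A →+* L) (d : A → L), IsDer ε d → ∀ j,
      d (f j) = d (f j - σ (g j) ^ p) := fun L _ _ ε d hd j => by
    rw [hd.map_sub, hd.map_pow_char p, sub_zero]
  -- the criterion
  have hcrit : DerSurj (residue A) f ↔ LinearIndependent (ResidueField A) cb := by
    constructor
    · intro hs
      rw [Fintype.linearIndependent_iff]
      intro k hk j
      obtain ⟨d, hd, hdv⟩ := hs (Pi.single j 1)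
      have h0 : ∑ l, σ (k l) * (f l - σ (g l) ^ p) = 0 := by
        have hz : ∑ l, σ (k l) • (⟨_, hc l⟩ : maximalIdeal A) = 0 := by
          apply Subtype.ext
          have h1 : (maximalIdeal A).toCotangent (∑ l, σ (k l) • (⟨_, hc l⟩ : maximalIdeal A)) = 0 := by
            rw [map_sum, ← hk]
            refine Finset.sum_congr rfl fun l _ => ?_
            rw [map_smul, ← algebraMap_smul (ResidueField A) (σ (k l))]
            show residue A (σ (k l)) • cb l = _
            rw [hσ]
          rw [Ideal.toCotangent_eq_zero, hm, Ideal.mem_bot] at h1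
          exact h1
        simpa using congrArg Subtype.val hz
      have h1 := congrArg d h0
      rw [hd.map_sum, hd.map_zero] at h1
      simp only [hd.map_mul, hσ, (residue_eq_zero_iff _).2 (hc _), zero_mul, add_zero,
        ← hdf _ _ d hd, hdv, Pi.single_apply, mul_ite, mul_one, mul_zero, Finset.sum_ite_eq', Finset.mem_univ,
        if_true] at h1
      exact h1
    · intro hli v
      obtain ⟨φ, hφ⟩ := LinearMap.exists_extend ((Finsupp.linearCombination (ResidueField A) v) ∘ₗ hli.repr)
      obtain ⟨d, hd, -, hdm⟩ := isDer_of_coefficientField σ hσ φ hm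
      refine ⟨d, hd, fun j => ?_⟩
      have := LinearMap.congr_fun hφ ⟨cb j, Submodule.subset_span ⟨j, rfl⟩⟩
      rw [LinearMap.comp_apply, LinearMap.comp_apply, Submodule.subtype_apply] at this
      rw [hdf _ _ d hd j, hdm _ (hc j), this, hli.repr_eq_single j ⟨cb j, Submodule.subset_span ⟨j, rfl⟩⟩ rfl]
      simp
  -- the ring
  obtain ⟨εB, hεB1, hεB2⟩ := PQ.hom_exists (p := p) (f := f) (residue A) g hg
  haveI : Nontrivial (PQ p A f) := εB.domain_nontrivial
  haveI : CharP (PQ p A f) p := charP_of_cast (by
    rw [← map_natCast (algebraMap A (PQ p A f)), CharP.cast_eq_zero, map_zero])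
  let U : Fin r → PQ p A f := fun j => PQ.T p f j - algebraMap A _ (σ (g j))
  have hU : ∀ j, U j ^ p = algebraMap A _ (f j - σ (g j) ^ p) := fun j => by
    rw [sub_pow_char, PQ.T_pow, map_sub, map_pow]
  let I : Ideal (PQ p A f) := (maximalIdeal A).map (algebraMap A _) ⊔ Ideal.span (Set.range U)
  have hIker : I ≤ RingHom.ker εB := by
    refine sup_le ?_ (Ideal.span_le.2 ?_)
    · rw [Ideal.map_le_iff_le_comap]
      intro a ha
      rw [Ideal.mem_comap, RingHom.mem_ker, show εB (algebraMap A _ a) = residue A a from RingHom.congr_fun hεB1 a]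
      exact (residue_eq_zero_iff a).2 ha
    · rintro _ ⟨j, rfl⟩
      rw [SetLike.mem_coe, RingHom.mem_ker, map_sub, hεB2,
        show εB (algebraMap A _ (σ (g j))) = residue A (σ (g j)) from RingHom.congr_fun hεB1 _, hσ, sub_self]
  have hIred : ∀ x, x - algebraMap A (PQ p A f) (σ (εB x)) ∈ I := by
    have key : (Ideal.Quotient.mk I).comp (((algebraMap A (PQ p A f)).comp σ).comp εB) = Ideal.Quotient.mk I := by
      refine PQ.hom_ext (p := p) (f := f) (B := PQ p A f ⧸ I) (RingHom.ext fun a => ?_) fun j => ?_
      · show Ideal.Quotient.mk I (algebraMap A (PQ p A f) (σ (εB (algebraMap A (PQ p A f) a)))) = Ideal.Quotient.mk I (algebraMap A (PQ p A f) a)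
        refine Ideal.Quotient.eq.2 (Ideal.mem_sup_left ?_)
        rw [show εB (algebraMap A (PQ p A f) a) = residue A a from RingHom.congr_fun hεB1 a]
        show algebraMap A (PQ p A f) (σ (residue A a)) - algebraMap A (PQ p A f) a ∈ _
        rw [← map_sub]
        refine Ideal.mem_map_of_mem _ ?_
        rw [← residue_eq_zero_iff, map_sub, hσ, sub_self]
      · show Ideal.Quotient.mk I (algebraMap A (PQ p A f) (σ (εB (PQ.T p f j)))) = Ideal.Quotient.mk I (PQ.T p f j)
        refine Ideal.Quotient.eq.2 (Ideal.mem_sup_right ?_)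
        show algebraMap A (PQ p A f) (σ (εB (PQ.T p f j))) - PQ.T p f j ∈ _
        rw [hεB2, ← neg_sub]
        exact neg_mem (Ideal.subset_span ⟨j, rfl⟩)
    intro x
    have := neg_mem (Ideal.Quotient.eq.1 (RingHom.congr_fun key x))
    rwa [neg_sub] at this
  have hkerI : RingHom.ker εB = I := le_antisymm (fun x hx => by
    simpa [RingHom.mem_ker.1 hx] using hIred x) hIker
  have hsurj : Function.Surjective εB := fun k =>
    ⟨algebraMap A _ (σ k), (RingHom.congr_fun hεB1 _).trans (hσ k)⟩
  have hnilm : ∀ a ∈ maximalIdeal A, IsNilpotent a := fun a ha => ⟨2, by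
    have : a ^ 2 ∈ maximalIdeal A ^ 2 := Ideal.pow_mem_pow ha 2
    rwa [hm, Ideal.mem_bot] at this⟩
  have hnil : ∀ x ∈ RingHom.ker εB, IsNilpotent x := by
    have : I ≤ nilradical (PQ p A f) := sup_le
      (Ideal.map_le_iff_le_comap.2 fun a ha => (hnilm a ha).map _)
      (Ideal.span_le.2 (by rintro _ ⟨j, rfl⟩; exact IsNilpotent.of_pow ((hU j).symm ▸ (hnilm _ (hc j)).map _)))
    exact fun x hx => this (hkerI ▸ hx)
  obtain ⟨hloc, hmax⟩ := isLocalRing_of_ker εB hsurj hnil
  rw [hkerI] at hmax
  refine ⟨hloc, ?_⟩
  -- counting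
  let S := Submodule.span (ResidueField A) (Set.range cb)
  let q := Module.finrank (ResidueField A) (CotangentSpace A ⧸ S)
  let w := Module.finBasis (ResidueField A) (CotangentSpace A ⧸ S)
  choose y hy using fun l => ((Submodule.mkQ_surjective S).comp ((maximalIdeal A).toCotangent_surjective)) (w l)
  have hy' : ∀ l, S.mkQ ((maximalIdeal A).toCotangent (y l)) = w l := hy
  have hIspan : I = Ideal.span (((Finset.univ.image fun l => algebraMap A (PQ p A f) (y l).1) ∪
      Finset.univ.image U : Finset (PQ p A f)) : Set (PQ p A f)) := by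
    rw [Finset.coe_union, Ideal.span_union]
    simp only [Finset.coe_image, Finset.coe_univ, Set.image_univ]
    refine le_antisymm (sup_le ?_ le_sup_right) (sup_le ?_ le_sup_right)
    · rw [Ideal.map_le_iff_le_comap]
      intro a ha
      set u := (maximalIdeal A).toCotangent ⟨a, ha⟩
      set k := w.repr (S.mkQ u)
      have hS : u - ∑ l, k l • (maximalIdeal A).toCotangent (y l) ∈ S := by
        rw [← Submodule.Quotient.mk_eq_zero S, ← Submodule.mkQ_apply, map_sub, map_sum]
        simp only [map_smul, hy', k, w.sum_repr, sub_self]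
      obtain ⟨k', hk'⟩ := (Submodule.mem_span_range_iff_exists_fun (ResidueField A)).1 hS
      have hzero : (⟨a, ha⟩ : maximalIdeal A) - ∑ l, σ (k l) • y l - ∑ j, σ (k' j) • (⟨_, hc j⟩ : maximalIdeal A) = 0 := by
        apply Subtype.ext
        have h1 : (maximalIdeal A).toCotangent ((⟨a, ha⟩ : maximalIdeal A) - ∑ l, σ (k l) • y l -
            ∑ j, σ (k' j) • (⟨_, hc j⟩ : maximalIdeal A)) = 0 := by
          simp only [map_sub, map_sum, map_smul]
          have e1 : ∀ (c : ResidueField A) (z : CotangentSpace A), σ c • z = c • z := fun c z => by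
            rw [← algebraMap_smul (ResidueField A) (σ c)]
            show residue A (σ c) • z = _
            rw [hσ]
          simp only [e1]
          rw [hk', sub_self]
        rw [Ideal.toCotangent_eq_zero, hm, Ideal.mem_bot] at h1
        exact h1
      have h2 := congrArg Subtype.val hzero
      simp only [AddSubgroupClass.coe_sub, AddSubmonoidClass.coe_finsetSum, Submodule.coe_sum, Submodule.coe_add, Submodule.coe_smul, smul_eq_mul,
        ZeroMemClass.coe_zero, sub_sub, sub_eq_zero] at h2
      rw [Ideal.mem_comap, h2, map_add, map_sum, map_sum]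
      refine add_mem (Ideal.mem_sup_left ?_) (Ideal.mem_sup_right ?_)
      · exact sum_mem fun l _ => by rw [map_mul]; exact Ideal.mul_mem_left _ _ (Ideal.subset_span ⟨l, rfl⟩)
      · exact sum_mem fun j _ => by
          rw [map_mul, ← hU]
          exact Ideal.mul_mem_left _ _ (Ideal.pow_mem_of_mem _ (Ideal.subset_span (Set.mem_range_self j)) p (Nat.Prime.pos Fact.out))
    · exact le_trans (Ideal.span_le.2 (by rintro _ ⟨l, rfl⟩; exact Ideal.mem_map_of_mem _ (y l).2)) le_sup_left
  have hup : (maximalIdeal (PQ p A f)).spanFinrank ≤ q + r := by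
    rw [hmax, hIspan]
    refine (Submodule.spanFinrank_span_le_ncard_of_finite (Finset.finite_toSet _)).trans ?_
    rw [Set.ncard_coe_finset]
    refine (Finset.card_union_le _ _).trans (Nat.add_le_add ?_ ?_) <;>
      exact Finset.card_image_le.trans (by simp [q])
  have hlow : q + r ≤ (maximalIdeal (PQ p A f)).spanFinrank := by
    haveI : IsNoetherianRing (PQ p A f) := inferInstance
    -- derivations of the quotient
    have hext : ∀ (d : A → ResidueField A) (hd : IsDer (residue A) d) (u : Fin r → ResidueField A),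
        (∀ j, d (f j) = 0) → (∀ j, d (σ (g j)) = 0) → ∃ D : PQ p A f → ResidueField A, IsDer εB D ∧
          (∀ a, D (algebraMap A _ a) = d a) ∧ ∀ j, D (U j) = u j := by
      intro d hd u hd0 hdσ
      obtain ⟨χ, hχ1, hχ2⟩ := PQ.hom_exists (p := p) (f := f) hd.hom (fun j => inl (g j) + inr (u j)) (fun j => by
        rw [dualNumber_pow_char p]
        exact TrivSqZeroExt.ext (by simp [hd.fst_hom, hg]) (by simp [hd.snd_hom, hd0]))
      have hfst : ∀ x, fst (χ x) = εB x := by
        have : (fstHom (ResidueField A) (ResidueField A) (ResidueField A)).toRingHom.comp χ = εB := by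
          refine PQ.hom_ext (RingHom.ext fun a => ?_) fun j => ?_
          · show fst (χ (algebraMap A _ a)) = εB (algebraMap A _ a)
            rw [show χ (algebraMap A _ a) = hd.hom a from RingHom.congr_fun hχ1 a, hd.fst_hom,
              show εB (algebraMap A _ a) = residue A a from RingHom.congr_fun hεB1 a]
          · show fst (χ (PQ.T p f j)) = εB (PQ.T p f j)
            rw [hχ2, hεB2]; simp
        exact fun x => RingHom.congr_fun this x
      refine ⟨_, IsDer.of_hom χ hfst, fun a => ?_, fun j => ?_⟩
      · show snd (χ (algebraMap A _ a)) = d a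
        rw [show χ (algebraMap A _ a) = hd.hom a from RingHom.congr_fun hχ1 a, hd.snd_hom]
      · show snd (χ (U j)) = u j
        rw [map_sub, hχ2, show χ (algebraMap A _ (σ (g j))) = hd.hom (σ (g j)) from RingHom.congr_fun hχ1 _]
        simp [hd.snd_hom, hdσ]
    choose d hd hdσ hdm using fun φ => isDer_of_coefficientField σ hσ φ hm
    have hker : ∀ (l : Fin q) j, d (w.coord l ∘ₗ S.mkQ) (f j) = 0 := fun l j => by
      rw [hdf _ _ _ (hd _) j, hdm _ _ (hc j), LinearMap.comp_apply, Submodule.mkQ_apply,
        (Submodule.Quotient.mk_eq_zero S).2 (Submodule.subset_span ⟨j, rfl⟩), map_zero]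
    have hzero : IsDer (residue A) fun _ : A => (0 : ResidueField A) := ⟨by simp, by simp⟩
    choose DY hDY1 hDY2 hDY3 using fun l => hext _ (hd (w.coord l ∘ₗ S.mkQ)) 0 (hker l) (fun j => hdσ _ _)
    choose DU hDU1 hDU2 hDU3 using fun j : Fin r => hext _ hzero (Pi.single j 1) (fun _ => rfl) (fun _ => rfl)
    have := card_le_spanFinrank εB (fun x hx => hIker (hmax ▸ hx)) (Sum.elim DY DU)
      (by rintro (l | j) <;> [exact hDY1 l; exact hDU1 j])
      (Sum.elim (fun l => algebraMap A _ (y l).1) U) (by
        rintro (l | j) <;> rw [hmax]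
        · exact Ideal.mem_sup_left (Ideal.mem_map_of_mem _ (y l).2)
        · exact Ideal.mem_sup_right (Ideal.subset_span ⟨j, rfl⟩)) (by
        rintro (l | j) (l' | j') <;> simp only [Sum.elim_inl, Sum.elim_inr]
        · rw [hDY2, hdm _ _ (y l').2, LinearMap.comp_apply, hy', w.coord_apply, w.repr_self,
            Finsupp.single_apply]
          simp [eq_comm]
        · simp [hDY3]
        · simp [hDU2]
        · simp [hDU3, Pi.single_apply, eq_comm])
    simpa using this
  rw [hcrit, le_antisymm hup hlow, linearIndependent_iff_card_eq_finrank_span,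
    spanFinrank_maximalIdeal_eq_finrank_cotangentSpace, ← Submodule.finrank_quotient_add_finrank S,
    Fintype.card_fin]
  show q + r = q + _ ↔ _
  rw [Nat.add_left_cancel_iff]
  rfl

theorem pq_step_facts [IsLocalRing A] [IsArtinianRing A] [hp : Fact p.Prime] [CharP A p]
    (hm : maximalIdeal A ^ 2 = ⊥) (a : A) (ha : ∀ b : ResidueField A, b ^ p ≠ residue A a) :
    ∃ _ : IsLocalRing (AdjoinRoot (Polynomial.X ^ p - Polynomial.C a)),
      IsArtinianRing (AdjoinRoot (Polynomial.X ^ p - Polynomial.C a)) ∧
      CharP (AdjoinRoot (Polynomial.X ^ p - Polynomial.C a)) p ∧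
      maximalIdeal (AdjoinRoot (Polynomial.X ^ p - Polynomial.C a)) =
        (maximalIdeal A).map (algebraMap A _) := by
  let F := Polynomial.X ^ p - Polynomial.C a
  let F0 := (Polynomial.X ^ p - Polynomial.C (residue A a) : Polynomial (ResidueField A))
  haveI : CharP (ResidueField A) p := charP_of_cast (by rw [← map_natCast (residue A), CharP.cast_eq_zero, map_zero])
  haveI : Fact (Irreducible F0) := ⟨X_pow_sub_C_irreducible_of_prime hp.out ha⟩
  let ρ : AdjoinRoot F →+* AdjoinRoot F0 := AdjoinRoot.lift ((AdjoinRoot.of F0).comp (residue A)) (AdjoinRoot.root F0) (by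
    rw [← Polynomial.eval₂_map]
    simpa [F, F0] using AdjoinRoot.eval₂_root F0)
  have hmapF : F.map (residue A) = F0 := by simp [F, F0]
  have hρ : ∀ g : Polynomial A, ρ (AdjoinRoot.mk F g) = AdjoinRoot.mk F0 (g.map (residue A)) := fun g => by
    rw [AdjoinRoot.lift_mk, ← Polynomial.eval₂_map, ← AdjoinRoot.aeval_eq, Polynomial.aeval_def]
    rfl
  have hsurj : Function.Surjective ρ := fun z => by
    induction z using AdjoinRoot.induction_on with
    | ih g =>
      obtain ⟨g', rfl⟩ := Polynomial.map_surjective (residue A) residue_surjective g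
      exact ⟨_, hρ g'⟩
  have hker : RingHom.ker ρ = (maximalIdeal A).map (algebraMap A (AdjoinRoot F)) := by
    refine le_antisymm (fun z hz => ?_) (Ideal.map_le_iff_le_comap.2 fun b hb => ?_)
    · induction z using AdjoinRoot.induction_on with
      | ih g =>
        rw [RingHom.mem_ker, hρ, AdjoinRoot.mk_eq_zero] at hz
        obtain ⟨h, hh⟩ := hz
        obtain ⟨h', rfl⟩ := Polynomial.map_surjective (residue A) residue_surjective h
        have h1 : g - F * h' ∈ (maximalIdeal A).map (Polynomial.C : A →+* Polynomial A) := by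
          rw [← ker_residue, ← Polynomial.ker_mapRingHom, RingHom.mem_ker, Polynomial.coe_mapRingHom,
            Polynomial.map_sub, Polynomial.map_mul, hmapF, hh, sub_self]
        have h2 := Ideal.mem_map_of_mem (AdjoinRoot.mk F) h1
        rw [Ideal.map_map, map_sub, map_mul, AdjoinRoot.mk_self, zero_mul, sub_zero] at h2
        exact h2
    · rw [Ideal.mem_comap, RingHom.mem_ker]
      show ρ (AdjoinRoot.of F b) = 0
      rw [AdjoinRoot.lift_of, RingHom.comp_apply, (residue_eq_zero_iff b).2 hb, map_zero]
  have hnil : ∀ x ∈ RingHom.ker ρ, IsNilpotent x := fun x hx => ⟨2, by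
    have : x ^ 2 ∈ (RingHom.ker ρ) ^ 2 := Ideal.pow_mem_pow hx 2
    rwa [hker, ← Ideal.map_pow, hm, Ideal.map_bot, Ideal.mem_bot] at this⟩
  obtain ⟨hloc, hmax⟩ := isLocalRing_of_ker ρ hsurj hnil
  haveI : Module.Finite A (AdjoinRoot F) := (Polynomial.monic_X_pow_sub_C a hp.out.ne_zero).finite_adjoinRoot
  exact ⟨hloc, IsArtinianRing.of_finite A _,
    charP_of_cast (by rw [← map_natCast (algebraMap A (AdjoinRoot F)), CharP.cast_eq_zero, map_zero]),
    hmax.trans hker⟩

theorem pq_main : ∀ (r : ℕ) (A : Type u) [CommRing A] [IsLocalRing A] [IsArtinianRing A] (p : ℕ)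
    [Fact p.Prime] [CharP A p] (f : Fin r → A), maximalIdeal A ^ 2 = ⊥ →
    ∃ _ : IsLocalRing (PQ p A f),
      ((maximalIdeal (PQ p A f)).spanFinrank = (maximalIdeal A).spanFinrank ↔ DerSurj (residue A) f)
  | r, A, _, _, _, p, hp, _, f, hm => by
    classical
    haveI : CharP (ResidueField A) p := charP_of_cast (by rw [← map_natCast (residue A), CharP.cast_eq_zero, map_zero])
    by_cases hall : ∀ j, ∃ b, b ^ p = residue A (f j)
    · choose g hg using hall
      exact pq_main_base hm g hg
    push Not at hall
    obtain ⟨i, hi⟩ := hall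
    match r, f, i, hi with
    | 0, _, i, _ => exact i.elim0
    | r + 1, f, i, hi =>
      obtain ⟨h1, hart, hchar, hmax⟩ := pq_step_facts hm (f i) hi
      set A1 := AdjoinRoot (Polynomial.X ^ p - Polynomial.C (f i))
      set f' : Fin r → A1 := fun j => algebraMap A A1 (f (i.succAbove j))
      haveI := h1
      haveI := hart
      haveI := hchar
      haveI : CharP (ResidueField A1) p :=
        charP_of_cast (by rw [← map_natCast (residue A1), CharP.cast_eq_zero, map_zero])
      obtain ⟨hloc, hiff⟩ := pq_main r A1 p f' (by rw [hmax, ← Ideal.map_pow, hm, Ideal.map_bot])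
      obtain ⟨e⟩ := exists_equiv_adjoinRoot (p := p) f i
      haveI : IsLocalRing (PQ p A f) := e.symm.isLocalRing
      refine ⟨inferInstance, ?_⟩
      rw [← Ideal.spanFinrank_map_eq_of_ringEquiv e, map_ringEquiv_maximalIdeal e]
      -- residue fields
      let ι : ResidueField A →+* ResidueField A1 := Ideal.Quotient.lift (maximalIdeal A)
        ((residue A1).comp (algebraMap A A1)) fun x hx => by
          rw [RingHom.comp_apply, residue_eq_zero_iff, hmax]
          exact Ideal.mem_map_of_mem _ hx
      have hι : ι.comp (residue A) = (residue A1).comp (algebraMap A A1) := RingHom.ext fun x => rfl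
      obtain ⟨χK, hχ1, hχ2⟩ := exists_derivation_one (ResidueField A) p (residue A (f i)) hi
      have hd0 : IsDer (residue A) fun x => snd (χK (residue A x)) :=
        (IsDer.of_hom χK (ε := RingHom.id _) hχ1).comp (residue A)
      -- extension of derivations
      have hext : ∀ d : A → ResidueField A1, IsDer ((residue A1).comp (algebraMap A A1)) d → d (f i) = 0 →
          ∃ D : A1 → ResidueField A1, IsDer (residue A1) D ∧ ∀ a, D (algebraMap A A1 a) = d a := by
        intro d hd hd0
        let t := residue A1 (AdjoinRoot.root _)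
        let χ : A1 →+* DualNumber (ResidueField A1) := AdjoinRoot.lift hd.hom (inl t) (by
          rw [Polynomial.eval₂_sub, Polynomial.eval₂_X_pow, Polynomial.eval₂_C, sub_eq_zero, inl_pow]
          refine TrivSqZeroExt.ext ?_ (by rw [hd.snd_hom, hd0, snd_inl])
          rw [hd.fst_hom, fst_inl, ← map_pow, RingHom.comp_apply]
          have := AdjoinRoot.eval₂_root (Polynomial.X ^ p - Polynomial.C (f i))
          rw [Polynomial.eval₂_sub, Polynomial.eval₂_X_pow, Polynomial.eval₂_C, sub_eq_zero] at this
          rw [this]; rfl)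
        have hfst : ∀ x, fst (χ x) = residue A1 x := by
          have : (fstHom (ResidueField A1) (ResidueField A1) (ResidueField A1)).toRingHom.comp χ = residue A1 := by
            refine Ideal.Quotient.ringHom_ext (Polynomial.ringHom_ext (fun b => ?_) ?_)
            · show fst (χ (AdjoinRoot.of _ b)) = _
              rw [AdjoinRoot.lift_of, hd.fst_hom]; rfl
            · show fst (χ (AdjoinRoot.root _)) = _
              rw [AdjoinRoot.lift_root, fst_inl]; rfl
          exact fun x => RingHom.congr_fun this x
        refine ⟨_, IsDer.of_hom χ hfst, fun b => ?_⟩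
        show snd (χ (AdjoinRoot.of _ b)) = d b
        rw [AdjoinRoot.lift_of, hd.snd_hom]
      -- embedding dimension
      have hspan : (maximalIdeal A1).spanFinrank = (maximalIdeal A).spanFinrank := by
        refine le_antisymm (hmax ▸ spanFinrank_map_le _ (IsNoetherian.noetherian _)) ?_
        rw [spanFinrank_maximalIdeal_eq_finrank_cotangentSpace]
        let b := Module.finBasis (ResidueField A) (CotangentSpace A)
        obtain ⟨σ, hσ⟩ := exists_coefficientField (A := A) p ⟨2, hm⟩
        choose x hx using fun l => (maximalIdeal A).toCotangent_surjective (b l)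
        choose d hd hdσ hdm using fun l => isDer_of_coefficientField σ hσ (b.coord l) hm
        let d' : Fin _ → A → ResidueField A1 := fun l z =>
          ι (d l z) + -ι (d l (f i)) * ι (snd (χK (residue A z)))
        have hd' : ∀ l, IsDer ((residue A1).comp (algebraMap A A1)) (d' l) := fun l =>
          hι ▸ ((hd l).map_ringHom ι).add ((hd0.map_ringHom ι).const_mul _)
        choose D hD1 hD2 using fun l => hext (d' l) (hd' l) (by simp [d', hχ2])
        have := card_le_spanFinrank (residue A1) (fun z hz => (residue_eq_zero_iff z).2 hz) D hD1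
          (fun l => algebraMap A A1 (x l).1) (fun l => hmax ▸ Ideal.mem_map_of_mem _ (x l).2) (fun l k => by
            have h0 : snd (χK (residue A (x k).1)) = 0 := by
              rw [(residue_eq_zero_iff _).2 (x k).2, map_zero, snd_zero]
            rw [hD2]
            simp only [d', h0, map_zero, mul_zero, add_zero, hdm l _ (x k).2, Subtype.coe_eta, hx, Module.Basis.coord_apply,
              Module.Basis.repr_self, Finsupp.single_apply]
            split_ifs with h1 h2 h2 <;> first
              | exact map_one ι | exact map_zero ι | exact absurd h1.symm h2 | exact absurd h2.symm h1)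
        simpa using this
      rw [← hspan, hiff]
      constructor
      · intro hs w
        obtain ⟨d1, hd1, hd1v⟩ := hs fun j =>
          ι (w (i.succAbove j)) - ι (w i) * ι (snd (χK (residue A (f (i.succAbove j)))))
        letI := ι.toAlgebra
        obtain ⟨π, hπ⟩ := LinearMap.exists_leftInverse_of_injective
          (Algebra.linearMap (ResidueField A) (ResidueField A1)) (LinearMap.ker_eq_bot.2 ι.injective)
        have hπι : ∀ z, π (ι z) = z := fun z => LinearMap.congr_fun hπ z
        have hπm : ∀ z z', π (ι z * z') = z * π z' := fun z z' => π.map_smul z z'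
        have hD := (hd1.comp (algebraMap A A1)).add ((hd0.map_ringHom ι).const_mul (ι (w i)))
        have hDi : d1 (algebraMap A A1 (f i)) = 0 := by
          have hroot : (AdjoinRoot.root _) ^ p = algebraMap A A1 (f i) := by
            have := AdjoinRoot.eval₂_root (Polynomial.X ^ p - Polynomial.C (f i))
            rwa [Polynomial.eval₂_sub, Polynomial.eval₂_X_pow, Polynomial.eval₂_C, sub_eq_zero] at this
          rw [← hroot, hd1.map_pow_char p]
        refine ⟨fun z => π (d1 (algebraMap A A1 z) + ι (w i) * ι (snd (χK (residue A z)))),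
          ⟨fun z z' => ?_, fun z z' => ?_⟩, fun k => ?_⟩
        · show π _ = π _ + π _
          rw [hD.map_add, map_add π]
        · show π _ = residue A z * π _ + residue A z' * π _
          rw [hD.map_mul, map_add π, ← hι, RingHom.comp_apply, RingHom.comp_apply, hπm, hπm]
        · show π _ = _
          cases k using i.succAboveCases with
          | x => rw [hDi, hχ2, map_one, mul_one, zero_add, hπι]
          | p k => rw [show d1 (algebraMap A A1 (f (i.succAbove k))) = _ from hd1v k, sub_add_cancel, hπι]
      · intro hs v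
        choose d hd hdv using fun k => hs (Pi.single k 1)
        let w : Fin (r + 1) → ResidueField A1 := i.insertNth 0 v
        have hsum := IsDer.sum Finset.univ (fun k z => w k * ι (d k z))
          (fun k => hι ▸ ((hd k).map_ringHom ι).const_mul (w k))
        have hval : ∀ k, ∑ k', w k' * ι (d k' (f k)) = w k := fun k => by
          simp [hdv, Pi.single_apply, apply_ite ι]
        obtain ⟨D, hD1, hD2⟩ := hext _ hsum (by simp [hval, w])
        refine ⟨D, hD1, fun j => ?_⟩
        show D (algebraMap A A1 (f (i.succAbove j))) = v j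
        rw [hD2]
        simp [hval, w]

end Main

end CommAlgDim
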