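import Groth.Agent.CommAlgDim.PPoly
import Groth.Agent.CommAlgDim.GlobalDim
import Groth.Agent.CommAlgDim.Integral
import Mathlib.RingTheory.HopkinsLevitzki
import Mathlib.FieldTheory.IsAlgClosed.AlgebraicClosure

/-! Quotients of polynomial rings over regular local rings by `p`-polynomials. -/

set_option autoImplicit false
set_option maxHeartbeats 400000
set_option linter.style.haveILetI false
universe u

open IsLocalRing

namespace CommAlgDim

/-- Reduction of a ring along a surjection with kernel in the square of the maximal ideal does not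
change the embedding dimension. -/
theorem spanFinrank_maximalIdeal_of_surjective {R S : Type u} [CommRing R] [IsLocalRing R]
    [IsNoetherianRing R] [CommRing S] [IsLocalRing S] (ψ : R →+* S) (hψ : Function.Surjective ψ)
    (hker : RingHom.ker ψ ≤ maximalIdeal R ^ 2) :
    (maximalIdeal S).spanFinrank = (maximalIdeal R).spanFinrank := by
  classical
  rw [← map_maximalIdeal_of_surjective ψ hψ]
  refine le_antisymm (spanFinrank_map_le ψ (IsNoetherian.noetherian _)) ?_
  obtain ⟨t, ht, htK⟩ := Submodule.FG.exists_span_finset_card_eq_spanFinrank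
    (Ideal.FG.map (IsNoetherian.noetherian (maximalIdeal R)) ψ)
  rw [Ideal.submodule_span_eq] at htK
  have hl : ∀ y ∈ t, ∃ z ∈ maximalIdeal R, ψ z = y := fun y hy =>
    (Ideal.mem_map_iff_of_surjective ψ hψ).1 (htK ▸ Ideal.subset_span hy)
  choose l hlm hl using hl
  let u : Finset R := t.attach.image fun y => l y.1 y.2
  have h1 : maximalIdeal R ≤ Ideal.span (u : Set R) ⊔ maximalIdeal R • maximalIdeal R := by
    intro z hz
    have h2 : ψ z ∈ (Ideal.span (u : Set R)).map ψ := by
      have h3 := Ideal.mem_map_of_mem ψ hz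
      rw [← htK] at h3
      refine Ideal.span_le.2 (fun y hy => ?_) h3
      rw [← hl y hy]
      exact Ideal.mem_map_of_mem ψ (Ideal.subset_span
        (Finset.mem_coe.2 (Finset.mem_image.2 ⟨⟨y, hy⟩, Finset.mem_attach _ _, rfl⟩)))
    obtain ⟨w, hw, hwz⟩ := (Ideal.mem_map_iff_of_surjective ψ hψ).1 h2
    have h4 : z - w ∈ maximalIdeal R * maximalIdeal R :=
      sq (maximalIdeal R) ▸ hker (by rw [RingHom.mem_ker, map_sub, hwz, sub_self])
    have h5 := Submodule.add_mem_sup (S := Ideal.span (u : Set R)) hw h4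
    rwa [add_sub_cancel] at h5
  have h2 := Submodule.le_of_le_smul_of_le_jacobson_bot (IsNoetherian.noetherian _)
    (jacobson_eq_maximalIdeal (⊥ : Ideal R) bot_ne_top).ge h1
  have h3 : maximalIdeal R = Ideal.span (u : Set R) := le_antisymm h2 (Ideal.span_le.2 (by
    intro z hz
    obtain ⟨y, -, rfl⟩ := Finset.mem_image.1 hz
    exact hlm _ _))
  rw [← ht]
  conv_lhs => rw [h3]
  refine (Submodule.spanFinrank_span_le_ncard_of_finite (Finset.finite_toSet _)).trans ?_
  rw [Set.ncard_coe_finset]
  exact Finset.card_image_le.trans (by rw [Finset.card_attach])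

theorem derSurj_quotient_sq {A : Type u} [CommRing A] [IsLocalRing A]
    [IsLocalRing (A ⧸ maximalIdeal A ^ 2)] {r : ℕ} (f : Fin r → A) :
    DerSurj (residue A) f ↔
      DerSurj (residue (A ⧸ maximalIdeal A ^ 2)) fun i => Ideal.Quotient.mk _ (f i) := by
  set π := Ideal.Quotient.mk (maximalIdeal A ^ 2)
  have hker : RingHom.ker ((residue (A ⧸ maximalIdeal A ^ 2)).comp π) = maximalIdeal A :=
    ((Ideal.IsMaximal.eq_of_le (maximalIdeal.isMaximal A) (RingHom.ker_ne_top _)) (fun x hx => by
      rw [RingHom.mem_ker, RingHom.comp_apply, residue_eq_zero_iff,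
        ← map_maximalIdeal_of_surjective π Ideal.Quotient.mk_surjective]
      exact Ideal.mem_map_of_mem π hx)).symm
  let e : ResidueField A ≃+* ResidueField (A ⧸ maximalIdeal A ^ 2) :=
    (Ideal.quotEquivOfEq hker.symm).trans
      (RingHom.quotientKerEquivOfSurjective (residue_surjective.comp Ideal.Quotient.mk_surjective))
  have he : ∀ x, e (residue A x) = residue _ (π x) := fun x => rfl
  constructor
  · intro h v
    obtain ⟨d, hd, hdv⟩ := h fun j => e.symm (v j)
    let d0 : A →+ ResidueField A := AddMonoidHom.mk' d hd.map_add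
    have hkill : ∀ x ∈ maximalIdeal A ^ 2, d x = 0 := fun x hx => by
      rw [sq] at hx
      refine Submodule.mul_induction_on hx (fun a ha b hb => ?_) (fun x y hx hy => ?_)
      · rw [hd.map_mul, (residue_eq_zero_iff a).2 ha, (residue_eq_zero_iff b).2 hb, zero_mul, zero_mul, add_zero]
      · rw [hd.map_add, hx, hy, add_zero]
    choose l hl using fun y : A ⧸ maximalIdeal A ^ 2 => Ideal.Quotient.mk_surjective y
    have hwd : ∀ x, d (l (π x)) = d x := fun x =>
      sub_eq_zero.1 ((hd.map_sub _ _).symm.trans (hkill _ (Ideal.Quotient.eq.1 (hl (π x)))))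
    refine ⟨fun y => e (d (l y)), ⟨fun a b => ?_, fun a b => ?_⟩, fun j => ?_⟩
    · obtain ⟨a, rfl⟩ := Ideal.Quotient.mk_surjective a
      obtain ⟨b, rfl⟩ := Ideal.Quotient.mk_surjective b
      rw [← map_add π, hwd, hwd, hwd, hd.map_add, map_add]
    · obtain ⟨a, rfl⟩ := Ideal.Quotient.mk_surjective a
      obtain ⟨b, rfl⟩ := Ideal.Quotient.mk_surjective b
      rw [← map_mul π, hwd, hwd, hwd, hd.map_mul, map_add, map_mul, map_mul, he, he]
    · show e (d (l (π (f j)))) = v j
      rw [hwd, hdv, e.apply_symm_apply]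
  · intro h v
    obtain ⟨d, hd, hdv⟩ := h fun j => e (v j)
    have h1 := (hd.comp π).map_ringHom (e.symm : _ →+* ResidueField A)
    refine ⟨fun x => e.symm (d (π x)), ⟨h1.map_add, fun x y => ?_⟩, fun j => ?_⟩
    · have h2 := h1.map_mul x y
      simp only [RingHom.comp_apply, RingHom.coe_coe, ← he, e.symm_apply_apply] at h2
      exact h2
    · show e.symm (d (π (f j))) = v j
      rw [hdv, e.symm_apply_apply]

open MvPolynomial in
theorem regular_quotient_pPolys {A : Type u} [CommRing A] [IsRegularLocalRing A] (p : ℕ) [Fact p.Prime]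
    (hp : (p : A) ∈ maximalIdeal A ^ 2) {r : ℕ} (f : Fin r → A) (G : Fin r → Polynomial A)
    (hG : ∀ i, (G i).degree < p) (F : Fin r → MvPolynomial (Fin r) A)
    (hF : ∀ i, F i = X i ^ p + (p : MvPolynomial (Fin r) A) * Polynomial.aeval (X i) (G i) - C (f i)) :
    IsLocalRing (MvPolynomial (Fin r) A ⧸ Ideal.span (Set.range F)) ∧
      (IsRegularRing (MvPolynomial (Fin r) A ⧸ Ideal.span (Set.range F)) ↔
        LinearIndependent (ResidueField A)
          (fun i => TensorProduct.tmul A (1 : ResidueField A) (KaehlerDifferential.D ℤ A (f i)))) := by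
  classical
  set B := MvPolynomial (Fin r) A ⧸ Ideal.span (Set.range F)
  -- the monic equations
  let P : Fin r → Polynomial A := fun i =>
    Polynomial.X ^ p + (Polynomial.C (p : A) * G i - Polynomial.C (f i))
  have hp0 : p ≠ 0 := (Fact.out : p.Prime).ne_zero
  have hdeg : ∀ i, (Polynomial.C (p : A) * G i - Polynomial.C (f i)).degree < p := fun i => by
    refine (Polynomial.degree_sub_le _ _).trans_lt (max_lt ?_ ?_)
    · rw [← Polynomial.smul_eq_C_mul]
      exact (Polynomial.degree_smul_le _ _).trans_lt (hG i)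
    · exact Polynomial.degree_C_le.trans_lt (by exact_mod_cast (Fact.out : p.Prime).pos)
  have hmon : ∀ i, (P i).Monic := fun i => Polynomial.monic_X_pow_add (hdeg i)
  have hPF : ∀ i, Polynomial.aeval (X i : MvPolynomial (Fin r) A) (P i) = F i := fun i => by
    simp [P, hF]; ring
  let T : Fin r → B := fun i => Ideal.Quotient.mkₐ A _ (X i)
  have hT : ∀ i, IsIntegral A (T i) := fun i => ⟨P i, hmon i, by
    show Polynomial.aeval (T i) (P i) = 0
    rw [Polynomial.aeval_algHom_apply, hPF]
    exact Ideal.Quotient.eq_zero_iff_mem.2 (Ideal.subset_span ⟨i, rfl⟩)⟩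
  haveI : Module.Finite A B := by
    have htop : Algebra.adjoin A (Set.range T) = ⊤ := by
      rw [show Set.range T = (Ideal.Quotient.mkₐ A (Ideal.span (Set.range F))) '' Set.range X from
        Set.range_comp _ _, ← AlgHom.map_adjoin, MvPolynomial.adjoin_range_X, Algebra.map_top,
        AlgHom.range_eq_top]
      exact Ideal.Quotient.mk_surjective
    have h := fg_adjoin_of_finite (Set.finite_range T) (by rintro _ ⟨i, rfl⟩; exact hT i)
    rw [htop, Algebra.top_toSubmodule] at h
    exact ⟨h⟩
  haveI : Algebra.IsIntegral A B := Algebra.IsIntegral.of_finite A B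
  haveI : IsNoetherianRing B := inferInstance
  -- injectivity
  have hinj : Function.Injective (algebraMap A B) := by
    haveI := isDomain_of_isRegularLocalRing A
    let Ω := AlgebraicClosure (FractionRing A)
    have hΩ : Function.Injective (algebraMap A Ω) := by
      rw [IsScalarTower.algebraMap_eq A (FractionRing A) Ω]
      exact (algebraMap (FractionRing A) Ω).injective.comp (IsFractionRing.injective A (FractionRing A))
    have hroot : ∀ i, ∃ t : Ω, Polynomial.aeval t (P i) = 0 := fun i => by
      obtain ⟨t, ht⟩ := IsAlgClosed.exists_root ((P i).map (algebraMap A Ω)) (by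
        rw [(hmon i).degree_map, Polynomial.degree_add_eq_left_of_degree_lt (by
          rw [Polynomial.degree_X_pow]; exact hdeg i), Polynomial.degree_X_pow]
        exact_mod_cast hp0)
      exact ⟨t, by rwa [Polynomial.IsRoot, Polynomial.eval_map, ← Polynomial.aeval_def] at ht⟩
    choose t ht using hroot
    let φ : B →ₐ[A] Ω := Ideal.Quotient.liftₐ _ (MvPolynomial.aeval t) (fun z hz => by
      rw [← RingHom.mem_ker]
      refine Ideal.span_le.2 ?_ hz
      rintro _ ⟨i, rfl⟩
      rw [SetLike.mem_coe, RingHom.mem_ker, ← hPF, ← Polynomial.aeval_algHom_apply, MvPolynomial.aeval_X]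
      exact ht i)
    exact Function.Injective.of_comp (f := φ) (by
      rw [← RingHom.coe_coe, ← RingHom.coe_comp, AlgHom.comp_algebraMap]
      exact hΩ)
  have hdimB : ringKrullDim B = (maximalIdeal A).spanFinrank := by
    rw [ringKrullDim_eq_of_integral A B hinj]
    exact IsRegularLocalRing.spanFinrank_maximalIdeal.symm
  -- the reduction
  have hne : maximalIdeal A ^ 2 ≠ ⊤ := fun h => (maximalIdeal.isMaximal A).ne_top
    (top_le_iff.1 (h.ge.trans (Ideal.pow_le_self two_ne_zero)))
  haveI := nontrivial_quotient hne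
  set π := Ideal.Quotient.mk (maximalIdeal A ^ 2)
  have hm : maximalIdeal (A ⧸ maximalIdeal A ^ 2) ^ 2 = ⊥ := by
    rw [← map_maximalIdeal_of_surjective π Ideal.Quotient.mk_surjective, ← Ideal.map_pow,
      Ideal.map_quotient_self]
  haveI : IsArtinianRing (A ⧸ maximalIdeal A ^ 2) :=
    (isArtinianRing_iff_isNilpotent_maximalIdeal _).2 ⟨2, hm⟩
  haveI : CharP (A ⧸ maximalIdeal A ^ 2) p := charP_of_cast (by
    rw [← map_natCast π]; exact Ideal.Quotient.eq_zero_iff_mem.2 hp)
  set fb := fun i => π (f i) with hfb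
  obtain ⟨hloc', hiff⟩ := pq_main r (A ⧸ maximalIdeal A ^ 2) p fb hm
  have hp' : (p : A ⧸ maximalIdeal A ^ 2) = 0 := CharP.cast_eq_zero _ p
  have hFmap : ∀ i, MvPolynomial.map π (F i) = X i ^ p - C (fb i) := fun i => by
    rw [hF]; simp [fb, hp']
  have hspan : (Ideal.span (Set.range F)).map (MvPolynomial.map π) =
      Ideal.span (Set.range fun i => X i ^ p - C (fb i)) := by
    rw [Ideal.map_span, ← Set.range_comp]
    exact congrArg _ (congrArg Set.range (funext hFmap))
  let ψ : B →+* PQ p (A ⧸ maximalIdeal A ^ 2) fb := Ideal.quotientMap _ (MvPolynomial.map π)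
    (Ideal.map_le_iff_le_comap.1 hspan.le)
  have hψ : Function.Surjective ψ :=
    Ideal.quotientMap_surjective (MvPolynomial.map_surjective π Ideal.Quotient.mk_surjective)
  have hkerψ : RingHom.ker ψ ≤ (maximalIdeal A ^ 2).map (algebraMap A B) := by
    intro x hx
    obtain ⟨z, rfl⟩ := Ideal.Quotient.mk_surjective x
    rw [RingHom.mem_ker, Ideal.quotientMap_mk, Ideal.Quotient.eq_zero_iff_mem, ← hspan,
      Ideal.mem_map_iff_of_surjective _ (MvPolynomial.map_surjective π Ideal.Quotient.mk_surjective)] at hx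
    obtain ⟨w, hw, hwz⟩ := hx
    have h1 : z - w ∈ (maximalIdeal A ^ 2).map (C : A →+* MvPolynomial (Fin r) A) := by
      rw [← Ideal.mk_ker (I := maximalIdeal A ^ 2), ← MvPolynomial.ker_map, RingHom.mem_ker, map_sub, hwz,
        sub_self]
    have h2 := Ideal.mem_map_of_mem (Ideal.Quotient.mk (Ideal.span (Set.range F))) h1
    rw [Ideal.map_map, map_sub, Ideal.Quotient.eq_zero_iff_mem.2 hw, sub_zero] at h2
    exact h2
  have hcomap : ∀ P : Ideal B, P.IsMaximal → (maximalIdeal A).map (algebraMap A B) ≤ P := fun P hP => by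
    haveI := hP
    exact Ideal.map_le_iff_le_comap.2 (le_of_eq
      (IsLocalRing.eq_maximalIdeal (Ideal.isMaximal_comap_of_isIntegral_of_isMaximal (R := A) P)).symm)
  have hjac : RingHom.ker ψ ≤ Ideal.jacobson (⊥ : Ideal B) := fun x hx =>
    Ideal.mem_sInf.2 fun {P} hP => hcomap P hP.2 (Ideal.map_mono (Ideal.pow_le_self two_ne_zero) (hkerψ hx))
  haveI hnt : Nontrivial B := hinj.nontrivial
  have hunit : ∀ x, IsUnit (ψ x) → IsUnit x := fun x hx => by
    obtain ⟨y, hy⟩ := hψ ↑hx.unit⁻¹
    have h0 : x * y - 1 ∈ RingHom.ker ψ := by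
      rw [RingHom.mem_ker, map_sub, map_mul, hy, IsUnit.mul_val_inv, map_one, sub_self]
    exact isUnit_of_mul_isUnit_left (Ideal.isUnit_of_sub_one_mem_jacobson_bot _ (hjac h0))
  haveI : IsLocalRing B := IsLocalRing.of_isUnit_or_isUnit_one_sub_self fun x => by
    rcases IsLocalRing.isUnit_or_isUnit_one_sub_self (ψ x) with h | h
    · exact Or.inl (hunit x h)
    · exact Or.inr (hunit _ (by rwa [map_sub, map_one]))
  refine ⟨inferInstance, ?_⟩
  have hsq : RingHom.ker ψ ≤ maximalIdeal B ^ 2 := hkerψ.trans (by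
    rw [Ideal.map_pow]; exact Ideal.pow_right_mono (hcomap _ (maximalIdeal.isMaximal B)) 2)
  rw [linearIndependent_iff_derSurj, derSurj_quotient_sq, ← hiff,
    spanFinrank_maximalIdeal_of_surjective ψ hψ hsq,
    spanFinrank_maximalIdeal_of_surjective π Ideal.Quotient.mk_surjective (le_of_eq Ideal.mk_ker)]
  constructor
  · intro h
    haveI := h
    haveI := IsRegularLocalRing.of_isRegularRing_of_isLocalRing B
    have := IsRegularLocalRing.spanFinrank_maximalIdeal (R := B)
    rw [hdimB] at this
    exact_mod_cast this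
  · intro h
    haveI : IsRegularLocalRing B := (isRegularLocalRing_iff B).2 (by rw [h, hdimB])
    exact isRegularRing_of_isRegularLocalRing B

end CommAlgDim
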