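import Mathlib.Analysis.Polynomial.Basic
import Mathlib.Data.Nat.Choose.Sum
import Mathlib.Order.Filter.AtTopBot.Archimedean

/-! Numerical polynomials: antidifferences and degree comparisons. -/

set_option autoImplicit false

open Polynomial Filter

namespace CommAlgDim

theorem exists_antidiff : ∀ (k : ℕ) (P : ℚ[X]), P.natDegree ≤ k →
    ∃ Q : ℚ[X], Q.natDegree ≤ k + 1 ∧ Q.comp (X + 1) - Q = P
  | 0, P, hP => by
    refine ⟨C (P.coeff 0) * X, (natDegree_C_mul_le _ _).trans natDegree_X_le, ?_⟩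
    conv_rhs => rw [eq_C_of_natDegree_le_zero hP]
    simp [mul_comp, mul_add]
  | k + 1, P, hP => by
    set a : ℚ := P.coeff (k + 1) / (k + 2) with ha
    let Q₀ : ℚ[X] := C a * X ^ (k + 2)
    have hR : (P - (Q₀.comp (X + 1) - Q₀)).natDegree ≤ k := by
      rw [natDegree_le_iff_coeff_eq_zero]
      intro N hN
      simp only [Q₀, mul_comp, C_comp, X_pow_comp, coeff_sub, coeff_C_mul, coeff_X_add_one_pow, coeff_X_pow]
      rcases lt_trichotomy N (k + 2) with h | rfl | h
      · obtain rfl : N = k + 1 := by omega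
        rw [if_neg (by omega), show k + 2 = k + 1 + 1 from rfl, Nat.choose_succ_self_right, ha]
        push_cast
        field_simp
        ring
      · simp [coeff_eq_zero_of_natDegree_lt (p := P) (by omega : P.natDegree < k + 2)]
      · rw [if_neg (by omega), Nat.choose_eq_zero_of_lt h,
          coeff_eq_zero_of_natDegree_lt (p := P) (by omega : P.natDegree < N)]
        simp
    obtain ⟨Q, hQ, hQ'⟩ := exists_antidiff k _ hR
    refine ⟨Q₀ + Q, natDegree_add_le_of_degree_le (natDegree_C_mul_X_pow_le _ _) (by omega), ?_⟩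
    rw [add_comp]
    linear_combination hQ'

theorem eventually_of_diff {h : ℕ → ℚ} {D : ℚ[X]} {k : ℕ} (hD : D.natDegree ≤ k)
    (heq : ∀ᶠ n : ℕ in atTop, h (n + 1) - h n = D.eval (n : ℚ)) :
    ∃ Q : ℚ[X], (Q.natDegree ≤ k + 1) ∧ (D = 0 → Q.natDegree = 0) ∧
      ∀ᶠ n : ℕ in atTop, h n = Q.eval (n : ℚ) := by
  obtain ⟨Q, hQ, hQ', hQ0⟩ : ∃ Q : ℚ[X], Q.natDegree ≤ k + 1 ∧ Q.comp (X + 1) - Q = D ∧
      (D = 0 → Q = 0) := by
    by_cases h0 : D = 0
    · exact ⟨0, by simp, by simp [h0], fun _ => rfl⟩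
    · obtain ⟨Q, h1, h2⟩ := exists_antidiff k D hD
      exact ⟨Q, h1, h2, fun h => absurd h h0⟩
  obtain ⟨N, hN⟩ := eventually_atTop.1 heq
  refine ⟨Q + C (h N - Q.eval (N : ℚ)), ?_, ?_, eventually_atTop.2 ⟨N, fun n hn => ?_⟩⟩
  · rwa [natDegree_add_C]
  · intro h0
    rw [natDegree_add_C, hQ0 h0, natDegree_zero]
  induction n, hn using Nat.le_induction with
  | base => simp
  | succ n hn ih =>
    have e := congrArg (fun p : ℚ[X] => p.eval (n : ℚ)) hQ'
    simp only [eval_sub, eval_comp, eval_add, eval_X, eval_one] at e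
    rw [eval_add, eval_C] at ih ⊢
    push_cast
    linear_combination hN n hn + ih - e

theorem eventually_nonneg_cast {f : ℚ[X]} {h : ℕ → ℕ}
    (hf : ∀ᶠ n in atTop, (h n : ℚ) = f.eval (n : ℚ)) : ∀ᶠ n : ℕ in atTop, 0 ≤ f.eval (n : ℚ) :=
  hf.mono fun n hn => hn ▸ Nat.cast_nonneg _

theorem natDegree_le_of_eventually_le {f g : ℚ[X]} (h0 : ∀ᶠ n : ℕ in atTop, 0 ≤ f.eval (n : ℚ))
    (h : ∀ᶠ n : ℕ in atTop, f.eval (n : ℚ) ≤ g.eval (n : ℚ)) : f.natDegree ≤ g.natDegree := by
  by_contra hlt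
  push Not at hlt
  have hpos : 0 < f.natDegree := by omega
  have key : ∀ p : ℚ[X], p.natDegree = f.natDegree → 0 ≤ p.leadingCoeff →
      Tendsto (fun n : ℕ => p.eval (n : ℚ)) atTop atTop := fun p hp hl =>
    (tendsto_atTop_of_leadingCoeff_nonneg p (natDegree_pos_iff_degree_pos.1 (hp ▸ hpos)) hl).comp
      tendsto_natCast_atTop_atTop
  rcases le_or_gt 0 f.leadingCoeff with hl | hl
  · have hd : (f - g).natDegree = f.natDegree := natDegree_sub_eq_left_of_natDegree_lt hlt
    have hlc : (f - g).leadingCoeff = f.leadingCoeff := by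
      rw [leadingCoeff, hd, coeff_sub, coeff_eq_zero_of_natDegree_lt hlt, sub_zero]
      rfl
    obtain ⟨n, hn1, hn2⟩ := (((key _ hd (hlc.symm ▸ hl)).eventually (eventually_gt_atTop 0)).and h).exists
    simp only [eval_sub] at hn1
    linarith
  · obtain ⟨n, hn1, hn2⟩ := (((key (-f) (natDegree_neg f)
      (by rw [leadingCoeff_neg]; linarith)).eventually (eventually_gt_atTop 0)).and h0).exists
    simp only [eval_neg] at hn1
    linarith

/-- A numerical polynomial of degree `d` that is eventually nonnegative dominates a multiple of `n ^ d`. -/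
theorem exists_pos_mul_pow_le {f : ℚ[X]} (hd : 0 < f.natDegree)
    (h0 : ∀ᶠ n : ℕ in atTop, 0 ≤ f.eval (n : ℚ)) :
    ∃ c : ℚ, 0 < c ∧ ∀ᶠ n : ℕ in atTop, c * (n : ℚ) ^ f.natDegree ≤ f.eval (n : ℚ) := by
  have hlc : 0 < f.leadingCoeff := by
    rcases lt_or_ge 0 f.leadingCoeff with h | h
    · exact h
    · exfalso
      have hne : f.leadingCoeff ≠ 0 := leadingCoeff_ne_zero.2 (ne_zero_of_natDegree_gt hd)
      have := ((tendsto_atTop_of_leadingCoeff_nonneg (-f)
        (natDegree_pos_iff_degree_pos.1 (by rwa [natDegree_neg]))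
        (by rw [leadingCoeff_neg]; linarith)).comp tendsto_natCast_atTop_atTop).eventually
          (eventually_gt_atTop 0)
      obtain ⟨n, hn1, hn2⟩ := (this.and h0).exists
      simp only [Function.comp_apply, eval_neg] at hn1
      linarith
  refine ⟨f.leadingCoeff / 2, by positivity, ?_⟩
  set g := f - C (f.leadingCoeff / 2) * X ^ f.natDegree with hg
  have hgd : g.natDegree = f.natDegree := by
    refine le_antisymm ((natDegree_sub_le _ _).trans (max_le le_rfl (natDegree_C_mul_X_pow_le _ _)))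
      (le_natDegree_of_ne_zero ?_)
    rw [hg, coeff_sub, coeff_C_mul_X_pow, if_pos rfl]
    show f.leadingCoeff - _ ≠ 0
    intro h
    linarith
  have hgl : 0 ≤ g.leadingCoeff := by
    rw [leadingCoeff, hgd, hg, coeff_sub, coeff_C_mul_X_pow, if_pos rfl]
    show 0 ≤ f.leadingCoeff - _
    linarith
  filter_upwards [((tendsto_atTop_of_leadingCoeff_nonneg g
    (natDegree_pos_iff_degree_pos.1 (hgd.symm ▸ hd)) hgl).comp tendsto_natCast_atTop_atTop).eventually
      (eventually_ge_atTop 0)] with n hn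
  simp only [Function.comp_apply, hg, eval_sub, eval_mul, eval_C, eval_pow, eval_X] at hn
  linarith

theorem natDegree_sub_comp_lt {P : ℚ[X]} (hP : 0 < P.natDegree) (c : ℚ) :
    (P - P.comp (X - C c)).natDegree < P.natDegree := by
  have h1 : (P.comp (X - C c)).natDegree = P.natDegree := by
    rw [natDegree_comp, natDegree_X_sub_C, mul_one]
  refine lt_of_le_of_ne ((natDegree_sub_le _ _).trans (by rw [h1, max_self])) fun heq => ?_
  have h2 : (P.comp (X - C c)).leadingCoeff = P.leadingCoeff := by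
    rw [leadingCoeff_comp (by rw [natDegree_X_sub_C]; omega), leadingCoeff_X_sub_C, one_pow, mul_one]
  have hz : (P - P.comp (X - C c)).leadingCoeff = 0 := by
    rw [leadingCoeff, heq, coeff_sub]
    rw [leadingCoeff, h1] at h2
    rw [h2]
    exact sub_self _
  rw [leadingCoeff_eq_zero] at hz
  rw [hz, natDegree_zero] at heq
  omega

end CommAlgDim
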