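import Groth.Prelude.Def_EGA4c
import Groth.Agent.CommAlgDim.Depth

/-! Sections of `M~` over the complement of a closed subset. -/

set_option autoImplicit false
set_option linter.style.haveILetI false
set_option maxHeartbeats 400000
universe u

open AlgebraicGeometry CategoryTheory Opposite TopologicalSpace Pointwise

namespace CommAlgDim.PunctSections

variable {R : CommRingCat.{u}} (M : ModuleCat.{u} R)

/-- Sections of `M~` over `U`. -/
noncomputable abbrev Sec (U : (Spec R).Opens) := (modulesSpecToSheaf.obj (tilde M)).presheaf.obj (op U)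

/-- Restriction. -/
noncomputable def res {U V : (Spec R).Opens} (h : V ≤ U) : Sec M U →ₗ[R] Sec M V :=
  ((modulesSpecToSheaf.obj (tilde M)).presheaf.map (homOfLE h).op).hom

/-- The canonical map. -/
noncomputable def toSec (U : (Spec R).Opens) : M →ₗ[R] Sec M U := (tilde.toOpen M U).hom

theorem bijective_toSec_top : Function.Bijective (toSec M ⊤) :=
  ConcreteCategory.bijective_of_isIso (tilde.toOpen M ⊤)

variable {M}

/-- The basic open, as an open of the scheme. -/
noncomputable def bo {R : CommRingCat.{u}} (f : R) : (Spec R).Opens := PrimeSpectrum.basicOpen f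

theorem res_toSec {U V : (Spec R).Opens} (h : V ≤ U) (m : M) : res M h (toSec M U m) = toSec M V m :=
  rfl

theorem res_res {U V W : (Spec R).Opens} (h : V ≤ U) (h' : W ≤ V) (s : Sec M U) :
    res M h' (res M h s) = res M (h'.trans h) s := by
  simp only [res, ← LinearMap.comp_apply, ← ModuleCat.hom_comp, ← Functor.map_comp]
  rfl

instance (f : R) : IsLocalizedModule (Submonoid.powers f) (toSec M (bo f)) :=
  inferInstanceAs (IsLocalizedModule.Away f (tilde.toOpen M (PrimeSpectrum.basicOpen f)).hom)

theorem toSec_basicOpen_eq_zero_iff (f : R) (m : M) :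
    toSec M (bo f) m = 0 ↔ ∃ n : ℕ, f ^ n • m = 0 := by
  rw [IsLocalizedModule.eq_zero_iff (Submonoid.powers f) (toSec M (bo f))]
  exact ⟨fun ⟨⟨_, n, rfl⟩, h⟩ => ⟨n, h⟩, fun ⟨n, h⟩ => ⟨⟨f ^ n, n, rfl⟩, h⟩⟩

theorem exists_pow_smul_eq (f : R) (z : Sec M (bo f)) :
    ∃ (n : ℕ) (m : M), f ^ n • z = toSec M (bo f) m := by
  obtain ⟨⟨m, ⟨_, n, rfl⟩⟩, h⟩ :=
    IsLocalizedModule.surj (Submonoid.powers f) (toSec M (bo f)) z
  exact ⟨n, m, h⟩

theorem isSMulRegular_sec {U : (Spec R).Opens} {f : R} (h : U ≤ bo f) :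
    IsSMulRegular (Sec M U) f :=
  Scheme.Modules.isSMulRegular_of_le_basicOpen (M := tilde M) h

theorem sec_ext {ι : Type u} (W : ι → (Spec R).Opens) {U : (Spec R).Opens} (hW : ∀ i, W i ≤ U)
    (hcov : U ≤ ⨆ i, W i) {s t : Sec M U} (h : ∀ i, res M (hW i) s = res M (hW i) t) : s = t :=
  TopCat.Sheaf.eq_of_locally_eq' (modulesSpecToSheaf.obj (tilde M)) W U (fun i => homOfLE (hW i))
    hcov s t h

/-- The complement of `V(J)`. -/
noncomputable def compl (J : Ideal R) : (Spec R).Opens :=
  ⟨(PrimeSpectrum.zeroLocus (J : Set R))ᶜ, (PrimeSpectrum.isClosed_zeroLocus _).isOpen_compl⟩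

theorem basicOpen_le_compl {J : Ideal R} {f : R} (hf : f ∈ J) :
    (bo f) ≤ compl J := fun _ hp h => hp (h hf)

theorem compl_le_iSup {J : Ideal R} {S : Set R} (hS : Ideal.span S = J) :
    compl J ≤ ⨆ f : S, (bo (f : R)) := by
  intro p hp
  have hp' : ¬ (J ≤ p.asIdeal) := fun h => hp h
  rw [← hS, Ideal.span_le, Set.not_subset] at hp'
  obtain ⟨f, hfS, hfp⟩ := hp'
  exact Opens.mem_iSup.2 ⟨⟨f, hfS⟩, hfp⟩

theorem mem_of_span_eq {J : Ideal R} {S : Set R} (hS : Ideal.span S = J) {f : R} (hf : f ∈ S) :
    f ∈ J := hS ▸ Ideal.subset_span hf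

theorem toSec_compl_eq_zero_iff (J : Ideal R) (m : M) :
    toSec M (compl J) m = 0 ↔ ∀ f ∈ J, ∃ n : ℕ, f ^ n • m = 0 := by
  refine ⟨fun h f hf => ?_, fun h => ?_⟩
  · rw [← toSec_basicOpen_eq_zero_iff, ← res_toSec (basicOpen_le_compl hf), h, map_zero]
  · refine sec_ext (fun f : (J : Set R) => bo (f : R))
      (fun f => basicOpen_le_compl f.2) (compl_le_iSup (Ideal.span_eq J)) fun f => ?_
    rw [res_toSec, map_zero, toSec_basicOpen_eq_zero_iff]
    exact h _ f.2

variable [IsNoetherianRing R]

theorem injective_toSec_iff (J : Ideal R) :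
    Function.Injective (toSec M (compl J)) ↔ ∀ p ∈ associatedPrimes R M, ¬ J ≤ p := by
  rw [injective_iff_map_eq_zero]
  refine ⟨fun h p hp hle => ?_, fun h m hm => ?_⟩
  · obtain ⟨hpp, v, hv⟩ := (isAssociatedPrime_iff (R := R) (I := p) (M := M)).1 hp
    have hv0 : v = 0 := h v ((toSec_compl_eq_zero_iff J v).2 fun f hf => ⟨1, by
      rw [pow_one]
      have := hle hf
      rw [hv, Submodule.mem_colon_singleton, Submodule.mem_bot] at this
      exact this⟩)
    exact hpp.ne_top ((Ideal.eq_top_iff_one _).2 (by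
      rw [hv, Submodule.mem_colon_singleton, hv0, smul_zero]; exact zero_mem _))
  · by_contra hne
    obtain ⟨P, hP, hmP⟩ := exists_le_isAssociatedPrime_of_isNoetherianRing R m hne
    refine h P hP fun f hf => ?_
    obtain ⟨n, hn⟩ := (toSec_compl_eq_zero_iff J m).1 hm f hf
    exact hP.isPrime.mem_of_pow_mem n (hmP (by
      rw [Submodule.mem_colon_singleton, Submodule.mem_bot]; exact hn))

theorem exists_pow_smul_eq_toSec (J : Ideal R) (s : Sec M (compl J)) {f : R} (hf : f ∈ J) :
    ∃ (n : ℕ) (m : M), f ^ n • s = toSec M (compl J) m := by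
  classical
  obtain ⟨S, hS⟩ := IsNoetherian.noetherian J
  obtain ⟨k, m, hk⟩ := exists_pow_smul_eq f (res M (basicOpen_le_compl hf) s)
  let d := f ^ k • s - toSec M (compl J) m
  have hd : res M (basicOpen_le_compl hf) d = 0 := by
    simp only [d, map_sub, map_smul, res_toSec, hk, sub_self]
  have key : ∀ g : (S : Set R), ∃ N : ℕ, ∀ N' ≥ N,
      f ^ N' • res M (basicOpen_le_compl (mem_of_span_eq hS g.2)) d = 0 := by
    rintro ⟨g, hg⟩
    let Dg : (Spec R).Opens := bo g
    let Dfg : (Spec R).Opens := bo (f * g)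
    have h1 : Dfg ≤ Dg := (PrimeSpectrum.basicOpen_mul_le_right f g)
    have h2 : Dfg ≤ (bo f) :=
      PrimeSpectrum.basicOpen_mul_le_left f g
    obtain ⟨j, m', hj⟩ := exists_pow_smul_eq g
      (res M (basicOpen_le_compl (mem_of_span_eq hS hg)) d)
    have h3 : toSec M Dfg m' = 0 := by
      have := congrArg (res M h1) hj
      rw [map_smul, res_res, res_toSec] at this
      rw [← this]
      have h4 : res M ((h1.trans (basicOpen_le_compl (mem_of_span_eq hS hg)))) d = 0 := by
        have := congrArg (res M h2) hd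
        rw [map_zero, res_res] at this
        exact this
      rw [h4, smul_zero]
    obtain ⟨N, hN⟩ := (toSec_basicOpen_eq_zero_iff (f * g) m').1 h3
    refine ⟨N, fun N' hN' => ?_⟩
    have hreg : IsSMulRegular (Sec M Dg) g := isSMulRegular_sec le_rfl
    refine (hreg.pow (N + j)).right_eq_zero_of_smul ?_
    obtain ⟨e, rfl⟩ := Nat.exists_eq_add_of_le hN'
    have : g ^ (N + j) • f ^ (N + e) • res M (basicOpen_le_compl (mem_of_span_eq hS hg)) d
        = f ^ e • toSec M Dg ((f * g) ^ N • m') := by
      rw [map_smul, ← hj, smul_smul, smul_smul, smul_smul]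
      congr 1
      ring
    rw [this, hN, map_zero, smul_zero]
  choose N hN using key
  let N0 := Finset.univ.sup N
  refine ⟨N0 + k, f ^ N0 • m, sub_eq_zero.1 ?_⟩
  rw [pow_add, mul_smul, map_smul, ← smul_sub]
  refine sec_ext (fun g : (S : Set R) => bo (g : R))
    (fun g => basicOpen_le_compl (mem_of_span_eq hS g.2)) (compl_le_iSup hS) fun g => ?_
  rw [map_smul, map_zero]
  exact hN g N0 (Finset.le_sup (Finset.mem_univ g))

omit [IsNoetherianRing R] in
theorem isSMulRegular_toSec {x : R} (hx : IsSMulRegular M x) (J : Ideal R) :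
    IsSMulRegular (Sec M (compl J)) x := by
  refine isSMulRegular_iff_right_eq_zero_of_smul.2 fun s hs => ?_
  refine sec_ext (fun f : (J : Set R) => bo (f : R))
    (fun f => basicOpen_le_compl f.2) (compl_le_iSup (Ideal.span_eq J)) fun f => ?_
  obtain ⟨n, m, hm⟩ := exists_pow_smul_eq (f : R) (res M (basicOpen_le_compl f.2) s)
  have h1 : toSec M (bo (f : R)) (x • m) = 0 := by
    rw [map_smul, ← hm, smul_comm, ← map_smul, hs, map_zero, smul_zero]
  obtain ⟨k, hk⟩ := (toSec_basicOpen_eq_zero_iff _ _).1 h1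
  rw [smul_comm] at hk
  have h2 := (toSec_basicOpen_eq_zero_iff (M := M) (f : R) m).2 ⟨k, hx.right_eq_zero_of_smul hk⟩
  rw [h2] at hm
  rw [map_zero]
  exact IsSMulRegular.right_eq_zero_of_smul ((isSMulRegular_sec (M := M) (le_refl (bo (f : R)))).pow n) hm

variable [Module.Finite R M]

/-- Surjectivity from depth at least two on `V(J)`. -/
theorem surjective_toSec (J : Ideal R)
    (h : ∀ (p : Ideal R) [p.IsPrime], J ≤ p →
      2 ≤ LocCoh.depth (Localization.AtPrime p) (LocalizedModule p.primeCompl M)) :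
    Function.Surjective (toSec M (compl J)) := by
  intro s
  let T : Ideal R := (LinearMap.range (toSec M (compl J))).comap (LinearMap.toSpanSingleton R _ s)
  have hJT : J ≤ T.radical := fun f hf => by
    obtain ⟨n, m, hnm⟩ := exists_pow_smul_eq_toSec J s hf
    exact ⟨n, m, hnm.symm⟩
  have hseq : HasSeqIn T M 2 := hasSeqIn_of_forall_localization 2 M fun p hp hle =>
    (le_depth_iff 2).1 (h p (hJT.trans (hp.radical_le_iff.2 hle)))
  have hinj : Function.Injective (toSec M (compl J)) :=
    (injective_toSec_iff J).2 fun p hp hle => by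
      have := hp.isPrime
      refine maximalIdeal_notMem_of_hasSeqIn_one ((le_depth_iff 1).1 ?_) hp
      exact le_trans (by norm_num) (h p hle)
  obtain ⟨rs, hl, hm, hr⟩ := hseq
  obtain ⟨x, y, rfl⟩ := List.length_eq_two.1 hl
  rw [RingTheory.Sequence.isWeaklyRegular_cons_iff,
    RingTheory.Sequence.isWeaklyRegular_singleton_iff] at hr
  obtain ⟨a, ha⟩ := hm x (by simp)
  obtain ⟨b, hb⟩ := hm y (by simp)
  change toSec M (compl J) a = x • s at ha
  change toSec M (compl J) b = y • s at hb
  have hab : y • a = x • b := hinj (by rw [map_smul, map_smul, ha, hb, smul_comm])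
  obtain ⟨c, -, hc⟩ : a ∈ x • (⊤ : Submodule R M) := by
    rw [← Submodule.Quotient.mk_eq_zero]
    refine hr.2.right_eq_zero_of_smul ?_
    rw [← Submodule.Quotient.mk_smul, hab, Submodule.Quotient.mk_eq_zero]
    exact Submodule.smul_mem_pointwise_smul _ _ _ trivial
  refine ⟨c, isSMulRegular_toSec hr.1 J ?_⟩
  show x • toSec M (compl J) c = x • s
  rw [← map_smul, ← ha]
  exact congrArg _ hc

/-- Depth at least two from bijectivity for `V(p)`. -/
theorem two_le_depth (p : Ideal R) [p.IsPrime] (h : Function.Bijective (toSec M (compl p))) :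
    2 ≤ LocCoh.depth (Localization.AtPrime p) (LocalizedModule p.primeCompl M) := by
  obtain ⟨x, hxp, hx⟩ := exists_isSMulRegular_mem ((injective_toSec_iff p).1 h.1)
  suffices hq : ∀ q ∈ associatedPrimes R (QuotSMulTop x M), ¬ p ≤ q from
    (le_depth_iff 2).2
      ((hasSeqIn_succ_of_cons hxp hx ((hasSeqIn_one_iff p).2 hq)).localization le_rfl)
  intro q hq hle
  obtain ⟨hqp, v, hv⟩ := (isAssociatedPrime_iff (R := R) (I := q) (M := QuotSMulTop x M)).1 hq
  obtain ⟨m, rfl⟩ := Submodule.Quotient.mk_surjective _ v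
  have hfm : ∀ f ∈ p, ∃ c : M, x • c = f • m := fun f hf => by
    have := hle hf
    rw [hv, Submodule.mem_colon_singleton, Submodule.mem_bot, ← Submodule.Quotient.mk_smul,
      Submodule.Quotient.mk_eq_zero] at this
    obtain ⟨c, -, hc⟩ := this
    exact ⟨c, hc⟩
  choose c hc using hfm
  let D : ↥(p : Set R) → (Spec R).Opens := fun f => bo (f : R)
  have hsur : ∀ f : (p : Set R), ∃ a : Sec M (D f), (f : R) • a = toSec M (D f) (c f f.2) := by
    intro f
    have hu := (Module.End.isUnit_iff _).1
      (Scheme.Modules.isUnit_algebraMap_end_of_le_basicOpen (M := tilde M) (U := D f) (f : R) le_rfl)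
    exact hu.surjective (toSec M (D f) (c f f.2))
  choose sf hsf using hsur
  have hcompat : TopCat.Presheaf.IsCompatible (modulesSpecToSheaf.obj (tilde M)).presheaf D sf := by
    intro f g
    refine ((isSMulRegular_sec (f := (f : R)) (inf_le_left (a := D f) (b := D g))).mul
      (isSMulRegular_sec (f := (g : R)) inf_le_right)) ?_
    show ((f : R) * g) • res M inf_le_left (sf f) = ((f : R) * g) • res M inf_le_right (sf g)
    have h1 : (g : R) • c f f.2 = (f : R) • c g g.2 := hx (by
      show x • (g : R) • c f f.2 = x • (f : R) • c g g.2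
      rw [smul_comm, hc, smul_comm x, hc, smul_comm])
    calc ((f : R) * g) • res M inf_le_left (sf f)
        = (g : R) • res M inf_le_left ((f : R) • sf f) := by rw [map_smul, smul_smul, mul_comm]
      _ = (f : R) • res M inf_le_right ((g : R) • sf g) := by
        rw [hsf, hsf, res_toSec, res_toSec, ← map_smul, ← map_smul, h1]
      _ = ((f : R) * g) • res M inf_le_right (sf g) := by rw [map_smul, smul_smul]
  obtain ⟨s, hs, -⟩ := TopCat.Sheaf.existsUnique_gluing' (modulesSpecToSheaf.obj (tilde M)) D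
    (compl p) (fun f => homOfLE (basicOpen_le_compl f.2)) (compl_le_iSup (Ideal.span_eq p)) sf hcompat
  obtain ⟨e, rfl⟩ := h.2 s
  have hm : m = x • e := h.1 (sec_ext D (fun f => basicOpen_le_compl f.2)
    (compl_le_iSup (Ideal.span_eq p)) fun f => by
      rw [res_toSec, res_toSec]
      refine isSMulRegular_sec (f := (f : R)) le_rfl ?_
      show (f : R) • toSec M (D f) m = (f : R) • toSec M (D f) (x • e)
      rw [← map_smul, ← hc f f.2, map_smul, ← hsf, map_smul, smul_comm x]
      exact congrArg (fun z => (f : R) • x • z) (hs f).symm)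
  refine hqp.ne_top ((Ideal.eq_top_iff_one _).2 ?_)
  rw [hv, Submodule.mem_colon_singleton, Submodule.mem_bot, one_smul, Submodule.Quotient.mk_eq_zero, hm]
  exact Submodule.smul_mem_pointwise_smul _ _ _ trivial

/-- The headline local statement: `V(J)` is invisible iff the depth is at least two along it. -/
theorem bijective_toSec (J : Ideal R)
    (h : ∀ (p : Ideal R) [p.IsPrime], J ≤ p →
      2 ≤ LocCoh.depth (Localization.AtPrime p) (LocalizedModule p.primeCompl M)) :
    Function.Bijective (toSec M (compl J)) :=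
  ⟨(injective_toSec_iff J).2 fun p hp hle => by
    have := hp.isPrime
    refine maximalIdeal_notMem_of_hasSeqIn_one ((le_depth_iff 1).1 ?_) hp
    exact le_trans (by norm_num) (h p hle), surjective_toSec J h⟩

/-- `restrCompl` and the canonical map agree. -/
theorem restr_bij_iff (A : Type u) [CommRing A] (J : Ideal A) (M : Type u) [AddCommGroup M] [Module A M] :
    Function.Bijective (EGA4.restrCompl A J M) ↔ Function.Bijective
      (toSec (R := CommRingCat.of A) (M := ModuleCat.of (CommRingCat.of A) M) (compl J)) := by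
  have h : ⇑(toSec (R := CommRingCat.of A) (M := ModuleCat.of (CommRingCat.of A) M) (compl J)) =
      (EGA4.restrCompl A J M) ∘ (toSec (R := CommRingCat.of A) (M := ModuleCat.of (CommRingCat.of A) M) ⊤) := rfl
  rw [h]
  exact (Function.Bijective.of_comp_iff _ (bijective_toSec_top
    (R := CommRingCat.of A) (ModuleCat.of (CommRingCat.of A) M))).symm

/-- The same for injectivity. -/
theorem restr_inj_iff (A : Type u) [CommRing A] (J : Ideal A) (M : Type u) [AddCommGroup M] [Module A M] :
    Function.Injective (EGA4.restrCompl A J M) ↔ Function.Injective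
      (toSec (R := CommRingCat.of A) (M := ModuleCat.of (CommRingCat.of A) M) (compl J)) := by
  have h : ⇑(toSec (R := CommRingCat.of A) (M := ModuleCat.of (CommRingCat.of A) M) (compl J)) =
      (EGA4.restrCompl A J M) ∘ (toSec (R := CommRingCat.of A) (M := ModuleCat.of (CommRingCat.of A) M) ⊤) := rfl
  rw [h]
  exact (Function.Injective.of_comp_iff' _ (bijective_toSec_top
    (R := CommRingCat.of A) (ModuleCat.of (CommRingCat.of A) M))).symm

theorem zeroLocus_subset {A : Type u} [CommRing A] {Z : Set (PrimeSpectrum A)}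
    (hZ : StableUnderSpecialization Z) {p : PrimeSpectrum A} (hp : p ∈ Z) :
    PrimeSpectrum.zeroLocus (p.asIdeal : Set A) ⊆ Z := fun q hq =>
  hZ ((PrimeSpectrum.le_iff_specializes p q).1 hq) hp

end CommAlgDim.PunctSections
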